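import Groth.Agent.PicLiftLib.Descent
import Groth.Agent.RegLocal.UFD
import Groth.Agent.RegLocal.Consequences
import Groth.Agent.GorLib.Heights
import Groth.Agent.CMCat.ComplQuot
import Groth.Agent.FlatDepth.Fibres
import Groth.Agent.FiniteCompleteLib.Basic
import Groth.Agent.ParaFLib.UFD

/-!
# Complete intersections of dimension at least four are parafactorial
-/

set_option autoImplicit false
set_option linter.style.haveILetI false
set_option linter.unusedSectionVars false

universe u

open IsLocalRing RingTheory.Sequence Pointwise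

namespace Groth.Agent.PicLiftLib

theorem depth_quot_ofList {R : Type u} [CommRing R] [IsLocalRing R] [IsNoetherianRing R] :
    ∀ (rs : List R) (M : Type u) [AddCommGroup M] [Module R M] [Module.Finite R M] [Nontrivial M],
      (∀ r ∈ rs, r ∈ maximalIdeal R) → IsWeaklyRegular M rs →
      LocCoh.depth R (M ⧸ Ideal.ofList rs • (⊤ : Submodule R M)) + (rs.length : ℕ∞) = LocCoh.depth R M := by
  intro rs
  induction rs with
  | nil =>
    intro M _ _ _ _ _ _
    rw [List.length_nil, Nat.cast_zero, add_zero]
    exact (FlatDepth.depth_congr ((Submodule.quotEquivOfEqBot _ (by simp)).symm)).symm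
  | cons r rs ih =>
    intro M _ _ _ _ hm hw
    have h := (isWeaklyRegular_cons_iff M r rs).1 hw
    haveI := FlatDepth.nontrivial_quotSMulTop (M := M) (hm r List.mem_cons_self)
    rw [FlatDepth.depth_congr (Submodule.quotOfListConsSMulTopEquivQuotSMulTopInner M r rs), List.length_cons,
      Nat.cast_add, Nat.cast_one, ← add_assoc, ih _ (fun s hs => hm s (List.mem_cons_of_mem _ hs)) h.2]
    exact FlatDepth.depth_quotSMulTop (hm r List.mem_cons_self) h.1

theorem ofList_ne_top {R : Type u} [CommRing R] [IsLocalRing R] {rs : List R} (hm : ∀ r ∈ rs, r ∈ maximalIdeal R) :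
    Ideal.ofList rs ≠ ⊤ :=
  ne_top_of_le_ne_top (maximalIdeal.isMaximal R).ne_top (Ideal.span_le.2 hm)

theorem depth_ci {R : Type u} [CommRing R] [IsRegularLocalRing R] {rs : List R} (hm : ∀ r ∈ rs, r ∈ maximalIdeal R)
    (hreg : IsRegular R rs) [IsLocalRing (R ⧸ Ideal.ofList rs)] :
    ((LocCoh.depth (R ⧸ Ideal.ofList rs) (R ⧸ Ideal.ofList rs) : ℕ∞) : WithBot ℕ∞) + rs.length = ringKrullDim R := by
  have h := depth_quot_ofList rs R hm hreg.1
  have e : Ideal.ofList rs • (⊤ : Submodule R R) = Ideal.ofList rs := by rw [smul_eq_mul, Ideal.mul_top]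
  rw [FlatDepth.depth_congr (Submodule.quotEquivOfEq _ _ e),
    ← FlatDepth.depth_of_surjective (R := R ⧸ Ideal.ofList rs) (Ideal.Quotient.mk_surjective) (R ⧸ Ideal.ofList rs)] at h
  haveI : LocCoh.IsCohenMacaulayLocalRing R := GorLib.isCohenMacaulay R (GorLib.gorensteinLocal_of_regular R)
  rw [← Module.supportDim_self_eq_ringKrullDim (R := R), LocCoh.IsCohenMacaulayLocalRing.supportDim_eq_depth, ← h]
  rfl

theorem dim_ci {R : Type u} [CommRing R] [IsRegularLocalRing R] {rs : List R} (hm : ∀ r ∈ rs, r ∈ maximalIdeal R)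
    (hreg : IsRegular R rs) [IsLocalRing (R ⧸ Ideal.ofList rs)] :
    ringKrullDim (R ⧸ Ideal.ofList rs) + rs.length = ringKrullDim R :=
  ringKrullDim_add_length_eq_ringKrullDim_of_isRegular rs hreg

theorem withBot_cancel {a b : WithBot ℕ∞} {n : ℕ} (h : a + n ≤ b + n) : a ≤ b := by
  induction a with
  | bot => exact bot_le
  | coe a =>
    induction b with
    | bot => simp at h
    | coe b =>
      norm_cast at h ⊢
      exact (ENat.add_le_add_iff_right (ENat.natCast_ne_top n)).1 h

theorem comap_lt {R S : Type u} [CommRing R] [CommRing S] (π : R →+* S) (hπ : Function.Surjective π) {a b : Ideal S}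
    (h : a < b) : a.comap π < b.comap π :=
  lt_of_le_of_ne (Ideal.comap_mono h.le) fun e => h.ne (Ideal.comap_injective_of_surjective π hπ e)

/-- The descent step: from `B` to `B/fB`. -/
theorem parafactorial_quot_step {B : Type u} [CommRing B] [IsLocalRing B] [IsNoetherianRing B] (f : B)
    (hf : f ∈ maximalIdeal B) (hreg : IsSMulRegular B f) [IsAdicComplete (Ideal.span {f}) B]
    [IsLocalRing (Th f 0)] (hd : (4 : ℕ∞) ≤ LocCoh.depth (Th f 0) (Th f 0))
    (hB : ParaF.IsParafactorialLocalRing B)
    (hpar : ∀ (q : Ideal B) [q.IsPrime], f ∉ q → q ≠ maximalIdeal B →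
      (∀ q' : Ideal B, q'.IsPrime → q < q' → q' = maximalIdeal B) → ParaF.IsParafactorialLocalRing (Localization.AtPrime q)) :
    ParaF.IsParafactorialLocalRing (Th f 0) :=
  haveI : Fact (IsSMulRegular B f) := ⟨hreg⟩
  (ParaFLib.isParafactorialLocalRing_iff _).2
    ⟨ParaFLib.bijective_res_punctured_of_depth _ (le_trans (by norm_num) hd), picTrivial_thickening hf hd hB hpar⟩

theorem four_le_depth {R : Type u} [CommRing R] [IsRegularLocalRing R] {rs : List R} (hm : ∀ r ∈ rs, r ∈ maximalIdeal R)
    (hreg : IsRegular R rs) [IsLocalRing (R ⧸ Ideal.ofList rs)]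
    (h : (4 : WithBot ℕ∞) ≤ ringKrullDim (R ⧸ Ideal.ofList rs)) :
    (4 : ℕ∞) ≤ LocCoh.depth (R ⧸ Ideal.ofList rs) (R ⧸ Ideal.ofList rs) := by
  have := withBot_cancel (n := rs.length) (le_of_eq ((dim_ci hm hreg).trans (depth_ci hm hreg).symm))
  exact WithBot.coe_le_coe.1 (h.trans this)

theorem parafactorial_ci : ∀ (k : ℕ) (R : Type u) [CommRing R] [IsRegularLocalRing R] (rs : List R),
    rs.length = k → (∀ r ∈ rs, r ∈ maximalIdeal R) → IsRegular R rs →
    ∀ (A : Type u) [CommRing A] [IsNoetherianRing A] [IsLocalRing A], (A ≃+* R ⧸ Ideal.ofList rs) →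
      (4 : WithBot ℕ∞) ≤ ringKrullDim A → ParaF.IsParafactorialLocalRing A := by
  intro k
  induction k with
  | zero =>
    intro R _ _ rs hlen _ _ A _ _ _ e hdim
    obtain rfl : rs = [] := List.eq_nil_of_length_eq_zero hlen
    let e' : A ≃+* R := e.trans ((Ideal.quotEquivOfEq (Ideal.ofList_nil (R := R))).trans (RingEquiv.quotientBot R))
    haveI : IsDomain R := RegLocal.isDomain R
    haveI := RegLocal.ufd R
    refine parafactorial_of_ringEquiv e' (ParaFLib.isParafactorialLocalRing_of_ufd R ?_)
    rw [← ringKrullDim_eq_of_ringEquiv e']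
    exact le_trans (by norm_num) hdim
  | succ k ih =>
    -- the complete case
    have key : ∀ (R : Type u) [CommRing R] [IsRegularLocalRing R] [IsAdicComplete (maximalIdeal R) R] (rs : List R),
        rs.length = k + 1 → (∀ r ∈ rs, r ∈ maximalIdeal R) → IsRegular R rs →
        ∀ [IsLocalRing (R ⧸ Ideal.ofList rs)], (4 : WithBot ℕ∞) ≤ ringKrullDim (R ⧸ Ideal.ofList rs) →
        ParaF.IsParafactorialLocalRing (R ⧸ Ideal.ofList rs) := by
      intro R _ _ _ rs hlen hm hreg _ hdim
      have hne : rs ≠ [] := List.ne_nil_of_length_eq_add_one hlen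
      obtain ⟨rs₀, l, rfl⟩ : ∃ rs₀ l, rs = rs₀ ++ [l] := ⟨rs.dropLast, rs.getLast hne, (List.dropLast_append_getLast hne).symm⟩
      have hlen₀ : rs₀.length = k := by simpa using hlen
      have hm₀ : ∀ r ∈ rs₀, r ∈ maximalIdeal R := fun r hr => hm r (List.mem_append_left _ hr)
      have hl : l ∈ maximalIdeal R := hm l (by simp)
      obtain ⟨hw₀, hwl⟩ := (isWeaklyRegular_append_iff R rs₀ [l]).1 hreg.1
      have hreg₀ : IsRegular R rs₀ := (IsLocalRing.isRegular_iff_isWeaklyRegular_of_subset_maximalIdeal
        (R := R) (M := R) hm₀).2 hw₀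
      let I := Ideal.ofList rs₀
      let B := R ⧸ I
      have hI : I ≠ ⊤ := ofList_ne_top hm₀
      haveI : IsLocalRing B := RegLocal.isLocalRing_quot hI
      let f : B := Ideal.Quotient.mk I l
      have hf : f ∈ maximalIdeal B := by
        rw [RegLocal.maximalIdeal_quot hI]; exact Ideal.mem_map_of_mem _ hl
      have hregf : IsSMulRegular B f := by
        have h1 := (isWeaklyRegular_singleton_iff _ l).1 hwl
        have e : Ideal.ofList rs₀ • (⊤ : Submodule R R) = I := by rw [smul_eq_mul, Ideal.mul_top]
        have h2 : IsSMulRegular B l := ((Submodule.quotEquivOfEq _ _ e).isSMulRegular_congr l).1 h1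
        exact fun x y hxy => h2 ((Algebra.smul_def l x).trans (hxy.trans (Algebra.smul_def l y).symm))
      haveI : IsAdicComplete (maximalIdeal B) B := FiniteCompleteLib.isAdicComplete_maximalIdeal R B
      haveI : IsAdicComplete (Ideal.span {f}) B := AdicLemmas.isAdicComplete_of_le_of_fg
        ((Ideal.span_singleton_le_iff_mem _).2 hf) (Submodule.fg_span_singleton f) B
      let e : Th f 0 ≃+* R ⧸ Ideal.ofList (rs₀ ++ [l]) :=
        (Ideal.quotEquivOfEq (show Ideal.span {f ^ (0 + 1)} = (Ideal.span {l}).map (Ideal.Quotient.mk I) by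
          rw [Ideal.map_span, Set.image_singleton, pow_one])).trans
        ((DoubleQuot.quotQuotEquivQuotSup I (Ideal.span {l})).trans
          (Ideal.quotEquivOfEq (by rw [Ideal.ofList_append, Ideal.ofList_singleton])))
      haveI : IsLocalRing (Th f 0) := e.symm.isLocalRing
      have hd : (4 : ℕ∞) ≤ LocCoh.depth (Th f 0) (Th f 0) := by
        rw [FlatDepth.depth_eq_of_ringEquiv e.symm]; exact four_le_depth hm hreg hdim
      have hdimB : (5 : WithBot ℕ∞) ≤ ringKrullDim B := by
        refine withBot_cancel (n := k) ?_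
        rw [show ringKrullDim B + k = ringKrullDim R by rw [← hlen₀]; exact dim_ci hm₀ hreg₀]
        refine le_trans (le_of_eq ?_) ((add_le_add hdim (le_refl ((k + 1 : ℕ) : WithBot ℕ∞))).trans
          (le_of_eq (hlen ▸ dim_ci hm hreg)))
        norm_cast
        omega
      refine parafactorial_of_ringEquiv e.symm (parafactorial_quot_step f hf hregf hd
        (ih R rs₀ hlen₀ hm₀ hreg₀ B (RingEquiv.refl _) (le_trans (by norm_num) hdimB)) ?_)
      intro q hq hfq hqm hmax
      let P : Ideal R := q.comap (Ideal.Quotient.mk I)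
      haveI : P.IsPrime := Ideal.IsPrime.comap _
      haveI : IsRegularLocalRing (Localization.AtPrime P) := RegLocal.isRegularLocalRing_localization R P
      have hmemP : ∀ r ∈ rs₀, r ∈ P := fun r hr => by
        show Ideal.Quotient.mk I r ∈ q
        rw [Ideal.Quotient.eq_zero_iff_mem.2 (Ideal.subset_span hr : r ∈ I)]
        exact q.zero_mem
      let rsP := rs₀.map (algebraMap R (Localization.AtPrime P))
      have hregP : IsRegular (Localization.AtPrime P) rsP :=
        hreg₀.1.isRegular_of_isLocalization_of_mem (Localization.AtPrime P) P hmemP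
      have hmP : ∀ r ∈ rsP, r ∈ maximalIdeal (Localization.AtPrime P) := fun r hr => by
        obtain ⟨s, hs, rfl⟩ := List.mem_map.1 hr
        exact (IsLocalization.AtPrime.to_map_mem_maximal_iff (Localization.AtPrime P) P s).2 (hmemP s hs)
      have hS : Algebra.algebraMapSubmonoid B P.primeCompl = q.primeCompl := by
        ext x
        constructor
        · rintro ⟨r, hr, rfl⟩
          exact hr
        · intro hx
          obtain ⟨r, rfl⟩ := Ideal.Quotient.mk_surjective x
          exact ⟨r, hx, rfl⟩
      let Q := Localization.AtPrime P ⧸ I.map (algebraMap R (Localization.AtPrime P))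
      haveI : IsLocalization (Algebra.algebraMapSubmonoid B P.primeCompl) Q := inferInstance
      haveI : IsLocalization q.primeCompl Q := hS ▸ inferInstance
      let eq' : Localization.AtPrime q ≃+* Localization.AtPrime P ⧸ Ideal.ofList rsP :=
        (IsLocalization.algEquiv q.primeCompl (Localization.AtPrime q) Q).toRingEquiv.trans
          (Ideal.quotEquivOfEq (Ideal.map_ofList _ _))
      refine ih (Localization.AtPrime P) rsP (by simp [rsP, hlen₀]) hmP hregP _ eq' ?_
      haveI : IsLocalRing (Localization.AtPrime P ⧸ Ideal.ofList rsP) := eq'.isLocalRing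
      rw [ringKrullDim_eq_of_ringEquiv eq']
      refine withBot_cancel (n := k) ?_
      rw [show ringKrullDim (Localization.AtPrime P ⧸ Ideal.ofList rsP) + k = ringKrullDim (Localization.AtPrime P) by
        rw [← (by simp [rsP, hlen₀] : rsP.length = k)]; exact dim_ci hmP hregP,
        IsLocalization.AtPrime.ringKrullDim_eq_height P (Localization.AtPrime P)]
      have h1 : ringKrullDim (R ⧸ P) ≤ 1 := by
        haveI : Nontrivial (R ⧸ P) := Ideal.Quotient.nontrivial_iff.2 (Ideal.IsPrime.ne_top ‹_›)
        refine Order.krullDim_le_one_iff.2 fun x => ?_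
        by_contra hx
        push Not at hx
        obtain ⟨⟨y, hy⟩, hz⟩ := (show (∃ y, y < x) ∧ ∃ z, x < z from
          ⟨not_isMin_iff.1 hx.1, not_isMax_iff.1 hx.2⟩)
        obtain ⟨z, hz⟩ := hz
        let π := Ideal.Quotient.mk P
        have hPx : P < x.asIdeal.comap π := by
          refine lt_of_le_of_lt (fun r hr => ?_) (comap_lt π Ideal.Quotient.mk_surjective hy)
          show π r ∈ y.asIdeal
          rw [Ideal.Quotient.eq_zero_iff_mem.2 hr]
          exact y.asIdeal.zero_mem
        have hIx : I ≤ x.asIdeal.comap π := le_trans (Ideal.span_le.2 hmemP) hPx.le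
        haveI : ((x.asIdeal.comap π).map (Ideal.Quotient.mk I)).IsPrime :=
          Ideal.map_isPrime_of_surjective Ideal.Quotient.mk_surjective (by rw [Ideal.mk_ker]; exact hIx)
        have hc : ((x.asIdeal.comap π).map (Ideal.Quotient.mk I)).comap (Ideal.Quotient.mk I) = x.asIdeal.comap π := by
          rw [Ideal.comap_map_of_surjective _ Ideal.Quotient.mk_surjective, ← RingHom.ker_eq_comap_bot, Ideal.mk_ker,
            sup_eq_left.2 hIx]
        have hle : q ≤ (x.asIdeal.comap π).map (Ideal.Quotient.mk I) :=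
          (Ideal.map_comap_of_surjective (Ideal.Quotient.mk I) Ideal.Quotient.mk_surjective q).ge.trans
            (Ideal.map_mono hPx.le)
        have hx' := hmax _ inferInstance (lt_of_le_of_ne hle
          fun e => hPx.ne ((congrArg (Ideal.comap (Ideal.Quotient.mk I)) e).trans hc))
        rw [hx'] at hc
        have hmax' : x.asIdeal.comap π = maximalIdeal R := by
          rw [← hc]; exact IsLocalRing.eq_maximalIdeal (Ideal.comap_isMaximal_of_surjective _ Ideal.Quotient.mk_surjective)
        exact (hmax' ▸ comap_lt π Ideal.Quotient.mk_surjective hz : maximalIdeal R < z.asIdeal.comap π).not_ge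
          (le_maximalIdeal (Ideal.IsPrime.ne_top inferInstance))
      have h2 := GorLib.height_add_ringKrullDim_quotient (GorLib.gorensteinLocal_of_regular R) P
      refine withBot_cancel (n := 1) ?_
      refine le_trans ?_ (add_le_add (le_refl _) h1)
      rw [h2]
      refine le_trans (le_of_eq ?_) ((add_le_add hdimB (le_refl ((k : ℕ) : WithBot ℕ∞))).trans (le_of_eq (hlen₀ ▸ dim_ci hm₀ hreg₀)))
      norm_cast
      omega
    -- reduction to the complete case
    intro R _ _ rs hlen hm hreg A _ _ _ e hdim
    have hI : Ideal.ofList rs ≠ ⊤ := ofList_ne_top hm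
    haveI : IsLocalRing (R ⧸ Ideal.ofList rs) := RegLocal.isLocalRing_quot hI
    refine parafactorial_of_ringEquiv e ?_
    let A' := R ⧸ Ideal.ofList rs
    have hne : maximalIdeal R ≠ ⊤ := (maximalIdeal.isMaximal R).ne_top
    have hne' : maximalIdeal A' ≠ ⊤ := (maximalIdeal.isMaximal A').ne_top
    haveI := RegLocal.isLocalRing_completion R (maximalIdeal R) hne
    haveI := RegLocal.isLocalRing_completion A' (maximalIdeal A') hne'
    haveI := (RegLocal.isRegularLocalRing_completion_iff R (maximalIdeal R) hne).1 inferInstance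
    haveI := RegLocal.faithfullyFlat_completion R (maximalIdeal R) hne
    haveI := RegLocal.faithfullyFlat_completion A' (maximalIdeal A') hne'
    let Rh := AdicCompletion (maximalIdeal R) R
    let Ah := AdicCompletion (maximalIdeal A') A'
    haveI : IsNoetherianRing Ah := RegLocal.isNoetherianRing_adicCompletion _ (maximalIdeal A').fg_of_isNoetherianRing
    haveI : IsAdicComplete (maximalIdeal Rh) Rh := by
      rw [RegLocal.maximalIdeal_completion R _ hne]
      exact AdicCompletion.isAdicComplete_self _ (maximalIdeal R).fg_of_isNoetherianRing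
    let rsh := rs.map (algebraMap R Rh)
    have hmh : ∀ r ∈ rsh, r ∈ maximalIdeal Rh := fun r hr => by
      obtain ⟨s, hs, rfl⟩ := List.mem_map.1 hr
      rw [RegLocal.maximalIdeal_completion R _ hne]
      exact Ideal.mem_map_of_mem _ (hm s hs)
    obtain ⟨eh, -⟩ := CMCat.exists_complQuotEquiv (A := R) (Ideal.ofList rs)
    let e2 : Ah ≃+* Rh ⧸ Ideal.ofList rsh := eh.symm.trans (Ideal.quotEquivOfEq (Ideal.map_ofList _ _))
    haveI : IsLocalRing (Rh ⧸ Ideal.ofList rsh) := e2.isLocalRing
    have hdimh : ringKrullDim Ah = ringKrullDim A' := RegLocal.ringKrullDim_completion A' _ hne'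
    have hAh : ParaF.IsParafactorialLocalRing Ah := parafactorial_of_ringEquiv e2 (key Rh rsh (by simp [rsh, hlen]) hmh
      hreg.of_faithfullyFlat (by rw [← ringKrullDim_eq_of_ringEquiv e2, hdimh, ← ringKrullDim_eq_of_ringEquiv e]; exact hdim))
    haveI : IsLocalHom (algebraMap A' Ah) := ⟨fun a ha => by
      by_contra hu
      refine (maximalIdeal.isMaximal Ah).ne_top (Ideal.eq_top_of_isUnit_mem _ ?_ ha)
      rw [RegLocal.maximalIdeal_completion A' _ hne']
      exact Ideal.mem_map_of_mem _ ((mem_maximalIdeal a).2 hu)⟩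
    refine Groth.Agent.S2865.result A' Ah ?_ hAh
    rw [← RegLocal.maximalIdeal_completion A' _ hne']
    exact ringKrullDim_eq_zero_of_isField
      ((Ideal.Quotient.maximal_ideal_iff_isField_quotient _).1 (maximalIdeal.isMaximal _))

end Groth.Agent.PicLiftLib
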