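import Mathlib

/-!
# Čech cohomology of a punctured spectrum in low degrees, from a regular sequence
-/

set_option autoImplicit false
set_option linter.unusedSectionVars false

universe u

namespace Groth.Agent.PicLiftLib.Cech

variable {R S T : Type u} [CommRing R] [CommRing S] [CommRing T]

/-- Functions on a basic open. -/
abbrev Lo (x : R) : Type u := Localization.Away x

/-- Functoriality in the ring and the open. -/
noncomputable def mapL (φ : R →+* S) {x : R} {y : S} (h : φ x ∣ y) : Lo x →+* Lo y :=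
  IsLocalization.Away.lift x (g := (algebraMap S (Lo y)).comp φ)
    (show IsUnit (algebraMap S (Lo y) (φ x)) from
      isUnit_of_dvd_unit (map_dvd _ h) (IsLocalization.Away.algebraMap_isUnit y))

theorem mapL_algebraMap (φ : R →+* S) {x : R} {y : S} (h : φ x ∣ y) (a : R) :
    mapL φ h (algebraMap R (Lo x) a) = algebraMap S (Lo y) (φ a) :=
  IsLocalization.Away.lift_eq x _ a

theorem hom_ext {C : Type*} [CommRing C] {x : R} (α β : Lo x →+* C)
    (h : ∀ a, α (algebraMap R (Lo x) a) = β (algebraMap R (Lo x) a)) : α = β :=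
  IsLocalization.ringHom_ext (Submonoid.powers x) (RingHom.ext h)

theorem mapL_mapL (φ : R →+* S) (ψ : S →+* T) {x : R} {y : S} {z : T} (h : φ x ∣ y) (h' : ψ y ∣ z) (w : Lo x) :
    mapL ψ h' (mapL φ h w) = mapL (ψ.comp φ) (x := x) (y := z) ((map_dvd ψ h).trans h') w :=
  DFunLike.congr_fun (hom_ext ((mapL ψ h').comp (mapL φ h)) (mapL (ψ.comp φ) ((map_dvd ψ h).trans h'))
    fun a => by simp [mapL_algebraMap]) w

/-- Restriction. -/
noncomputable def res {x y : R} (h : x ∣ y) : Lo x →+* Lo y := mapL (RingHom.id R) h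

@[simp] theorem res_algebraMap {x y : R} (h : x ∣ y) (a : R) : res h (algebraMap R (Lo x) a) = algebraMap R (Lo y) a :=
  mapL_algebraMap _ _ a

@[simp] theorem res_res {x y z : R} (h : x ∣ y) (h' : y ∣ z) (w : Lo x) : res h' (res h w) = res (h.trans h') w :=
  DFunLike.congr_fun (hom_ext ((res h').comp (res h)) (res (h.trans h')) fun a => by simp) w

theorem res_self {x : R} (w : Lo x) : res (dvd_refl x) w = w :=
  DFunLike.congr_fun (hom_ext (res (dvd_refl x)) (RingHom.id _) fun a => by simp) w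

theorem mapL_res (φ : R →+* S) {x y : R} {x' y' : S} (h : x ∣ y) (hy : φ y ∣ y') (hx : φ x ∣ x') (h' : x' ∣ y')
    (w : Lo x) : mapL φ hy (res h w) = res h' (mapL φ hx w) :=
  DFunLike.congr_fun (hom_ext ((mapL φ hy).comp (res h)) ((res h').comp (mapL φ hx))
    fun a => by simp [mapL_algebraMap]) w

theorem isUnit_pow (x : R) (n : ℕ) : IsUnit (algebraMap R (Lo x) (x ^ n)) := by
  rw [map_pow]; exact (IsLocalization.Away.algebraMap_isUnit x).pow n

theorem exists_mk {x : R} (z : Lo x) : ∃ (a : R) (k : ℕ), z * algebraMap R (Lo x) (x ^ k) = algebraMap R (Lo x) a := by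
  obtain ⟨⟨a, ⟨_, k, rfl⟩⟩, h⟩ := IsLocalization.surj (Submonoid.powers x) z
  exact ⟨a, k, h⟩

theorem eq_zero_iff {x a : R} : algebraMap R (Lo x) a = 0 ↔ ∃ k : ℕ, x ^ k * a = 0 := by
  rw [IsLocalization.map_eq_zero_iff (Submonoid.powers x)]
  constructor
  · rintro ⟨⟨_, k, rfl⟩, h⟩; exact ⟨k, h⟩
  · rintro ⟨k, h⟩; exact ⟨⟨_, k, rfl⟩, h⟩

/-- A section on a smaller open extends after multiplication by a power of the equation. -/
theorem exists_ext {q x y : R} (hxy : x ∣ y) (hy : y ∣ q * x) (z : Lo y) :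
    ∃ k, ∀ K, k ≤ K → ∃ w : Lo x, res hxy w = algebraMap R (Lo y) (q ^ K) * z := by
  obtain ⟨a, k, hk⟩ := exists_mk z
  obtain ⟨c, hc⟩ := hy
  obtain ⟨b, hb⟩ := (isUnit_pow x k).exists_right_inv
  refine ⟨k, fun K hK => ⟨algebraMap R (Lo x) (q ^ (K - k) * (a * c ^ k)) * b, ?_⟩⟩
  have hu : IsUnit (algebraMap R (Lo y) (x ^ k)) := by
    rw [← res_algebraMap hxy]; exact (isUnit_pow x k).map _
  refine hu.mul_right_cancel ?_
  have hb' := congrArg (res hxy) hb
  rw [map_mul, res_algebraMap, map_one] at hb'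
  have h2 : algebraMap R (Lo y) q ^ k * algebraMap R (Lo y) x ^ k = algebraMap R (Lo y) y ^ k * algebraMap R (Lo y) c ^ k := by
    rw [← mul_pow, ← mul_pow, ← map_mul, ← map_mul, hc]
  have h3 : algebraMap R (Lo y) (q ^ K) = algebraMap R (Lo y) q ^ (K - k) * algebraMap R (Lo y) q ^ k := by
    rw [← pow_add, Nat.sub_add_cancel hK, map_pow]
  rw [map_mul, res_algebraMap, h3]
  simp only [map_mul, map_pow] at hb' hk ⊢
  linear_combination (algebraMap R (Lo y) q ^ (K - k) * algebraMap R (Lo y) a * algebraMap R (Lo y) c ^ k) * hb' -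
    (algebraMap R (Lo y) q ^ (K - k) * algebraMap R (Lo y) c ^ k) * hk - (z * algebraMap R (Lo y) q ^ (K - k)) * h2

/-- A section vanishing on a smaller open is killed by a power of the equation. -/
theorem exists_kill {q x y : R} (hxy : x ∣ y) (hy : y ∣ q * x) {w : Lo x} (hw : res hxy w = 0) :
    ∃ k, ∀ K, k ≤ K → algebraMap R (Lo x) (q ^ K) * w = 0 := by
  obtain ⟨a, k, hk⟩ := exists_mk w
  have h0 : algebraMap R (Lo y) a = 0 := by rw [← res_algebraMap hxy, ← hk, map_mul, hw, zero_mul]
  obtain ⟨m, hm⟩ := eq_zero_iff.1 h0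
  obtain ⟨c, hc⟩ := hy
  refine ⟨m, fun K hK => ?_⟩
  refine ((isUnit_pow x (k + m)).mul_left_eq_zero).1 ?_
  have h1 : q ^ K * x ^ m * a = 0 := by
    rw [← Nat.sub_add_cancel hK, pow_add, mul_assoc (q ^ (K - m)), ← mul_pow, hc, mul_pow, mul_assoc,
      mul_comm (y ^ m), mul_assoc, hm, mul_zero, mul_zero]
  calc _ = algebraMap R (Lo x) (q ^ K) * algebraMap R (Lo x) (x ^ m) * (w * algebraMap R (Lo x) (x ^ k)) := by
        rw [pow_add, map_mul]; ring
    _ = 0 := by rw [hk, ← map_mul, ← map_mul, h1, map_zero]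

theorem smul_reg {t x : R} (ht : IsSMulRegular R t) {w : Lo x} (h : algebraMap R (Lo x) t * w = 0) : w = 0 := by
  obtain ⟨a, k, hk⟩ := exists_mk w
  have h0 : algebraMap R (Lo x) (t * a) = 0 := by rw [map_mul, ← hk, ← mul_assoc, h, zero_mul]
  obtain ⟨m, hm⟩ := eq_zero_iff.1 h0
  have h1 : x ^ m * a = 0 := ht (show t * (x ^ m * a) = t * 0 by rw [mul_zero, mul_left_comm, hm])
  refine ((isUnit_pow x k).mul_left_eq_zero).1 ?_
  rw [hk]; exact eq_zero_iff.2 ⟨m, h1⟩

section Quot

variable (t : R)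

/-- Reduction modulo `t`. -/
noncomputable def bar {x : R} {y : R ⧸ Ideal.span {t}} (h : Ideal.Quotient.mk _ x ∣ y) : Lo x →+* Lo y := mapL _ h

theorem bar_surjective {x : R} {y : R ⧸ Ideal.span {t}} (h : Ideal.Quotient.mk _ x ∣ y)
    (h' : y ∣ Ideal.Quotient.mk _ x) : Function.Surjective (bar t h) := by
  intro z
  obtain ⟨a, k, hk⟩ := exists_mk z
  obtain ⟨a, rfl⟩ := Ideal.Quotient.mk_surjective a
  obtain ⟨c, hc⟩ := h'
  obtain ⟨c, rfl⟩ := Ideal.Quotient.mk_surjective c
  obtain ⟨b, hb⟩ := (isUnit_pow x k).exists_right_inv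
  refine ⟨algebraMap R (Lo x) (a * c ^ k) * b, ?_⟩
  have hb' := congrArg (bar t h) hb
  rw [map_mul, map_one, bar, mapL_algebraMap] at hb'
  have hu : IsUnit (algebraMap _ (Lo y) (Ideal.Quotient.mk (Ideal.span {t}) (x ^ k))) :=
    IsUnit.of_mul_eq_one _ hb'
  refine hu.mul_right_cancel ?_
  rw [map_mul, bar, mapL_algebraMap, mul_assoc, mul_comm (mapL _ h b), hb', mul_one, map_pow, hc, mul_pow]
  simp only [map_mul, map_pow] at hk ⊢
  linear_combination -(algebraMap _ (Lo y) (Ideal.Quotient.mk (Ideal.span {t}) c)) ^ k * hk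

theorem exists_of_bar_eq_zero {x : R} {y : R ⧸ Ideal.span {t}} (h : Ideal.Quotient.mk _ x ∣ y)
    (h' : y ∣ Ideal.Quotient.mk _ x) {w : Lo x} (hw : bar t h w = 0) :
    ∃ v, w = algebraMap R (Lo x) t * v := by
  obtain ⟨a, k, hk⟩ := exists_mk w
  have h0 : algebraMap _ (Lo y) (Ideal.Quotient.mk (Ideal.span {t}) a) = 0 := by
    rw [← mapL_algebraMap _ h, ← hk, map_mul, ← bar, hw, zero_mul]
  obtain ⟨m, hm⟩ := eq_zero_iff.1 h0
  have hm' : Ideal.Quotient.mk (Ideal.span {t}) (x ^ m * a) = 0 := by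
    obtain ⟨c, hc⟩ := h'
    rw [map_mul, map_pow, hc, mul_pow, mul_right_comm, hm, zero_mul]
  obtain ⟨d, hd⟩ := Ideal.mem_span_singleton.1 (Ideal.Quotient.eq_zero_iff_mem.1 hm')
  obtain ⟨b, hb⟩ := (isUnit_pow x (k + m)).exists_right_inv
  refine ⟨algebraMap R (Lo x) d * b, ?_⟩
  rw [← mul_assoc, ← map_mul, ← hd, map_mul, ← hk]
  calc w = w * (algebraMap R (Lo x) (x ^ (k + m)) * b) := by rw [hb, mul_one]
    _ = _ := by simp only [pow_add, map_mul]; ring

end Quot

variable {ι : Type} (g : ι → R)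

/-- `1`-coboundaries. -/
noncomputable def d0 (b : ∀ i, Lo (g i)) (i j : ι) : Lo (g i * g j) :=
  res (dvd_mul_right _ _) (b i) - res (dvd_mul_left _ _) (b j)

/-- `2`-coboundaries. -/
noncomputable def d1 (w : ∀ i j, Lo (g i * g j)) (i j k : ι) : Lo (g i * g j * g k) :=
  res (dvd_mul_right _ _) (w i j) + res (⟨g i, by ring⟩ : g j * g k ∣ g i * g j * g k) (w j k) -
    res (⟨g j, by ring⟩ : g i * g k ∣ g i * g j * g k) (w i k)

/-- `3`-coboundaries. -/
noncomputable def d2 (c : ∀ i j k, Lo (g i * g j * g k)) (i j k l : ι) : Lo (g i * g j * g k * g l) :=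
  res (⟨g i, by ring⟩ : g j * g k * g l ∣ g i * g j * g k * g l) (c j k l)
    - res (⟨g j, by ring⟩ : g i * g k * g l ∣ g i * g j * g k * g l) (c i k l)
    + res (⟨g k, by ring⟩ : g i * g j * g l ∣ g i * g j * g k * g l) (c i j l)
    - res (dvd_mul_right (g i * g j * g k) (g l)) (c i j k)

/-- Only zero vanishes on the open. -/
def Inj : Prop := ∀ a : R, (∀ i, algebraMap R (Lo (g i)) a = 0) → a = 0
/-- Functions on the open extend. -/
def H0 : Prop := ∀ s : ∀ i, Lo (g i), (∀ i j, d0 g s i j = 0) → ∃ a, ∀ i, s i = algebraMap R _ a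
/-- The first Čech cohomology vanishes. -/
def H1 : Prop := ∀ w : ∀ i j, Lo (g i * g j), (∀ i j k, d1 g w i j k = 0) → ∃ b, ∀ i j, w i j = d0 g b i j
/-- The second Čech cohomology vanishes. -/
def H2 : Prop := ∀ c : ∀ i j k, Lo (g i * g j * g k), (∀ i j k l, d2 g c i j k l = 0) →
  ∃ b, ∀ i j k, c i j k = d1 g b i j k

variable {g} [Finite ι]

theorem exists_bound {κ : Type*} [Finite κ] {P : κ → ℕ → Prop} (h : ∀ a, ∃ k, ∀ K, k ≤ K → P a K) :
    ∃ k, ∀ K, k ≤ K → ∀ a, P a K := by
  cases nonempty_fintype κ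
  choose k hk using h
  exact ⟨Finset.univ.sup k, fun K hK a => hk a K ((Finset.le_sup (Finset.mem_univ a)).trans hK)⟩

variable {t : R}

theorem radical_aux {J : Ideal R} (ht : t ∈ (Ideal.span (Set.range g)).radical) (hJ : ∀ q, ∃ K, g q ^ K ∈ J) :
    ∃ k, t ^ k ∈ J := by
  have h : (Ideal.span (Set.range g)).radical ≤ J.radical := Ideal.radical_le_radical_iff.2 (Ideal.span_le.2 (by
    rintro _ ⟨q, rfl⟩; exact hJ q))
  exact h ht

theorem inj_of_regular (ht : t ∈ (Ideal.span (Set.range g)).radical) (hreg : IsSMulRegular R t) : Inj g := by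
  intro a ha
  let J : Ideal R := LinearMap.ker (LinearMap.toSpanSingleton R R a)
  obtain ⟨k, hk⟩ := radical_aux (J := J) ht fun q => by
    obtain ⟨K, hK⟩ := eq_zero_iff.1 (ha q)
    exact ⟨K, hK⟩
  exact (hreg.pow k) (show t ^ k * a = t ^ k * 0 by rw [mul_zero]; exact hk)

theorem h0_of (ht : t ∈ (Ideal.span (Set.range g)).radical) (hreg : IsSMulRegular R t)
    (hq : Inj fun i => Ideal.Quotient.mk (Ideal.span {t}) (g i)) : H0 g := by
  intro s hs
  let J : Ideal R :=
    { carrier := {r | ∃ a, ∀ i, algebraMap R (Lo (g i)) r * s i = algebraMap R _ a}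
      add_mem' := by rintro r r' ⟨a, ha⟩ ⟨a', ha'⟩; exact ⟨a + a', fun i => by rw [map_add, map_add, add_mul, ha, ha']⟩
      zero_mem' := ⟨0, fun i => by rw [map_zero, zero_mul]⟩
      smul_mem' := by rintro c r ⟨a, ha⟩; exact ⟨c * a, fun i => by rw [smul_eq_mul, map_mul, map_mul, mul_assoc, ha]⟩ }
  obtain ⟨k, hk⟩ := radical_aux (J := J) ht fun q => by
    obtain ⟨a, m, hm⟩ := exists_mk (s q)
    obtain ⟨N, hN⟩ := exists_bound (P := fun i N => algebraMap R (Lo (g i)) (g q ^ N) *
        (algebraMap R (Lo (g i)) (g q ^ m) * s i - algebraMap R _ a) = 0) fun i =>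
      exists_kill (dvd_mul_right (g i) (g q)) (by rw [mul_comm]) (by
        have h1 := congrArg (res (dvd_mul_left (g q) (g i))) hm
        rw [map_mul, res_algebraMap, res_algebraMap] at h1
        have h2 := hs i q
        simp only [d0] at h2
        rw [map_sub, map_mul, res_algebraMap, res_algebraMap]
        linear_combination algebraMap R (Lo (g i * g q)) (g q ^ m) * h2 + h1)
    refine ⟨N + m, g q ^ N * a, fun i => ?_⟩
    have h := hN N le_rfl i
    rw [pow_add, map_mul, map_mul]
    linear_combination h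
  suffices h : ∀ k a, (∀ i, algebraMap R (Lo (g i)) (t ^ k) * s i = algebraMap R _ a) → ∃ a, ∀ i, s i = algebraMap R _ a from
    h k _ hk.choose_spec
  intro k
  induction k with
  | zero => exact fun a ha => ⟨a, fun i => by simpa using ha i⟩
  | succ k ih =>
    intro a ha
    have h0 : Ideal.Quotient.mk (Ideal.span {t}) a = 0 := hq _ fun i => by
      have := congrArg (bar t (dvd_refl (Ideal.Quotient.mk _ (g i)))) (ha i)
      rw [map_mul, bar, mapL_algebraMap, mapL_algebraMap, map_pow,
        Ideal.Quotient.eq_zero_iff_mem.2 (Ideal.mem_span_singleton_self t), zero_pow (by omega), map_zero, zero_mul] at this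
      exact this.symm
    obtain ⟨a', rfl⟩ := Ideal.mem_span_singleton.1 (Ideal.Quotient.eq_zero_iff_mem.1 h0)
    refine ih a' fun i => sub_eq_zero.1 (smul_reg hreg ?_)
    have h := ha i
    simp only [pow_succ, map_mul] at h
    linear_combination h

theorem h1_of (ht : t ∈ (Ideal.span (Set.range g)).radical) (hreg : IsSMulRegular R t)
    (hq : H0 fun i => Ideal.Quotient.mk (Ideal.span {t}) (g i)) : H1 g := by
  intro w hw
  let J : Ideal R :=
    { carrier := {r | ∃ b, ∀ i j, algebraMap R (Lo (g i * g j)) r * w i j = d0 g b i j}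
      add_mem' := by
        rintro r r' ⟨b, hb⟩ ⟨b', hb'⟩
        exact ⟨b + b', fun i j => by simp only [map_add, add_mul, hb, hb', d0, Pi.add_apply]; ring⟩
      zero_mem' := ⟨0, fun i j => by simp [d0]⟩
      smul_mem' := by
        rintro c r ⟨b, hb⟩
        exact ⟨fun i => algebraMap R _ c * b i, fun i j => by
          simp only [smul_eq_mul, map_mul, mul_assoc, hb, d0, res_algebraMap]; ring⟩ }
  obtain ⟨k, hk⟩ := radical_aux (J := J) ht fun q => by
    obtain ⟨K, hK⟩ := exists_bound (P := fun i K => ∃ b : Lo (g i),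
        res (dvd_mul_left (g i) (g q)) b = algebraMap R (Lo (g q * g i)) (g q ^ K) * w q i) fun i =>
      exists_ext (dvd_mul_left (g i) (g q)) (dvd_refl _) (w q i)
    choose b hb using hK K le_rfl
    let v : ∀ i j, Lo (g i * g j) := fun i j => algebraMap R _ (g q ^ K) * w i j + d0 g b i j
    obtain ⟨N, hN⟩ := exists_bound (P := fun (p : ι × ι) N => algebraMap R _ (g q ^ N) * v p.1 p.2 = 0) fun p => by
      obtain ⟨i, j⟩ := p
      refine exists_kill (⟨g q, by ring⟩ : g i * g j ∣ g q * g i * g j) (dvd_of_eq (mul_assoc _ _ _)) ?_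
      have hbi := congrArg (res (dvd_mul_right (g q * g i) (g j))) (hb i)
      have hbj := congrArg (res (⟨g i, by ring⟩ : g q * g j ∣ g q * g i * g j)) (hb j)
      have hc := hw q i j
      simp only [v, d0, d1, map_add, map_sub, map_mul, res_res, res_algebraMap] at hbi hbj hc ⊢
      linear_combination hbi - hbj + algebraMap R (Lo (g q * g i * g j)) (g q ^ K) * hc
    refine ⟨N + K, fun i => -(algebraMap R _ (g q ^ N) * b i), fun i j => ?_⟩
    have h := hN N le_rfl (i, j)
    simp only [v, d0, pow_add, map_mul, map_neg, res_algebraMap] at h ⊢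
    linear_combination h
  suffices h : ∀ k b, (∀ i j, algebraMap R (Lo (g i * g j)) (t ^ k) * w i j = d0 g b i j) → ∃ b, ∀ i j, w i j = d0 g b i j from
    h k _ hk.choose_spec
  intro k
  induction k with
  | zero => exact fun b hb => ⟨b, fun i j => by simpa using hb i j⟩
  | succ k ih =>
    intro b hb
    let π := Ideal.Quotient.mk (Ideal.span {t})
    obtain ⟨a, ha⟩ := hq (fun i => bar t (dvd_refl (π (g i))) (b i)) fun i j => by
      have := congrArg (bar t (dvd_of_eq (map_mul π (g i) (g j)))) (hb i j)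
      rw [map_mul, bar, mapL_algebraMap, map_pow, show π t = 0 from
        Ideal.Quotient.eq_zero_iff_mem.2 (Ideal.mem_span_singleton_self t), zero_pow (by omega), map_zero, zero_mul,
        d0, map_sub, mapL_res π _ _ (dvd_refl _) (dvd_mul_right (π (g i)) (π (g j))),
        mapL_res π _ _ (dvd_refl _) (dvd_mul_left (π (g j)) (π (g i)))] at this
      exact this.symm
    obtain ⟨a, rfl⟩ := Ideal.Quotient.mk_surjective a
    choose b' hb' using fun i => exists_of_bar_eq_zero t (dvd_refl (π (g i))) (dvd_refl _)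
      (w := b i - algebraMap R _ a) (by rw [map_sub, ha i, bar, mapL_algebraMap, sub_self])
    refine ih b' fun i j => sub_eq_zero.1 (smul_reg hreg ?_)
    have h := hb i j
    have h1 := congrArg (res (dvd_mul_right (g i) (g j))) (hb' i)
    have h2 := congrArg (res (dvd_mul_left (g j) (g i))) (hb' j)
    simp only [d0, pow_succ, map_mul, map_sub, res_algebraMap] at h h1 h2 ⊢
    linear_combination h + h1 - h2

theorem h2_of (ht : t ∈ (Ideal.span (Set.range g)).radical) (hreg : IsSMulRegular R t)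
    (hq : H1 fun i => Ideal.Quotient.mk (Ideal.span {t}) (g i)) : H2 g := by
  intro c hc
  let J : Ideal R :=
    { carrier := {r | ∃ b, ∀ i j k, algebraMap R (Lo (g i * g j * g k)) r * c i j k = d1 g b i j k}
      add_mem' := by
        rintro r r' ⟨b, hb⟩ ⟨b', hb'⟩
        exact ⟨b + b', fun i j k => by simp only [map_add, add_mul, hb, hb', d1, Pi.add_apply]; ring⟩
      zero_mem' := ⟨0, fun i j k => by simp [d1]⟩
      smul_mem' := by
        rintro r' r ⟨b, hb⟩
        exact ⟨fun i j => algebraMap R _ r' * b i j, fun i j k => by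
          simp only [smul_eq_mul, map_mul, mul_assoc, hb, d1, res_algebraMap]; ring⟩ }
  obtain ⟨k, hk⟩ := radical_aux (J := J) ht fun q => by
    obtain ⟨K, hK⟩ := exists_bound (P := fun (p : ι × ι) K => ∃ b : Lo (g p.1 * g p.2),
        res (⟨g q, by ring⟩ : g p.1 * g p.2 ∣ g q * g p.1 * g p.2) b =
          algebraMap R (Lo (g q * g p.1 * g p.2)) (g q ^ K) * c q p.1 p.2) fun p =>
      exists_ext (⟨g q, by ring⟩ : g p.1 * g p.2 ∣ g q * g p.1 * g p.2) (dvd_of_eq (mul_assoc _ _ _)) (c q p.1 p.2)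
    choose b hb using fun i j => hK K le_rfl (i, j)
    let v : ∀ i j k, Lo (g i * g j * g k) := fun i j k => algebraMap R _ (g q ^ K) * c i j k - d1 g b i j k
    obtain ⟨N, hN⟩ := exists_bound (P := fun (p : ι × ι × ι) N => algebraMap R _ (g q ^ N) * v p.1 p.2.1 p.2.2 = 0)
      fun p => by
      obtain ⟨i, j, k⟩ := p
      refine exists_kill (⟨g q, by ring⟩ : g i * g j * g k ∣ g q * g i * g j * g k)
        (dvd_of_eq (by ring)) ?_
      have hbij := congrArg (res (dvd_mul_right (g q * g i * g j) (g k))) (hb i j)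
      have hbjk := congrArg (res (⟨g i, by ring⟩ : g q * g j * g k ∣ g q * g i * g j * g k)) (hb j k)
      have hbik := congrArg (res (⟨g j, by ring⟩ : g q * g i * g k ∣ g q * g i * g j * g k)) (hb i k)
      have hc' := hc q i j k
      simp only [v, d1, d2, map_add, map_sub, map_mul, res_res, res_algebraMap] at hbij hbjk hbik hc' ⊢
      linear_combination algebraMap R (Lo (g q * g i * g j * g k)) (g q ^ K) * hc' - hbij - hbjk + hbik
    refine ⟨N + K, fun i j => algebraMap R _ (g q ^ N) * b i j, fun i j k => ?_⟩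
    have h := hN N le_rfl (i, j, k)
    simp only [v, d1, pow_add, map_mul, map_sub, map_add, res_algebraMap] at h ⊢
    linear_combination h
  suffices h : ∀ k b, (∀ i j l, algebraMap R (Lo (g i * g j * g l)) (t ^ k) * c i j l = d1 g b i j l) →
      ∃ b, ∀ i j l, c i j l = d1 g b i j l from
    h k _ hk.choose_spec
  intro k
  induction k with
  | zero => exact fun b hb => ⟨b, fun i j l => by simpa using hb i j l⟩
  | succ k ih =>
    intro b hb
    let π := Ideal.Quotient.mk (Ideal.span {t})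
    have e2 : ∀ i j, π (g i * g j) ∣ π (g i) * π (g j) := fun i j => dvd_of_eq (map_mul π _ _)
    obtain ⟨a, ha⟩ := hq (fun i j => bar t (e2 i j) (b i j)) fun i j l => by
      have := congrArg (bar t (show π (g i * g j * g l) ∣ π (g i) * π (g j) * π (g l) from
        dvd_of_eq (by rw [map_mul, map_mul]))) (hb i j l)
      rw [map_mul, bar, mapL_algebraMap, map_pow, show π t = 0 from
        Ideal.Quotient.eq_zero_iff_mem.2 (Ideal.mem_span_singleton_self t), zero_pow (by omega), map_zero, zero_mul,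
        d1, map_sub, map_add, mapL_res π _ _ (e2 i j) (dvd_mul_right (π (g i) * π (g j)) (π (g l))),
        mapL_res π _ _ (e2 j l) (⟨π (g i), by ring⟩ : π (g j) * π (g l) ∣ π (g i) * π (g j) * π (g l)),
        mapL_res π _ _ (e2 i l) (⟨π (g j), by ring⟩ : π (g i) * π (g l) ∣ π (g i) * π (g j) * π (g l))] at this
      exact this.symm
    choose a' ha' using fun i => bar_surjective t (dvd_refl (π (g i))) (dvd_refl _) (a i)
    choose b' hb' using fun i j => exists_of_bar_eq_zero t (e2 i j) (dvd_of_eq (map_mul π _ _).symm)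
      (w := b i j - d0 g a' i j) (by
        rw [map_sub, ha i j, d0, d0, map_sub, bar, mapL_res π _ _ (dvd_refl _) (dvd_mul_right (π (g i)) (π (g j))),
          mapL_res π _ _ (dvd_refl _) (dvd_mul_left (π (g j)) (π (g i))), ← bar, ← bar, ha', ha', sub_self])
    refine ih b' fun i j l => sub_eq_zero.1 (smul_reg hreg ?_)
    have h := hb i j l
    have h1 := congrArg (res (dvd_mul_right (g i * g j) (g l))) (hb' i j)
    have h2 := congrArg (res (⟨g i, by ring⟩ : g j * g l ∣ g i * g j * g l)) (hb' j l)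
    have h3 := congrArg (res (⟨g j, by ring⟩ : g i * g l ∣ g i * g j * g l)) (hb' i l)
    simp only [d0, d1, pow_succ, map_mul, map_sub, res_res, res_algebraMap] at h h1 h2 h3 ⊢
    linear_combination h + h1 + h2 - h3

end Groth.Agent.PicLiftLib.Cech
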