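import Groth.Agent.PicLiftLib.CechDepth
import Groth.Agent.LocCohLib.Cd
import Groth.Agent.LocCohLib.Torsion

/-!
# Čech complexes of injective modules are exact
-/

set_option autoImplicit false
set_option linter.unusedSectionVars false

universe u

namespace Groth.Agent.PicLiftLib.Cech

variable {R : Type u} [CommRing R] {E F : Type u} [AddCommGroup E] [Module R E] [AddCommGroup F] [Module R F]

/-- Sections of a module on a basic open. -/
abbrev Lm (x : R) (E : Type u) [AddCommGroup E] [Module R E] : Type u := LocalizedModule (Submonoid.powers x) E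

/-- The canonical map. -/
noncomputable def mkL (x : R) : E →ₗ[R] Lm x E := LocalizedModule.mkLinearMap _ E

instance (x : R) : IsLocalizedModule (Submonoid.powers x) (mkL (E := E) x) :=
  inferInstanceAs (IsLocalizedModule (Submonoid.powers x) (LocalizedModule.mkLinearMap _ E))

theorem isUnit_smul {x y : R} (h : x ∣ y) (s : Submonoid.powers x) :
    IsUnit (algebraMap R (Module.End R (Lm y E)) s) := by
  obtain ⟨_, n, rfl⟩ := s
  show IsUnit (algebraMap R (Module.End R (Lm y E)) (x ^ n))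
  rw [map_pow]
  obtain ⟨c, hc⟩ := h
  have hy : IsUnit (algebraMap R (Module.End R (Lm y E)) x * algebraMap R (Module.End R (Lm y E)) c) := by
    rw [← map_mul, ← hc]
    exact IsLocalizedModule.map_units (mkL (E := E) y) (⟨y, 1, pow_one y⟩ : Submonoid.powers y)
  exact ((((Commute.all x c).map (algebraMap R (Module.End R (Lm y E)))).isUnit_mul_iff).1 hy).1.pow n

/-- Restriction. -/
noncomputable def rs {x y : R} (h : x ∣ y) : Lm x E →ₗ[R] Lm y E :=
  IsLocalizedModule.lift (Submonoid.powers x) (mkL x) (mkL y) (isUnit_smul h)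

@[simp] theorem rs_mkL {x y : R} (h : x ∣ y) (e : E) : rs h (mkL x e) = mkL y e :=
  IsLocalizedModule.lift_apply _ _ _ (isUnit_smul h) e

theorem lm_ext {x y : R} (h : x ∣ y) {α β : Lm x E →ₗ[R] Lm y F} (hab : ∀ e, α (mkL x e) = β (mkL x e)) : α = β :=
  IsLocalizedModule.ext (Submonoid.powers x) (mkL x) (isUnit_smul h) (LinearMap.ext hab)

@[simp] theorem rs_rs {x y z : R} (h : x ∣ y) (h' : y ∣ z) (w : Lm x E) : rs h' (rs h w) = rs (h.trans h') w :=
  DFunLike.congr_fun (lm_ext (h.trans h') (α := rs h' ∘ₗ rs h) (β := rs (h.trans h')) fun e => by simp) w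

/-- Functoriality in the module. -/
noncomputable def mapM (φ : E →ₗ[R] F) (x : R) : Lm x E →ₗ[R] Lm x F :=
  IsLocalizedModule.map (Submonoid.powers x) (mkL x) (mkL x) φ

@[simp] theorem mapM_mkL (φ : E →ₗ[R] F) (x : R) (e : E) : mapM φ x (mkL x e) = mkL x (φ e) :=
  IsLocalizedModule.map_apply _ _ _ φ e

theorem mapM_rs (φ : E →ₗ[R] F) {x y : R} (h : x ∣ y) (w : Lm x E) : mapM φ y (rs h w) = rs h (mapM φ x w) :=
  DFunLike.congr_fun (lm_ext h (α := mapM φ y ∘ₗ rs h) (β := rs h ∘ₗ mapM φ x) fun e => by simp) w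

theorem smul_left_cancel {x : R} (k : ℕ) {z z' : Lm x E} (h : x ^ k • z = x ^ k • z') : z = z' :=
  ((Module.End.isUnit_iff _).1 (IsLocalizedModule.map_units (mkL (E := E) x) (⟨x ^ k, k, rfl⟩ : Submonoid.powers x))).1 h

theorem exists_mkL {x : R} (z : Lm x E) : ∃ (e : E) (k : ℕ), x ^ k • z = mkL x e := by
  obtain ⟨⟨e, ⟨_, k, rfl⟩⟩, h⟩ := IsLocalizedModule.surj (Submonoid.powers x) (mkL (E := E) x) z
  exact ⟨e, k, h⟩

theorem mkL_eq_zero {x : R} {e : E} : mkL x e = 0 ↔ ∃ k : ℕ, x ^ k • e = 0 := by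
  rw [IsLocalizedModule.eq_zero_iff (Submonoid.powers x) (mkL (E := E) x)]
  constructor
  · rintro ⟨⟨_, k, rfl⟩, h⟩; exact ⟨k, h⟩
  · rintro ⟨k, h⟩; exact ⟨⟨_, k, rfl⟩, h⟩

theorem exists_killM {q x y : R} (hxy : x ∣ y) (hy : y ∣ q * x) {w : Lm x E} (hw : rs hxy w = 0) :
    ∃ k, q ^ k • w = 0 := by
  obtain ⟨e, k, hk⟩ := exists_mkL w
  have h0 : mkL y e = 0 := by rw [← rs_mkL hxy, ← hk, map_smul, hw, smul_zero]
  obtain ⟨m, hm⟩ := mkL_eq_zero.1 h0
  obtain ⟨c, hc⟩ := hy
  refine ⟨m, smul_left_cancel (x := x) (m + k) ?_⟩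
  rw [smul_zero, pow_add, mul_smul, smul_comm (x ^ k), hk, smul_smul, ← mul_pow, mul_comm x q, hc, mul_pow,
    mul_comm, mul_smul, ← map_smul, hm, map_zero, smul_zero]

theorem mem_torsionSub_span {s : Set R} (hs : s.Finite) {e : E} (h : ∀ a ∈ s, ∃ k : ℕ, a ^ k • e = 0) :
    e ∈ DRing.torsionSub (Ideal.span s) E := by
  let J : Ideal R := LinearMap.ker (LinearMap.toSpanSingleton R E e)
  obtain ⟨n, hn⟩ := Ideal.exists_pow_le_of_le_radical_of_fg (I := Ideal.span s) (J := J)
    (Ideal.span_le.2 fun a ha => h a ha) (Submodule.fg_span hs)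
  exact ⟨n, fun a ha => hn ha⟩

theorem exists_pow_smul_of_mem {s : Set R} {e : E} (h : e ∈ DRing.torsionSub (Ideal.span s) E) {a : R} (ha : a ∈ s) :
    ∃ k : ℕ, a ^ k • e = 0 := by
  obtain ⟨n, hn⟩ := h
  exact ⟨n, hn _ (Ideal.pow_mem_pow (Ideal.subset_span ha) n)⟩

variable {ι : Type} (g : ι → R)

/-- Supported away from the opens in `S`. -/
def Kd (S : Finset ι) {x : R} (z : Lm x E) : Prop := ∀ q ∈ S, ∃ k : ℕ, g q ^ k • z = 0

variable {g}

theorem Kd.add {S : Finset ι} {x : R} {z z' : Lm x E} (h : Kd g S z) (h' : Kd g S z') : Kd g S (z + z') :=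
  fun q hq => by
    obtain ⟨k, hk⟩ := h q hq
    obtain ⟨k', hk'⟩ := h' q hq
    exact ⟨k + k', by rw [smul_add, pow_add, mul_smul, mul_smul, hk', smul_zero, add_zero, smul_comm, hk, smul_zero]⟩

theorem Kd.neg {S : Finset ι} {x : R} {z : Lm x E} (h : Kd g S z) : Kd g S (-z) := fun q hq => by
  obtain ⟨k, hk⟩ := h q hq
  exact ⟨k, by rw [smul_neg, hk, neg_zero]⟩

theorem Kd.sub {S : Finset ι} {x : R} {z z' : Lm x E} (h : Kd g S z) (h' : Kd g S z') : Kd g S (z - z') := by
  rw [sub_eq_add_neg]; exact h.add h'.neg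

theorem Kd.mkL {S : Finset ι} (x : R) {e : E} (h : ∀ q ∈ S, ∃ k : ℕ, g q ^ k • e = 0) :
    Kd g S (Cech.mkL x e) := fun q hq => by
  obtain ⟨k, hk⟩ := h q hq
  exact ⟨k, by rw [← map_smul, hk, map_zero]⟩

theorem eq_zero_of_kill {q x : R} (h : q ∣ x) {z : Lm x E} {k : ℕ} (hk : q ^ k • z = 0) : z = 0 := by
  obtain ⟨c, rfl⟩ := h
  refine smul_left_cancel (x := q * c) k ?_
  rw [smul_zero, mul_pow, mul_comm (q ^ k), mul_smul, hk, smul_zero]

theorem exists_kd_insert [DecidableEq ι] {S : Finset ι} {q : ι} {x y : R} (hxy : x ∣ y) (hy : y ∣ g q * x)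
    {z : Lm x E} (hz : rs hxy z = 0) (hS : Kd g S z) : Kd g (insert q S) z := fun q' hq' => by
  rcases Finset.mem_insert.1 hq' with rfl | h
  · exact exists_killM hxy hy hz
  · exact hS q' h

variable [IsNoetherianRing R] [Module.Injective R E]

/-- A section comes from a global element with the same supports. -/
theorem exists_global {S : Finset ι} {y : R} {z : Lm y E} (hz : Kd g S z) :
    ∃ e : E, mkL y e = z ∧ ∀ q ∈ S, ∃ k : ℕ, g q ^ k • e = 0 := by
  classical
  obtain ⟨e, k, hk⟩ := exists_mkL z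
  have h : ∀ q ∈ S, ∃ m N : ℕ, y ^ m • g q ^ N • e = 0 := fun q hq => by
    obtain ⟨N, hN⟩ := hz q hq
    obtain ⟨m, hm⟩ := mkL_eq_zero.1 (show mkL y (g q ^ N • e) = 0 by rw [map_smul, ← hk, smul_comm, hN, smul_zero])
    exact ⟨m, N, hm⟩
  choose! m N hmN using h
  let M := S.sup m
  let e₁ : E := y ^ M • e
  have he₁ : e₁ ∈ DRing.torsionSub (Ideal.span (g '' ↑S)) E := by
    refine mem_torsionSub_span (S.finite_toSet.image g) ?_
    rintro _ ⟨q, hq, rfl⟩
    refine ⟨N q, ?_⟩
    show g q ^ N q • y ^ M • e = 0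
    obtain ⟨d, hd⟩ := Nat.exists_eq_add_of_le (Finset.le_sup (f := m) hq : m q ≤ M)
    show g q ^ N q • y ^ S.sup m • e = 0
    rw [hd, add_comm (m q) d, pow_add y, mul_smul, smul_comm (g q ^ N q) (y ^ d), smul_comm (g q ^ N q) (y ^ m q),
      hmN q hq, smul_zero]
  haveI := LocCohLib.injective_torsionSub (Ideal.span (g '' ↑S)) E
  obtain ⟨l, hl⟩ := LocCohLib.divProp_of_injective (DRing.torsionSub (Ideal.span (g '' ↑S)) E) y (k + M)
  obtain ⟨⟨e₂, he₂⟩, hw⟩ := hl ⟨e₁, he₁⟩
  have hw' : y ^ l • (y ^ (k + M) • e₂ - e₁) = 0 := congrArg Subtype.val hw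
  refine ⟨e₂, smul_left_cancel (x := y) (k + M) ?_, fun q hq => exists_pow_smul_of_mem he₂ ⟨q, hq, rfl⟩⟩
  have h1 : mkL y (y ^ (k + M) • e₂) = mkL y e₁ := by
    rw [← sub_eq_zero, ← map_sub]
    exact mkL_eq_zero.2 ⟨l, hw'⟩
  rw [← map_smul, h1, map_smul, ← hk, smul_smul, ← pow_add, add_comm]

variable [Finite ι] [DecidableEq ι]

theorem exact0 (T : Finset ι) : ∀ s : ∀ i, Lm (g i) E,
    (∀ i j, rs (dvd_mul_right _ _) (s i) = rs (dvd_mul_left _ _) (s j)) →
    (∀ S : Finset ι, (∀ q, q ∈ S ↔ q ∉ T) → ∀ i, Kd g S (s i)) → ∃ e : E, ∀ i, s i = mkL (g i) e := by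
  cases nonempty_fintype ι
  induction T using Finset.induction_on with
  | empty =>
    intro s _ hk
    refine ⟨0, fun i => ?_⟩
    obtain ⟨k, h⟩ := hk Finset.univ (by simp) i i (Finset.mem_univ i)
    rw [map_zero]
    exact eq_zero_of_kill (dvd_refl _) h
  | @insert q T hq ih =>
    intro s hs hk
    let S : Finset ι := Finset.univ \ insert q T
    have hS : ∀ i, Kd g S (s i) := hk S (by simp [S])
    obtain ⟨e, he, hek⟩ := exists_global (hS q)
    obtain ⟨e', he'⟩ := ih (fun i => s i - mkL (g i) e) (fun i j => by simp [hs i j]) fun S' hS' i => by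
      have hsub : ∀ p ∈ S', p ∈ insert q S := fun p hp => by
        have := (hS' p).1 hp
        simp [S, this]; tauto
      refine fun p hp => exists_kd_insert (dvd_mul_right (g i) (g q)) (dvd_of_eq (mul_comm _ _)) ?_
        ((hS i).sub (Kd.mkL _ hek)) p (hsub p hp)
      rw [map_sub, hs i q, ← he, rs_mkL, rs_mkL, sub_self]
    exact ⟨e' + e, fun i => by rw [map_add, ← he', sub_add_cancel]⟩

/-- Functions on the open extend to global elements. -/
theorem exact0' (s : ∀ i, Lm (g i) E) (hs : ∀ i j, rs (dvd_mul_right _ _) (s i) = rs (dvd_mul_left _ _) (s j)) :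
    ∃ e : E, ∀ i, s i = mkL (g i) e := by
  cases nonempty_fintype ι
  exact exact0 Finset.univ s hs fun S hS i p hp => absurd (Finset.mem_univ p) ((hS p).1 hp)

theorem exact1 (T : Finset ι) : ∀ w : ∀ i j, Lm (g i * g j) E,
    (∀ i j k, rs (dvd_mul_right _ _) (w i j) + rs (⟨g i, by ring⟩ : g j * g k ∣ g i * g j * g k) (w j k) -
      rs (⟨g j, by ring⟩ : g i * g k ∣ g i * g j * g k) (w i k) = 0) →
    (∀ S : Finset ι, (∀ q, q ∈ S ↔ q ∉ T) → ∀ i j, Kd g S (w i j)) →
    ∃ e : ι → E, ∀ i j, w i j = mkL (g i * g j) (e i - e j) := by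
  cases nonempty_fintype ι
  induction T using Finset.induction_on with
  | empty =>
    intro w _ hk
    refine ⟨0, fun i j => ?_⟩
    obtain ⟨k, h⟩ := hk Finset.univ (by simp) i j i (Finset.mem_univ i)
    rw [Pi.zero_apply, Pi.zero_apply, sub_zero, map_zero]
    exact eq_zero_of_kill (dvd_mul_right _ _) h
  | @insert q T hq ih =>
    intro w hw hk
    let S : Finset ι := Finset.univ \ insert q T
    have hS : ∀ i j, Kd g S (w i j) := hk S (by simp [S])
    choose e he hek using fun i => exists_global (hS q i)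
    obtain ⟨e', he'⟩ := ih (fun i j => w i j - mkL (g i * g j) (e j - e i)) (fun i j k => by
      have h := hw i j k
      simp only [map_sub, rs_mkL] at h ⊢
      rw [← h]; abel) fun S' hS' i j => by
      have hsub : ∀ p ∈ S', p ∈ insert q S := fun p hp => by
        have := (hS' p).1 hp
        simp [S, this]; tauto
      refine fun p hp => exists_kd_insert (⟨g q, by ring⟩ : g i * g j ∣ g q * g i * g j) (dvd_of_eq (mul_assoc _ _ _)) ?_
        ((hS i j).sub (Kd.mkL _ fun r hr => ?_)) p (hsub p hp)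
      · have hi := congrArg (rs (dvd_mul_right (g q * g i) (g j))) (he i)
        have hj := congrArg (rs (⟨g i, by ring⟩ : g q * g j ∣ g q * g i * g j)) (he j)
        have h := hw q i j
        simp only [map_sub, rs_mkL] at hi hj h ⊢
        rw [hi, hj, ← h]; abel
      · obtain ⟨k, hk'⟩ := hek i r hr
        obtain ⟨k', hk''⟩ := hek j r hr
        exact ⟨k + k', by rw [smul_sub, pow_add, mul_smul, mul_smul, hk'', smul_zero, zero_sub, smul_comm, hk', smul_zero,
          neg_zero]⟩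
    refine ⟨fun i => e' i - e i, fun i j => ?_⟩
    rw [show e' i - e i - (e' j - e j) = (e' i - e' j) + (e j - e i) by abel, map_add, ← he', sub_add_cancel]

/-- One-cocycles are coboundaries of global elements. -/
theorem exact1' (w : ∀ i j, Lm (g i * g j) E)
    (hw : ∀ i j k, rs (dvd_mul_right _ _) (w i j) + rs (⟨g i, by ring⟩ : g j * g k ∣ g i * g j * g k) (w j k) -
      rs (⟨g j, by ring⟩ : g i * g k ∣ g i * g j * g k) (w i k) = 0) :
    ∃ e : ι → E, ∀ i j, w i j = mkL (g i * g j) (e i - e j) := by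
  cases nonempty_fintype ι
  exact exact1 Finset.univ w hw fun S hS i j p hp => absurd (Finset.mem_univ p) ((hS p).1 hp)

theorem exact2 (T : Finset ι) : ∀ c : ∀ i j k, Lm (g i * g j * g k) E,
    (∀ i j k l, rs (⟨g i, by ring⟩ : g j * g k * g l ∣ g i * g j * g k * g l) (c j k l)
      - rs (⟨g j, by ring⟩ : g i * g k * g l ∣ g i * g j * g k * g l) (c i k l)
      + rs (⟨g k, by ring⟩ : g i * g j * g l ∣ g i * g j * g k * g l) (c i j l)
      - rs (dvd_mul_right (g i * g j * g k) (g l)) (c i j k) = 0) →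
    (∀ S : Finset ι, (∀ q, q ∈ S ↔ q ∉ T) → ∀ i j k, Kd g S (c i j k)) →
    ∃ e : ι → ι → E, ∀ i j k, c i j k = mkL (g i * g j * g k) (e i j + e j k - e i k) := by
  cases nonempty_fintype ι
  induction T using Finset.induction_on with
  | empty =>
    intro c _ hk
    refine ⟨0, fun i j l => ?_⟩
    obtain ⟨k, h⟩ := hk Finset.univ (by simp) i j l i (Finset.mem_univ i)
    simp only [Pi.zero_apply, add_zero, sub_zero, map_zero]
    exact eq_zero_of_kill ((dvd_mul_right _ _).trans (dvd_mul_right _ _)) h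
  | @insert q T hq ih =>
    intro c hc hk
    let S : Finset ι := Finset.univ \ insert q T
    have hS : ∀ i j k, Kd g S (c i j k) := hk S (by simp [S])
    choose e he hek using fun i j => exists_global (hS q i j)
    obtain ⟨e', he'⟩ := ih (fun i j k => c i j k - mkL (g i * g j * g k) (e i j + e j k - e i k)) (fun i j k l => by
      have h := hc i j k l
      simp only [map_sub, map_add, rs_mkL] at h ⊢
      rw [← h]; abel) fun S' hS' i j k => by
      have hsub : ∀ p ∈ S', p ∈ insert q S := fun p hp => by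
        have := (hS' p).1 hp
        simp [S, this]; tauto
      refine fun p hp => exists_kd_insert (⟨g q, by ring⟩ : g i * g j * g k ∣ g q * g i * g j * g k)
        (dvd_of_eq (by ring)) ?_ ((hS i j k).sub (Kd.mkL _ fun r hr => ?_)) p (hsub p hp)
      · have hij := congrArg (rs (dvd_mul_right (g q * g i * g j) (g k))) (he i j)
        have hjk := congrArg (rs (⟨g i, by ring⟩ : g q * g j * g k ∣ g q * g i * g j * g k)) (he j k)
        have hik := congrArg (rs (⟨g j, by ring⟩ : g q * g i * g k ∣ g q * g i * g j * g k)) (he i k)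
        have h := hc q i j k
        simp only [map_sub, map_add, rs_mkL] at hij hjk hik h ⊢
        rw [hij, hjk, hik, ← h]; abel
      · obtain ⟨a, ha⟩ := hek i j r hr
        obtain ⟨b, hb⟩ := hek j k r hr
        obtain ⟨d, hd⟩ := hek i k r hr
        refine ⟨a + b + d, ?_⟩
        rw [smul_sub, smul_add, pow_add, mul_smul _ (g r ^ d), mul_smul _ (g r ^ d), mul_smul _ (g r ^ d), hd, smul_zero,
          sub_zero, smul_comm _ (g r ^ d), smul_comm _ (g r ^ d), pow_add, mul_smul, mul_smul, hb,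
          smul_comm (g r ^ a) (g r ^ b), ha]
        simp only [smul_zero, add_zero]
    refine ⟨fun i j => e' i j + e i j, fun i j k => ?_⟩
    rw [show e' i j + e i j + (e' j k + e j k) - (e' i k + e i k) =
      (e' i j + e' j k - e' i k) + (e i j + e j k - e i k) by abel, map_add, ← he', sub_add_cancel]

/-- Two-cocycles are coboundaries of global elements. -/
theorem exact2' (c : ∀ i j k, Lm (g i * g j * g k) E)
    (hc : ∀ i j k l, rs (⟨g i, by ring⟩ : g j * g k * g l ∣ g i * g j * g k * g l) (c j k l)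
      - rs (⟨g j, by ring⟩ : g i * g k * g l ∣ g i * g j * g k * g l) (c i k l)
      + rs (⟨g k, by ring⟩ : g i * g j * g l ∣ g i * g j * g k * g l) (c i j l)
      - rs (dvd_mul_right (g i * g j * g k) (g l)) (c i j k) = 0) :
    ∃ e : ι → ι → E, ∀ i j k, c i j k = mkL (g i * g j * g k) (e i j + e j k - e i k) := by
  cases nonempty_fintype ι
  exact exact2 Finset.univ c hc fun S hS i j k p hp => absurd (Finset.mem_univ p) ((hS p).1 hp)

end Groth.Agent.PicLiftLib.Cech
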