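import Groth.Agent.PicLiftLib.CechInj
import Groth.Agent.LocCohLib.Acyclic
import Groth.Prelude.Def_Wider

/-!
# Čech cohomology of a punctured affine scheme and local cohomology
-/

set_option autoImplicit false
set_option linter.style.haveILetI false
set_option linter.unusedSectionVars false

universe u

open CategoryTheory Groth.Agent.LocCohLib

namespace Groth.Agent.PicLiftLib.Cech

variable {R : Type u} [CommRing R] {ι : Type} {g : ι → R}

/-- Restriction as a linear map. -/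
noncomputable def resL {x y : R} (h : x ∣ y) : Lo x →ₗ[R] Lo y where
  toFun := res h
  map_add' := map_add _
  map_smul' a w := by rw [Algebra.smul_def, map_mul, res_algebraMap, RingHom.id_apply, Algebra.smul_def]

@[simp] theorem resL_apply {x y : R} (h : x ∣ y) (w : Lo x) : resL h w = res h w := rfl

/-- The coboundary in degree zero. -/
noncomputable def d0L (g : ι → R) : (∀ i, Lo (g i)) →ₗ[R] (∀ i j, Lo (g i * g j)) :=
  LinearMap.pi fun i => LinearMap.pi fun j =>
    resL (dvd_mul_right _ _) ∘ₗ LinearMap.proj i - resL (dvd_mul_left _ _) ∘ₗ LinearMap.proj j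

theorem d0L_apply (s : ∀ i, Lo (g i)) (i j : ι) : d0L g s i j = d0 g s i j := rfl

/-- The coboundary in degree one. -/
noncomputable def d1L (g : ι → R) : (∀ i j, Lo (g i * g j)) →ₗ[R] (∀ i j k, Lo (g i * g j * g k)) :=
  LinearMap.pi fun i => LinearMap.pi fun j => LinearMap.pi fun k =>
    resL (dvd_mul_right _ _) ∘ₗ LinearMap.proj j ∘ₗ LinearMap.proj i +
      resL (⟨g i, by ring⟩ : g j * g k ∣ g i * g j * g k) ∘ₗ LinearMap.proj k ∘ₗ LinearMap.proj j -
      resL (⟨g j, by ring⟩ : g i * g k ∣ g i * g j * g k) ∘ₗ LinearMap.proj k ∘ₗ LinearMap.proj i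

theorem d1L_apply (w : ∀ i j, Lo (g i * g j)) (i j k : ι) : d1L g w i j k = d1 g w i j k := rfl

variable [IsNoetherianRing R] (J : InjectiveResolution (ModuleCat.of R R))

/-- The augmentation on a basic open. -/
noncomputable def aug (x : R) : Lo x →ₗ[R] Lm x (J.cocomplex.X 0) :=
  IsLocalizedModule.map (Submonoid.powers x) (Algebra.linearMap R (Lo x)) (mkL x) (J.ι.f 0).hom

theorem aug_algebraMap (x a : R) : aug J x (algebraMap R (Lo x) a) = mkL x ((J.ι.f 0).hom a) :=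
  IsLocalizedModule.map_apply (Submonoid.powers x) (Algebra.linearMap R (Lo x)) (mkL x) (J.ι.f 0).hom a

theorem aug_res {x y : R} (h : x ∣ y) (w : Lo x) : aug J y (res h w) = rs h (aug J x w) := by
  have e : aug J y ∘ₗ resL h = rs h ∘ₗ aug J x := by
    refine IsLocalizedModule.ext (Submonoid.powers x) (Algebra.linearMap R (Lo x)) (isUnit_smul h) ?_
    refine LinearMap.ext fun a => ?_
    simp [aug_algebraMap]
  exact DFunLike.congr_fun e w

theorem aug_injective (x : R) : Function.Injective (aug J x) :=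
  IsLocalizedModule.map_injective (Submonoid.powers x) (Algebra.linearMap R (Lo x)) (mkL x) (J.ι.f 0).hom
    (ι_zero_injective J)

/-- The differential on a basic open. -/
noncomputable abbrev dM (x : R) (n : ℕ) : Lm x (J.cocomplex.X n) →ₗ[R] Lm x (J.cocomplex.X (n + 1)) :=
  mapM (J.cocomplex.d n (n + 1)).hom x

theorem exists_aug {x : R} {z : Lm x (J.cocomplex.X 0)} (hz : dM J x 0 z = 0) : ∃ w, aug J x w = z :=
  (IsLocalizedModule.map_exact (Submonoid.powers x) (Algebra.linearMap R (Lo x)) (mkL x) (mkL x)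
    (J.ι.f 0).hom (J.cocomplex.d 0 1).hom (fun y => ⟨fun hy => exists_ι_zero J y hy, fun ⟨m, hm⟩ => by
      rw [← hm]; exact congr($(J.ι_f_zero_comp_complex_d).hom m)⟩) z).1 hz

theorem exists_dM {x : R} {n : ℕ} {z : Lm x (J.cocomplex.X (n + 1))} (hz : dM J x (n + 1) z = 0) :
    ∃ w, dM J x n w = z :=
  (IsLocalizedModule.map_exact (Submonoid.powers x) (mkL x) (mkL x) (mkL x)
    (J.cocomplex.d n (n + 1)).hom (J.cocomplex.d (n + 1) (n + 2)).hom (fun y => ⟨fun hy => resolution_exact J n y hy,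
      fun ⟨m, hm⟩ => by
        rw [← hm]; exact congr($(J.cocomplex.d_comp_d n (n + 1) (n + 2)).hom m)⟩) z).1 hz

theorem dM_aug (x : R) (w : Lo x) : dM J x 0 (aug J x w) = 0 :=
  (IsLocalizedModule.map_exact (Submonoid.powers x) (Algebra.linearMap R (Lo x)) (mkL x) (mkL x)
    (J.ι.f 0).hom (J.cocomplex.d 0 1).hom (fun y => ⟨fun hy => exists_ι_zero J y hy, fun ⟨m, hm⟩ => by
      rw [← hm]; exact congr($(J.ι_f_zero_comp_complex_d).hom m)⟩) _).2 ⟨w, rfl⟩

theorem d_d (n : ℕ) (e : J.cocomplex.X n) :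
    (J.cocomplex.d (n + 1) (n + 2)).hom ((J.cocomplex.d n (n + 1)).hom e) = 0 :=
  congr($(J.cocomplex.d_comp_d n (n + 1) (n + 2)).hom e)

instance (n : ℕ) : Module.Injective R (J.cocomplex.X n) :=
  haveI : Injective (ModuleCat.of R (J.cocomplex.X n)) := J.injective n
  Module.injective_module_of_injective_object R (J.cocomplex.X n)

variable [Finite ι]

theorem mem_gamma {n : ℕ} {e : J.cocomplex.X n} (h : ∀ i, mkL (g i) e = 0) :
    e ∈ DRing.torsionSub (Ideal.span (Set.range g)) (J.cocomplex.X n) := by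
  refine mem_torsionSub_span (Set.finite_range g) ?_
  rintro _ ⟨i, rfl⟩
  exact mkL_eq_zero.1 (h i)

theorem mkL_gamma {n : ℕ} {e : J.cocomplex.X n}
    (h : e ∈ DRing.torsionSub (Ideal.span (Set.range g)) (J.cocomplex.X n)) (i : ι) : mkL (g i) e = 0 :=
  mkL_eq_zero.2 (exists_pow_smul_of_mem h ⟨i, rfl⟩)

theorem finite_of_ker_le {P H Q : Type u} [AddCommGroup P] [Module R P] (W : Submodule R P) [AddCommGroup H] [Module R H]
    [AddCommGroup Q] [Module R Q] [Module.Finite R H] (Ψ : W →ₗ[R] H) (prj : W →ₗ[R] Q)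
    (hk : LinearMap.ker Ψ ≤ LinearMap.ker prj) (hs : Function.Surjective prj) : Module.Finite R Q := by
  haveI : IsNoetherian R H := isNoetherian_of_isNoetherianRing_of_finite R H
  haveI : Module.Finite R (W ⧸ LinearMap.ker Ψ) := Module.Finite.equiv Ψ.quotKerEquivRange.symm
  exact Module.Finite.of_surjective ((LinearMap.ker Ψ).liftQ prj hk) fun c => by
    obtain ⟨p, hp⟩ := hs c
    exact ⟨Submodule.Quotient.mk p, hp⟩

/-- Evaluation of a one-cochain. -/
noncomputable def ev2 (i j : ι) : (∀ i j, Lo (g i * g j)) →ₗ[R] Lo (g i * g j) where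
  toFun w := w i j
  map_add' _ _ := rfl
  map_smul' _ _ := rfl

local notation "𝔞" => Ideal.span (Set.range g)

/-- Functions on the open form a finite module when the first local cohomology is finite. -/
theorem finite_ker_d0L (h : Module.Finite R (LocCoh.H 𝔞 1 R)) : Module.Finite R (LinearMap.ker (d0L g)) := by
  classical
  obtain ⟨J⟩ := HasInjectiveResolution.out (Z := ModuleCat.of R R)
  obtain ⟨S, hS, hker⟩ := presents_injectiveResolution 𝔞 J 1
  let W : Submodule R (LinearMap.ker (d0L g) × J.cocomplex.X 0) :=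
    ⨅ i, LinearMap.eqLocus (aug J (g i) ∘ₗ LinearMap.proj i ∘ₗ (LinearMap.ker (d0L g)).subtype ∘ₗ LinearMap.fst R _ _)
      (mkL (g i) ∘ₗ LinearMap.snd R _ _)
  have hW : ∀ (p : W) i, aug J (g i) (p.1.1.1 i) = mkL (g i) p.1.2 := fun p i => (Submodule.mem_iInf _).1 p.2 i
  have hz : ∀ p : W, (J.cocomplex.d 0 1).hom p.1.2 ∈ ZI 𝔞 J.cocomplex 1 := fun p =>
    ⟨mem_gamma J fun i => by rw [← mapM_mkL, ← hW p i]; exact dM_aug J _ _, d_d J 0 _⟩
  let Ψ : W →ₗ[R] LocCoh.H 𝔞 1 R :=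
    S ∘ₗ LinearMap.codRestrict (ZI 𝔞 J.cocomplex 1) ((J.cocomplex.d 0 1).hom ∘ₗ LinearMap.snd R _ _ ∘ₗ W.subtype) hz
  let alg : R →ₗ[R] LinearMap.ker (d0L g) := LinearMap.codRestrict _ (LinearMap.pi fun i => Algebra.linearMap R (Lo (g i)))
    fun a => LinearMap.mem_ker.2 (funext₂ fun i j => by simp [d0L_apply, d0])
  let prj : W →ₗ[R] LinearMap.ker (d0L g) ⧸ LinearMap.range alg :=
    (LinearMap.range alg).mkQ ∘ₗ LinearMap.fst R _ _ ∘ₗ W.subtype
  have hk : LinearMap.ker Ψ ≤ LinearMap.ker prj := fun p hp => by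
    obtain ⟨γ, hγ, hγe⟩ := mem_BI_succ.1 ((hker _).1 hp)
    obtain ⟨a, ha⟩ := exists_ι_zero J (p.1.2 - γ) (by
      rw [map_sub, sub_eq_zero]; exact hγe.symm)
    refine (Submodule.Quotient.mk_eq_zero _).2 ⟨a, Subtype.ext (funext fun i => aug_injective J _ ?_)⟩
    show aug J (g i) (algebraMap R (Lo (g i)) a) = aug J (g i) (p.1.1.1 i)
    rw [aug_algebraMap, ha, map_sub, mkL_gamma J hγ, sub_zero, hW p i]
  have hsurj : Function.Surjective prj := fun c => by
    obtain ⟨s, rfl⟩ := Submodule.mkQ_surjective _ c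
    obtain ⟨e, he⟩ := exact0' (fun i => aug J (g i) (s.1 i)) fun i j => by
      rw [← aug_res, ← aug_res]
      exact congrArg _ (sub_eq_zero.1 (congrFun (congrFun (LinearMap.mem_ker.1 s.2) i) j))
    exact ⟨⟨(s, e), (Submodule.mem_iInf _).2 he⟩, rfl⟩
  haveI := h
  haveI : Module.Finite R (LinearMap.ker (d0L g) ⧸ LinearMap.range alg) := finite_of_ker_le W Ψ prj hk hsurj
  exact Module.Finite.of_submodule_quotient (LinearMap.range alg)

/-- The coboundaries inside the cocycles. -/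
noncomputable def B (g : ι → R) : Submodule R (LinearMap.ker (d1L g)) :=
  (LinearMap.range (d0L g)).comap (LinearMap.ker (d1L g)).subtype

/-- The first Čech cohomology is finite when the second local cohomology is. -/
theorem finite_H1 (h : Module.Finite R (LocCoh.H 𝔞 2 R)) : Module.Finite R (LinearMap.ker (d1L g) ⧸ B g) := by
  classical
  obtain ⟨J⟩ := HasInjectiveResolution.out (Z := ModuleCat.of R R)
  obtain ⟨S, hS, hker⟩ := presents_injectiveResolution 𝔞 J 2
  let W₁ : Submodule R (LinearMap.ker (d1L g) × (ι → J.cocomplex.X 0) × J.cocomplex.X 1) := ⨅ i, ⨅ j, LinearMap.eqLocus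
    (aug J (g i * g j) ∘ₗ ev2 i j ∘ₗ (LinearMap.ker (d1L g)).subtype ∘ₗ LinearMap.fst R _ _)
    (mkL (g i * g j) ∘ₗ (LinearMap.proj (R := R) (φ := fun _ : ι => (J.cocomplex.X 0 : Type u)) i -
      LinearMap.proj (R := R) (φ := fun _ : ι => (J.cocomplex.X 0 : Type u)) j) ∘ₗ LinearMap.fst R _ _ ∘ₗ LinearMap.snd R _ _)
  let W₂ : Submodule R (LinearMap.ker (d1L g) × (ι → J.cocomplex.X 0) × J.cocomplex.X 1) := ⨅ i, LinearMap.eqLocus
    (mkL (g i) ∘ₗ (J.cocomplex.d 0 1).hom ∘ₗ LinearMap.proj (R := R) (φ := fun _ : ι => (J.cocomplex.X 0 : Type u)) i ∘ₗ LinearMap.fst R _ _ ∘ₗ LinearMap.snd R _ _)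
    (mkL (g i) ∘ₗ LinearMap.snd R _ _ ∘ₗ LinearMap.snd R _ _)
  let W := W₁ ⊓ W₂
  have hW1 : ∀ (p : W) i j, aug J (g i * g j) (p.1.1.1 i j) = mkL (g i * g j) (p.1.2.1 i - p.1.2.1 j) := fun p i j =>
    (Submodule.mem_iInf _).1 ((Submodule.mem_iInf _).1 p.2.1 i) j
  have hW2 : ∀ (p : W) i, mkL (g i) ((J.cocomplex.d 0 1).hom (p.1.2.1 i)) = mkL (g i) p.1.2.2 := fun p i =>
    (Submodule.mem_iInf _).1 p.2.2 i
  have hz : ∀ p : W, (J.cocomplex.d 1 2).hom p.1.2.2 ∈ ZI 𝔞 J.cocomplex 2 := fun p =>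
    ⟨mem_gamma J fun i => by rw [← mapM_mkL, ← hW2 p i, mapM_mkL, d_d, map_zero], d_d J 1 _⟩
  let Ψ : W →ₗ[R] LocCoh.H 𝔞 2 R :=
    S ∘ₗ LinearMap.codRestrict (ZI 𝔞 J.cocomplex 2)
      ((J.cocomplex.d 1 2).hom ∘ₗ LinearMap.snd R _ _ ∘ₗ LinearMap.snd R _ _ ∘ₗ W.subtype) hz
  let prj : W →ₗ[R] LinearMap.ker (d1L g) ⧸ B g := (B g).mkQ ∘ₗ LinearMap.fst R _ _ ∘ₗ W.subtype
  have hk : LinearMap.ker Ψ ≤ LinearMap.ker prj := fun p hp => by
    obtain ⟨γ, hγ, hγe⟩ := mem_BI_succ.1 ((hker _).1 hp)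
    obtain ⟨η, hη⟩ := resolution_exact J 0 (p.1.2.2 - γ) (by
      rw [map_sub, sub_eq_zero]; exact hγe.symm)
    choose β hβ using fun i => exists_aug J (z := mkL (g i) (p.1.2.1 i - η)) (by
      rw [mapM_mkL, map_sub, hη, map_sub, hW2 p i, map_sub, mkL_gamma J hγ, sub_zero, sub_self])
    refine (Submodule.Quotient.mk_eq_zero _).2 ⟨β, funext₂ fun i j => aug_injective J _ ?_⟩
    show aug J _ (d0 g β i j) = aug J _ (p.1.1.1 i j)
    rw [hW1 p i j, d0, map_sub, aug_res, aug_res, hβ, hβ, rs_mkL, rs_mkL, ← map_sub, sub_sub_sub_cancel_right]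
  have hsurj : Function.Surjective prj := fun c => by
    obtain ⟨w, rfl⟩ := Submodule.mkQ_surjective _ c
    obtain ⟨a, ha⟩ := exact1' (fun i j => aug J _ (w.1 i j)) fun i j k => by
      have h := congrArg (aug J (g i * g j * g k)) (congrFun (congrFun (congrFun (LinearMap.mem_ker.1 w.2) i) j) k)
      rw [d1L_apply, d1, map_sub, map_add, aug_res, aug_res, aug_res, Pi.zero_apply, Pi.zero_apply, Pi.zero_apply,
        map_zero] at h
      exact h
    obtain ⟨e, he⟩ := exact0' (fun i => mkL (g i) ((J.cocomplex.d 0 1).hom (a i))) fun i j => by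
      rw [rs_mkL, rs_mkL, ← sub_eq_zero, ← map_sub, ← map_sub, ← mapM_mkL, ← ha]
      exact dM_aug J _ _
    exact ⟨⟨(w, a, e), (Submodule.mem_iInf _).2 fun i => (Submodule.mem_iInf _).2 fun j => ha i j,
      (Submodule.mem_iInf _).2 he⟩, rfl⟩
  haveI := h
  exact finite_of_ker_le W Ψ prj hk hsurj

/-- The second Čech cohomology vanishes when the third local cohomology does. -/
theorem h2_of_subsingleton (h : Subsingleton (LocCoh.H 𝔞 3 R)) : H2 g := by
  classical
  obtain ⟨J⟩ := HasInjectiveResolution.out (Z := ModuleCat.of R R)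
  haveI := h
  have hZB := (presents_injectiveResolution 𝔞 J 3).le_of_subsingleton
  intro c hc
  obtain ⟨e, he⟩ := exact2' (fun i j k => aug J _ (c i j k)) fun i j k l => by
    have h := congrArg (aug J (g i * g j * g k * g l)) (hc i j k l)
    rw [d2, map_sub, map_add, map_sub, aug_res, aug_res, aug_res, aug_res, map_zero] at h
    exact h
  obtain ⟨a, ha⟩ := exact1' (fun i j => mkL (g i * g j) ((J.cocomplex.d 0 1).hom (e i j))) fun i j k => by
    rw [rs_mkL, rs_mkL, rs_mkL, ← map_add, ← map_sub, ← map_add, ← map_sub, ← mapM_mkL, ← he]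
    exact dM_aug J _ _
  obtain ⟨h', hh'⟩ := exact0' (fun i => mkL (g i) ((J.cocomplex.d 1 2).hom (a i))) fun i j => by
    rw [rs_mkL, rs_mkL, ← sub_eq_zero, ← map_sub, ← map_sub, ← mapM_mkL, ← ha, mapM_mkL, d_d, map_zero]
  obtain ⟨γ, hγ, hγe⟩ := mem_BI_succ.1 (hZB (x := (J.cocomplex.d 2 3).hom h')
    ⟨mem_gamma J fun i => by rw [← mapM_mkL, ← hh', mapM_mkL, d_d, map_zero], d_d J 2 _⟩)
  obtain ⟨η, hη⟩ := resolution_exact J 1 (h' - γ) (by rw [map_sub, sub_eq_zero]; exact hγe.symm)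
  choose ξ hξ using fun i => exists_dM J (n := 0) (z := mkL (g i) (a i - η)) (by
    rw [mapM_mkL, map_sub, hη, map_sub, hh', map_sub, mkL_gamma J hγ, sub_zero, sub_self])
  choose β hβ using fun i j => exists_aug J
    (z := mkL (g i * g j) (e i j) - rs (dvd_mul_right _ _) (ξ i) + rs (dvd_mul_left _ _) (ξ j)) (by
      rw [map_add, map_sub, mapM_rs, mapM_rs, hξ, hξ, mapM_mkL, ha, rs_mkL, rs_mkL, ← map_sub, ← map_add]
      rw [show a i - a j - (a i - η) + (a j - η) = 0 by abel, map_zero])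
  refine ⟨β, fun i j k => aug_injective J _ ?_⟩
  simp only [he, d1, map_sub, map_add, aug_res, hβ, rs_mkL, rs_rs]
  abel

end Groth.Agent.PicLiftLib.Cech
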