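import Groth.Agent.PicLiftLib.Tower
import Groth.Agent.PicLiftLib.CechDepth

/-!
# Twisted Čech cochains on a thickening
-/

set_option autoImplicit false
set_option linter.style.haveILetI false
set_option linter.unusedSectionVars false

universe u

namespace Groth.Agent.PicLiftLib

variable {A : Type u} [CommRing A] {f : A} {ι : Type} {g : ι → A} {n : ℕ}

/-- The twisted coboundary. -/
noncomputable def dif (v : ∀ i j, O2 f g n i j) : (∀ i, O1 f g n i) →ₗ[A] (∀ i j, O2 f g n i j) where
  toFun t i j := res (dvd_mul_right (g i) (g j)) (t i) - v i j * res (dvd_mul_left (g j) (g i)) (t j)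
  map_add' t t' := funext₂ fun i j => by simp only [Pi.add_apply, map_add]; ring
  map_smul' a t := funext₂ fun i j => by simp only [Pi.smul_apply, map_smul, RingHom.id_apply, mul_smul_comm, smul_sub]

theorem dif_apply (v : ∀ i j, O2 f g n i j) (t : ∀ i, O1 f g n i) (i j : ι) :
    dif v t i j = res (dvd_mul_right (g i) (g j)) (t i) - v i j * res (dvd_mul_left (g j) (g i)) (t j) := rfl

theorem dif_eq_zero_iff {v : ∀ i j, O2 f g n i j} {t : ∀ i, O1 f g n i} : dif v t = 0 ↔ IsSec v t := by
  simp only [funext_iff, Pi.zero_apply, dif_apply, sub_eq_zero]; rfl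

/-- The twisted coboundary in degree one. -/
noncomputable def dif1 (v : ∀ i j, O2 f g n i j) : (∀ i j, O2 f g n i j) →ₗ[A] (∀ i j k, O3 f g n i j k) where
  toFun w i j k := res (dvd_mul_right (g i * g j) (g k)) (w i j) +
    res (dvd_mul_right (g i * g j) (g k)) (v i j) * res (dvd_snd i j k) (w j k) - res (dvd_mid i j k) (w i k)
  map_add' t t' := funext fun i => funext₂ fun j k => by simp only [Pi.add_apply, map_add]; ring
  map_smul' a t := funext fun i => funext₂ fun j k => by
    simp only [Pi.smul_apply, map_smul, RingHom.id_apply, mul_smul_comm, smul_sub, smul_add]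

theorem dif1_apply (v w : ∀ i j, O2 f g n i j) (i j k : ι) :
    dif1 v w i j k = res (dvd_mul_right (g i * g j) (g k)) (w i j) +
    res (dvd_mul_right (g i * g j) (g k)) (v i j) * res (dvd_snd i j k) (w j k) - res (dvd_mid i j k) (w i k) := rfl

theorem dif1_dif {v : ∀ i j, O2 f g n i j} (hv : IsCoc v) (t : ∀ i, O1 f g n i) : dif1 v (dif v t) = 0 := by
  funext i j k
  simp only [dif1_apply, dif_apply, map_sub, map_mul, res_res, Pi.zero_apply]
  linear_combination -(res ((dvd_mul_left (g k) (g j)).trans (dvd_snd i j k)) (t k)) * hv i j k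

/-- Twisted `1`-cocycles. -/
noncomputable def Z1 (v : ∀ i j, O2 f g n i j) : Submodule A (∀ i j, O2 f g n i j) := LinearMap.ker (dif1 v)

/-- Twisted `1`-coboundaries inside the cocycles. -/
noncomputable def B1 (v : ∀ i j, O2 f g n i j) : Submodule A (Z1 v) := (LinearMap.range (dif v)).comap (Z1 v).subtype

/-- The trivial cocycle. -/
noncomputable def one : ∀ i j, O2 f g n i j := fun _ _ => 1

theorem isCoc_one : IsCoc (one : ∀ i j, O2 f g n i j) := fun i j k => by simp [one]

/-- The inverse cocycle. -/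
noncomputable def tr (v : ∀ i j, O2 f g n i j) : ∀ i j, O2 f g n i j :=
  fun i j => res (dvd_of_eq (mul_comm (g j) (g i))) (v j i)

theorem res_eq_cech {x y : A} (h : x ∣ y) (w : L f n x) :
    res h w = Cech.res (map_dvd (algebraMap A (Th f n)) h) w :=
  DFunLike.congr_fun (Cech.hom_ext ((res h : L f n x →ₐ[A] L f n y) : L f n x →+* L f n y)
    (Cech.res (map_dvd (algebraMap A (Th f n)) h)) fun a => by
      obtain ⟨a, rfl⟩ := Ideal.Quotient.mk_surjective a
      rw [show Ideal.Quotient.mk _ a = algebraMap A (Th f n) a from rfl, Cech.res_algebraMap,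
        RingHom.coe_coe, ← IsScalarTower.algebraMap_apply A (Th f n) (L f n x), AlgHom.commutes,
        IsScalarTower.algebraMap_apply A (Th f n) (L f n y)]) w

theorem exists_ext {q x y : A} (hxy : x ∣ y) (hy : y ∣ q * x) (z : L f n y) :
    ∃ k, ∀ K, k ≤ K → ∃ w : L f n x, res hxy w = algebraMap A (L f n y) (q ^ K) * z := by
  obtain ⟨k, hk⟩ := Cech.exists_ext (q := algebraMap A (Th f n) q) (map_dvd (algebraMap A (Th f n)) hxy)
    (by rw [← map_mul]; exact map_dvd _ hy) z
  refine ⟨k, fun K hK => ?_⟩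
  obtain ⟨w, hw⟩ := hk K hK
  exact ⟨w, by rw [res_eq_cech, hw, IsScalarTower.algebraMap_apply A (Th f n) (L f n y), map_pow (algebraMap A (Th f n))]⟩

theorem exists_kill {q x y : A} (hxy : x ∣ y) (hy : y ∣ q * x) {w : L f n x} (hw : res hxy w = 0) :
    ∃ k, ∀ K, k ≤ K → algebraMap A (L f n x) (q ^ K) * w = 0 := by
  obtain ⟨k, hk⟩ := Cech.exists_kill (q := algebraMap A (Th f n) q) (map_dvd (algebraMap A (Th f n)) hxy)
    (by rw [← map_mul]; exact map_dvd _ hy) (res_eq_cech hxy w ▸ hw)
  refine ⟨k, fun K hK => ?_⟩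
  rw [IsScalarTower.algebraMap_apply A (Th f n) (L f n x), map_pow (algebraMap A (Th f n))]
  exact hk K hK

theorem res_injective {q x y : A} (hxy : x ∣ y) (hy : y ∣ q * x) (hq : q ∣ x) :
    Function.Injective (res (f := f) (n := n) hxy) := by
  rw [injective_iff_map_eq_zero]
  intro w hw
  obtain ⟨k, hk⟩ := exists_kill hxy hy hw
  exact ((isUnit_of_dvd n hq).pow k).mul_right_eq_zero.1 (by rw [← map_pow]; exact hk k le_rfl)

theorem coc_self {v : ∀ i j, O2 f g n i j} (hu : ∀ i j, IsUnit (v i j)) (hv : IsCoc v) (i : ι) : v i i = 1 := by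
  refine res_injective (q := g i) (dvd_mul_right (g i * g i) (g i)) (dvd_of_eq (mul_comm _ _)) (dvd_mul_right _ _) ?_
  refine ((hu i i).map (res (dvd_snd i i i))).mul_right_cancel ?_
  rw [map_one, one_mul]
  exact (hv i i i).trans rfl

theorem coc_tr_mul {v : ∀ i j, O2 f g n i j} (hu : ∀ i j, IsUnit (v i j)) (hv : IsCoc v) (i j : ι) :
    v i j * tr v i j = 1 := by
  refine res_injective (q := g i) (dvd_mul_right (g i * g j) (g i)) (dvd_of_eq (mul_comm _ _)) (dvd_mul_right _ _) ?_
  have h := hv i j i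
  rw [coc_self hu hv i, map_one] at h
  rw [map_mul, map_one, tr, res_res]
  exact h

theorem isUnit_tr {v : ∀ i j, O2 f g n i j} (hu : ∀ i j, IsUnit (v i j)) (i j : ι) : IsUnit (tr v i j) :=
  (hu j i).map _

theorem isCoc_tr {v : ∀ i j, O2 f g n i j} (hv : IsCoc v) : IsCoc (tr v) := by
  intro i j k
  have h := congrArg (res (⟨1, by ring⟩ : g k * g j * g i ∣ g i * g j * g k)) (hv k j i)
  simp only [map_mul, res_res] at h
  simp only [tr, res_res]
  linear_combination h

variable [Finite ι]

/-- A twisted section which is a power of the equation on one open. -/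
theorem exists_sec {v : ∀ i j, O2 f g n i j} (hu : ∀ i j, IsUnit (v i j)) (hv : IsCoc v) (i : ι) :
    ∃ (s : ∀ j, O1 f g n j) (K : ℕ), IsSec v s ∧ s i = algebraMap A _ (g i ^ K) := by
  obtain ⟨K, hK⟩ := Cech.exists_bound (P := fun j K => ∃ w : O1 f g n j,
      res (dvd_mul_right (g j) (g i)) w = algebraMap A _ (g i ^ K) * v j i) fun j =>
    exists_ext (dvd_mul_right (g j) (g i)) (dvd_of_eq (mul_comm _ _)) (v j i)
  choose w hw using hK K le_rfl
  obtain ⟨N, hN⟩ := Cech.exists_bound (P := fun (p : ι × ι) N => algebraMap A _ (g i ^ N) * dif v w p.1 p.2 = 0) fun p => by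
    obtain ⟨j, l⟩ := p
    refine exists_kill (dvd_mul_right (g j * g l) (g i)) (dvd_of_eq (mul_comm _ _)) ?_
    have hj := congrArg (res (dvd_mid j l i)) (hw j)
    have hl := congrArg (res (dvd_snd j l i)) (hw l)
    simp only [dif_apply, map_sub, map_mul, res_res, AlgHom.commutes] at hj hl ⊢
    linear_combination hj - res (dvd_mul_right (g j * g l) (g i)) (v j l) * hl - algebraMap A _ (g i ^ K) * hv j l i
  refine ⟨fun j => algebraMap A _ (g i ^ N) * w j, N + K, dif_eq_zero_iff.1 (funext₂ fun j l => ?_), ?_⟩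
  · have h := hN N le_rfl (j, l)
    simp only [dif_apply, map_mul, AlgHom.commutes, Pi.zero_apply] at h ⊢
    linear_combination h
  · refine res_injective (q := g i) (dvd_mul_right (g i) (g i)) (dvd_refl _) (dvd_refl _) ?_
    show res _ (algebraMap A _ (g i ^ N) * w i) = res _ _
    rw [map_mul, hw, AlgHom.commutes, coc_self hu hv, mul_one, AlgHom.commutes, ← map_mul, ← pow_add]

end Groth.Agent.PicLiftLib
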