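import Groth.Agent.PicLiftLib.Cochain

/-!
# Finiteness of twisted Čech cohomology in degrees zero and one
-/

set_option autoImplicit false
set_option linter.style.haveILetI false
set_option linter.unusedSectionVars false

universe u

namespace Groth.Agent.PicLiftLib

variable {A : Type u} [CommRing A] {f : A} {ι : Type} {g : ι → A} {u : ∀ i j, O2 f g 0 i j}

theorem isSec_mul {v w : ∀ i j, O2 f g 0 i j} {s t : ∀ i, O1 f g 0 i} (hs : IsSec v s) (ht : IsSec w t) :
    IsSec (fun i j => v i j * w i j) fun i => s i * t i := fun i j => by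
  simp only [map_mul]; rw [hs i j, ht i j]; ring

variable (hu : ∀ i j, IsUnit (u i j)) (hc : IsCoc u)
include hu hc

theorem gam_eq {γ : ∀ i, O1 f g 0 i} (hγ : IsSec (tr u) γ) (i j : ι) :
    res (dvd_mul_left (g j) (g i)) (γ j) = u i j * res (dvd_mul_right (g i) (g j)) (γ i) := by
  rw [hγ i j, ← mul_assoc, coc_tr_mul hu hc, one_mul]

theorem isSec_one_mul {γ s : ∀ i, O1 f g 0 i} (hγ : IsSec (tr u) γ) (hs : IsSec u s) :
    IsSec one fun i => s i * γ i := fun i j => by
  simp only [map_mul]; rw [hs i j, hγ i j, one, one_mul]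
  linear_combination (res (dvd_mul_left (g j) (g i)) (s j) * res (dvd_mul_left (g j) (g i)) (γ j)) * coc_tr_mul hu hc i j

variable [Finite ι]

theorem finite_sec [IsNoetherianRing A] (h0 : Module.Finite A (LinearMap.ker (dif (one : ∀ i j, O2 f g 0 i j)))) :
    Module.Finite A (LinearMap.ker (dif u)) := by
  choose γ K hγ hγi using fun i => exists_sec (isUnit_tr hu) (isCoc_tr hc) i
  let Φ : LinearMap.ker (dif u) →ₗ[A] (ι → LinearMap.ker (dif (one : ∀ i j, O2 f g 0 i j))) :=
    { toFun := fun s q => ⟨fun i => s.1 i * γ q i,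
        LinearMap.mem_ker.2 (dif_eq_zero_iff.2 (isSec_one_mul hu hc (hγ q) (dif_eq_zero_iff.1 (LinearMap.mem_ker.1 s.2))))⟩
      map_add' := fun s t => funext fun q => Subtype.ext (funext fun i => add_mul _ _ _)
      map_smul' := fun a s => funext fun q => Subtype.ext (funext fun i => smul_mul_assoc a (s.1 i) (γ q i)) }
  refine Module.Finite.of_injective Φ (fun s t h => Subtype.ext (funext fun i => ?_))
  have h1 := congrFun (congrArg Subtype.val (congrFun h i)) i
  refine (show IsUnit (γ i i) from ?_).mul_right_cancel h1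
  rw [hγi, map_pow]
  exact (isUnit_algebraMap 0 (g i)).pow _

theorem mul_gam_cocycle {γ : ∀ i, O1 f g 0 i} (hγ : IsSec (tr u) γ) {w : ∀ i j, O2 f g 0 i j} (hw : dif1 u w = 0) :
    dif1 one (fun i j => w i j * res (dvd_mul_right (g i) (g j)) (γ i)) = 0 := by
  funext i j k
  have hw' := congrFun (congrFun (congrFun hw i) j) k
  have hg := congrArg (res (dvd_mul_right (g i * g j) (g k))) (gam_eq hu hc hγ i j)
  rw [dif1_apply] at hw'
  simp only [dif1_apply, map_mul, res_res, one, map_one, one_mul, Pi.zero_apply] at hw' hg ⊢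
  linear_combination (res ((dvd_mul_right (g i) (g j)).trans (dvd_mul_right _ (g k))) (γ i)) * hw' +
    res (dvd_snd i j k) (w j k) * hg

theorem dif_mul_gam {γ : ∀ i, O1 f g 0 i} (hγ : IsSec (tr u) γ) (t : ∀ i, O1 f g 0 i) (i j : ι) :
    dif one (fun i => t i * γ i) i j = dif u t i j * res (dvd_mul_right (g i) (g j)) (γ i) := by
  simp only [dif_apply, map_mul, one, one_mul]
  linear_combination -(res (dvd_mul_left (g j) (g i)) (t j)) * gam_eq hu hc hγ i j

theorem psi_sec {γl γm e : ∀ i, O1 f g 0 i} (hl' : IsSec (tr u) γl) (hm' : IsSec (tr u) γm) (he : IsSec u e)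
    {w : ∀ i j, O2 f g 0 i j} {bl bm : ∀ i, O1 f g 0 i}
    (hl : ∀ i j, w i j * res (dvd_mul_right (g i) (g j)) (γl i) = dif one bl i j)
    (hm : ∀ i j, w i j * res (dvd_mul_right (g i) (g j)) (γm i) = dif one bm i j) :
    dif one (fun i => (bl i * γm i - bm i * γl i) * e i) = 0 := by
  funext i j
  have h1 := hl i j
  have h2 := hm i j
  simp only [dif_apply, map_mul, map_sub, one, one_mul, Pi.zero_apply] at h1 h2 ⊢
  rw [he i j, gam_eq hu hc hl' i j, gam_eq hu hc hm' i j]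
  linear_combination (u i j * res (dvd_mul_left (g j) (g i)) (e j)) *
    (-(res (dvd_mul_right (g i) (g j)) (γm i)) * h1 + res (dvd_mul_right (g i) (g j)) (γl i) * h2)

theorem mem_range_of {γ : ι → ∀ i, O1 f g 0 i} (hγ : ∀ l, IsSec (tr u) (γ l)) (hγu : ∀ i, IsUnit (γ i i))
    {w : ∀ i j, O2 f g 0 i j} {b : ι → ∀ i, O1 f g 0 i}
    (hb : ∀ l i j, w i j * res (dvd_mul_right (g i) (g j)) (γ l i) = dif one (b l) i j)
    (h0 : ∀ l m i, b l i * γ m i = b m i * γ l i) : w ∈ LinearMap.range (dif u) := by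
  choose inv hinv using fun i => (hγu i).exists_right_inv
  refine ⟨fun i => b i i * inv i, funext₂ fun i j => ?_⟩
  refine ((hγu i).map (res (dvd_mul_right (g i) (g j)))).mul_right_cancel ?_
  rw [hb i i j]
  simp only [dif_apply, map_mul, one, one_mul]
  have a1 := congrArg (res (dvd_mul_right (g i) (g j))) (hinv i)
  have a2 := congrArg (res (dvd_mul_left (g j) (g i))) (hinv j)
  have a3 := congrArg (res (dvd_mul_left (g j) (g i))) (h0 i j j)
  have gi := gam_eq hu hc (hγ i) i j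
  simp only [map_mul, map_one] at a1 a2 a3
  linear_combination (res (dvd_mul_right (g i) (g j)) (b i i)) * a1 -
    (res (dvd_mul_left (g j) (g i)) (b i j)) * a2 +
    (res (dvd_mul_left (g j) (g i)) (b j j) * res (dvd_mul_left (g j) (g i)) (inv j)) * gi +
    res (dvd_mul_left (g j) (g i)) (inv j) * a3

omit hu hc [Finite ι] in
theorem noetherian_quot {Z E P F G : Type u} [AddCommGroup Z] [Module A Z] [AddCommGroup E] [Module A E]
    [AddCommGroup P] [Module A P] [AddCommGroup F] [Module A F] [AddCommGroup G] [Module A G] [IsNoetherian A G]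
    (B : Submodule A Z) (μ : Z →ₗ[A] E) (δ : P →ₗ[A] E) (L : Z →ₗ[A] G) (hB : B ≤ LinearMap.ker L)
    (hL : ∀ z, L z = 0 ↔ ∃ b, μ z = δ b)
    (ψ : Z × P →ₗ[A] F) (S : Submodule A F) [IsNoetherian A S] (hψ : ∀ p : Z × P, μ p.1 = δ p.2 → ψ p ∈ S)
    (hker : ∀ p : Z × P, μ p.1 = δ p.2 → ψ p = 0 → p.1 ∈ B) : IsNoetherian A (Z ⧸ B) := by
  let W : Submodule A (Z × P) := LinearMap.eqLocus (μ ∘ₗ LinearMap.fst A Z P) (δ ∘ₗ LinearMap.snd A Z P)
  let Ψ : W →ₗ[A] S := LinearMap.codRestrict S (ψ ∘ₗ W.subtype) fun p => hψ p.1 p.2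
  let prj : W →ₗ[A] Z ⧸ B := B.mkQ ∘ₗ LinearMap.fst A Z P ∘ₗ W.subtype
  have hk : LinearMap.ker Ψ ≤ LinearMap.ker prj := fun p hp =>
    (Submodule.Quotient.mk_eq_zero B).2 (hker p.1 p.2 (congrArg Subtype.val (LinearMap.mem_ker.1 hp)))
  haveI : IsNoetherian A (W ⧸ LinearMap.ker Ψ) := isNoetherian_of_linearEquiv Ψ.quotKerEquivRange.symm
  refine isNoetherian_of_range_eq_ker ((LinearMap.ker Ψ).liftQ prj hk) (B.liftQ L hB) ?_
  rw [Submodule.range_liftQ]
  apply le_antisymm
  · rintro _ ⟨p, rfl⟩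
    exact (hL p.1.1).2 ⟨p.1.2, p.2⟩
  · intro c hc
    obtain ⟨z, rfl⟩ := Submodule.mkQ_surjective B c
    obtain ⟨b, hb⟩ := (hL z).1 hc
    exact ⟨⟨(z, b), hb⟩, rfl⟩

omit hu hc [Finite ι] in
theorem isNoetherian_pi_const {κ : Type} [Finite κ] {M : Type u} [AddCommGroup M] [Module A M] (N : Submodule A M)
    [IsNoetherian A N] : IsNoetherian A (Submodule.pi Set.univ fun _ : κ => N) :=
  isNoetherian_of_injective
    (LinearMap.pi fun x => LinearMap.codRestrict N (LinearMap.proj (R := A) (φ := fun _ : κ => M) x ∘ₗ (Submodule.pi Set.univ fun _ : κ => N).subtype)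
      fun s => s.2 x trivial)
    (fun _ _ h => Subtype.ext (funext fun x => congrArg Subtype.val (congrFun h x)))

/-- Multiplication of `1`-cochains by dual sections. -/
noncomputable def mulGam (γ : ι → ∀ i, O1 f g 0 i) : (∀ i j, O2 f g 0 i j) →ₗ[A] (ι → ∀ i j, O2 f g 0 i j) where
  toFun w l i j := w i j * res (dvd_mul_right (g i) (g j)) (γ l i)
  map_add' w w' := funext fun l => funext₂ fun i j => add_mul _ _ _
  map_smul' a w := funext fun l => funext₂ fun i j => smul_mul_assoc a _ _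

/-- The secondary invariant. -/
noncomputable def psi (γ e : ι → ∀ i, O1 f g 0 i) :
    (ι → ∀ i, O1 f g 0 i) →ₗ[A] (ι × ι × ι → ∀ i, O1 f g 0 i) where
  toFun b x i := (b x.2.1 i * γ x.2.2 i - b x.2.2 i * γ x.2.1 i) * e x.1 i
  map_add' p p' := funext₂ fun x i => by simp only [Pi.add_apply]; ring
  map_smul' a p := funext₂ fun x i => by
    simp only [Pi.smul_apply, RingHom.id_apply, smul_mul_assoc, smul_sub, sub_mul]

theorem noetherian_H1 [IsNoetherianRing A]
    (h0 : Module.Finite A (LinearMap.ker (dif (one : ∀ i j, O2 f g 0 i j))))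
    (h1 : IsNoetherian A (Z1 (one : ∀ i j, O2 f g 0 i j) ⧸ B1 (one : ∀ i j, O2 f g 0 i j))) :
    IsNoetherian A (Z1 u ⧸ B1 u) := by
  choose γ K hγ hγi using fun i => exists_sec (isUnit_tr hu) (isCoc_tr hc) i
  choose e K' he hei using fun i => exists_sec hu hc i
  have hγu : ∀ i, IsUnit (γ i i) := fun i => by rw [hγi, map_pow]; exact (isUnit_algebraMap 0 (g i)).pow _
  have heu : ∀ i, IsUnit (e i i) := fun i => by rw [hei, map_pow]; exact (isUnit_algebraMap 0 (g i)).pow _
  let μ := mulGam γ ∘ₗ (Z1 u).subtype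
  have hμ : ∀ w l, μ w l ∈ Z1 (one : ∀ i j, O2 f g 0 i j) := fun w l =>
    LinearMap.mem_ker.2 (mul_gam_cocycle hu hc (hγ l) (LinearMap.mem_ker.1 w.2))
  let δ : (ι → ∀ i, O1 f g 0 i) →ₗ[A] (ι → ∀ i j, O2 f g 0 i j) :=
    LinearMap.pi fun l => dif one ∘ₗ LinearMap.proj l
  let L : Z1 u →ₗ[A] (ι → Z1 (one : ∀ i j, O2 f g 0 i j) ⧸ B1 (one : ∀ i j, O2 f g 0 i j)) :=
    LinearMap.pi fun l => (B1 (one : ∀ i j, O2 f g 0 i j)).mkQ ∘ₗ LinearMap.codRestrict (Z1 (one : ∀ i j, O2 f g 0 i j))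
      (LinearMap.proj (R := A) (φ := fun _ : ι => ∀ i j, O2 f g 0 i j) l ∘ₗ μ) fun w => hμ w l
  haveI := h1
  haveI : IsNoetherian A (LinearMap.ker (dif (one : ∀ i j, O2 f g 0 i j))) :=
    isNoetherian_of_isNoetherianRing_of_finite A _
  let S : Submodule A (ι × ι × ι → ∀ i, O1 f g 0 i) := Submodule.pi Set.univ fun _ => LinearMap.ker (dif one)
  haveI : IsNoetherian A S := isNoetherian_pi_const _
  refine noetherian_quot (B1 u) μ δ L ?_ ?_ (psi γ e ∘ₗ LinearMap.snd A (Z1 u) _) S ?_ ?_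
  · rintro ⟨w, hw⟩ ⟨t, rfl⟩
    exact LinearMap.mem_ker.2 (funext fun l => (Submodule.Quotient.mk_eq_zero _).2
      ⟨fun i => t i * γ l i, funext₂ fun i j => dif_mul_gam hu hc (hγ l) t i j⟩)
  · intro w
    constructor
    · intro h
      choose b hb using fun l => (Submodule.Quotient.mk_eq_zero _).1 (congrFun h l)
      exact ⟨b, funext fun l => (hb l).symm⟩
    · rintro ⟨b, hb⟩
      exact funext fun l => (Submodule.Quotient.mk_eq_zero _).2 ⟨b l, (congrFun hb l).symm⟩
  · intro p hp x _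
    exact LinearMap.mem_ker.2 (psi_sec hu hc (hγ x.2.1) (hγ x.2.2) (he x.1)
      (fun i j => congrFun (congrFun (congrFun hp x.2.1) i) j)
      (fun i j => congrFun (congrFun (congrFun hp x.2.2) i) j))
  · intro p hp h0
    exact mem_range_of hu hc hγ hγu (fun l i j => congrFun (congrFun (congrFun hp l) i) j)
      fun l m i => sub_eq_zero.1 ((heu i).mul_left_eq_zero.1 (congrFun (congrFun h0 (i, l, m)) i))

end Groth.Agent.PicLiftLib
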