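import Groth.Agent.PicLiftLib.Sections
import Groth.Agent.PicLiftLib.Finite
import Groth.Agent.ParaFLiftLib.Tilde

/-!
# Local generators of the module of compatible sections
-/

set_option autoImplicit false
set_option linter.style.haveILetI false
set_option linter.unusedSectionVars false

universe u

open Groth.Agent.ParaFLiftLib

namespace Groth.Agent.PicLiftLib

variable {A : Type u} [CommRing A] [IsNoetherianRing A] {f : A} {ι : Type} [Finite ι] {g : ι → A}
  [Fact (IsSMulRegular A f)]

theorem exists_notMem_mul_eq_zero (p : Ideal A) [p.IsPrime] (hfp : f ∈ p) {x a : A} (hx : x ∉ p)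
    (h : ∀ n : ℕ, ∃ k : ℕ, f ^ (n + 1) ∣ x ^ k * a) : ∃ h ∉ p, h * a = 0 := by
  let B := Localization.AtPrime p
  have hz : algebraMap A B a ∈ ⨅ n : ℕ, (IsLocalRing.maximalIdeal B) ^ n := by
    refine Ideal.mem_iInf.2 fun n => ?_
    obtain ⟨k, c, hc⟩ := h n
    have hu : IsUnit (algebraMap A B (x ^ k)) :=
      IsLocalization.map_units B (⟨x ^ k, fun hk => hx (‹p.IsPrime›.mem_of_pow_mem k hk)⟩ : p.primeCompl)
    obtain ⟨b, hb⟩ := hu.exists_left_inv
    rw [show algebraMap A B a = b * algebraMap A B (x ^ k * a) by rw [map_mul, ← mul_assoc, hb, one_mul], hc, map_mul,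
      map_pow]
    have hf' : algebraMap A B f ∈ IsLocalRing.maximalIdeal B := (IsLocalization.AtPrime.to_map_mem_maximal_iff B p f).2 hfp
    exact Ideal.mul_mem_left _ _ (Ideal.mul_mem_right _ _
      (Ideal.pow_le_pow_right (Nat.le_succ n) (Ideal.pow_mem_pow hf' _)))
  rw [Ideal.iInf_pow_eq_bot_of_isLocalRing _ (IsLocalRing.maximalIdeal.isMaximal B).ne_top] at hz
  obtain ⟨s, hs⟩ := (IsLocalization.map_eq_zero_iff p.primeCompl B a).1 hz
  exact ⟨s.1, s.2, hs⟩

namespace Tower

variable (T : Tower f g)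

/-- A given compatible section generates near a point of the hypersurface. -/
theorem exists_gen_lim [Module.Finite A T.lim] {i : ι} {S : T.lim} {K : ℕ} (hS : S.1 0 i = algebraMap A _ (g i ^ K))
    (p : PrimeSpectrum A) (hfp : f ∈ p.asIdeal) (hip : g i ∉ p.asIdeal) :
    ∃ h : A, h ∉ p.asIdeal ∧ (∀ z : T.lim, ∃ a : A, h • z = a • S) ∧ ∀ a : A, a • S = 0 → h * a = 0 := by
  classical
  let I : Ideal A := Ideal.span {f}
  let P : Submodule A T.lim := Submodule.span A {S}
  obtain ⟨G, hG⟩ := (Module.finite_def.1 (inferInstance : Module.Finite A T.lim) : (⊤ : Submodule A T.lim).FG)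
  choose e a w hew using T.exists_rel hS
  let E := G.sup e
  have hE : ∀ z : T.lim ⧸ P, g i ^ E • z ∈ I • (⊤ : Submodule A (T.lim ⧸ P)) := by
    intro z
    obtain ⟨z, rfl⟩ := Submodule.mkQ_surjective P z
    induction (hG.ge (Submodule.mem_top : z ∈ ⊤)) using Submodule.span_induction with
    | mem x hx =>
      have hd : g i ^ E • x = g i ^ (E - e x) • g i ^ e x • x := by
        rw [smul_smul, ← pow_add, Nat.sub_add_cancel (Finset.le_sup (f := e) hx : e x ≤ E)]
      rw [← map_smul, hd, hew, smul_add,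
        map_add, show P.mkQ (g i ^ (E - e x) • a x • S) = 0 from (Submodule.Quotient.mk_eq_zero P).2
          (P.smul_mem _ (P.smul_mem _ (Submodule.mem_span_singleton_self S))), zero_add, smul_comm _ f, map_smul]
      exact Submodule.smul_mem_smul (Ideal.mem_span_singleton_self f) Submodule.mem_top
    | zero => rw [map_zero, smul_zero]; exact zero_mem _
    | add x y _ _ hx hy => rw [map_add, smul_add]; exact add_mem hx hy
    | smul r x _ hx => rw [map_smul, smul_comm]; exact Submodule.smul_mem _ _ hx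
  let φ : Module.End A (T.lim ⧸ P) := algebraMap A (Module.End A (T.lim ⧸ P)) (g i ^ E)
  obtain ⟨q, hq1, -, hq3, hq2⟩ := LinearMap.exists_monic_and_coeff_mem_pow_and_aeval_eq_zero_of_range_le_smul A φ I (by
    rintro _ ⟨z, rfl⟩; exact hE z)
  let h := q.eval (g i ^ E)
  have hh : h ∉ p.asIdeal := fun hm => hip (p.2.mem_of_pow_mem (E * q.natDegree) (by
    have h1 : h = (∑ j ∈ Finset.range q.natDegree, q.coeff j * (g i ^ E) ^ j) + g i ^ (E * q.natDegree) := by
      show q.eval _ = _
      rw [Polynomial.eval_eq_sum_range, Finset.sum_range_succ, hq1.coeff_natDegree, one_mul, pow_mul]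
    rw [← Ideal.add_mem_iff_right p.asIdeal (Ideal.sum_mem _ fun j hj => ?_), ← h1]
    · exact hm
    · exact Ideal.mul_mem_right _ _ ((Ideal.pow_le_self (by have := Finset.mem_range.1 hj; omega)).trans
        ((Ideal.span_singleton_le_iff_mem _).2 hfp) (hq3 j))))
  have hgen : ∀ z : T.lim, ∃ b : A, h • z = b • S := fun z => by
    have h1 : (Polynomial.aeval φ q) (P.mkQ z) = h • P.mkQ z := by
      rw [show φ = algebraMap A (Module.End A (T.lim ⧸ P)) (g i ^ E) from rfl, Polynomial.aeval_algebraMap_apply,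
        Polynomial.coe_aeval_eq_eval]
      rfl
    rw [hq2] at h1
    obtain ⟨b, hb⟩ := Submodule.mem_span_singleton.1 ((Submodule.Quotient.mk_eq_zero P).1 (h1.symm.trans rfl :
      P.mkQ (h • z) = 0))
    exact ⟨b, hb.symm⟩
  obtain ⟨J, hJ⟩ := (IsNoetherian.noetherian (LinearMap.ker (LinearMap.toSpanSingleton A T.lim S)) : Submodule.FG _)
  have hkill : ∀ x ∈ J, ∃ s ∉ p.asIdeal, s * x = 0 := fun x hx => by
    refine exists_notMem_mul_eq_zero p.asIdeal hfp hip fun n => algebraMap_eq_zero_iff.1 ?_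
    have h0 : x • S = 0 := LinearMap.mem_ker.1 (hJ ▸ Submodule.subset_span hx)
    have h1 := congrArg (fun s : T.lim => s.1 n i) h0
    change x • S.1 n i = 0 at h1
    rw [Algebra.smul_def] at h1
    exact (T.isUnit_sec hS n).mul_left_eq_zero.1 h1
  choose! s hs hs' using hkill
  refine ⟨h * ∏ x ∈ J, s x, fun hm => ?_, fun z => ?_, fun b hb => ?_⟩
  · rcases p.2.mem_or_mem hm with hm | hm
    · exact hh hm
    · obtain ⟨x, hx, hx'⟩ := (Ideal.IsPrime.prod_mem_iff (hp := p.2)).1 hm
      exact hs x hx hx'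
  · obtain ⟨b, hb⟩ := hgen z
    exact ⟨(∏ x ∈ J, s x) * b, by rw [mul_comm h]; show (_ * h) • z = _ • S; rw [mul_smul, hb, smul_smul]⟩
  · have hb' : b ∈ Submodule.span A (J : Set A) := hJ.ge (LinearMap.mem_ker.2 hb)
    clear hb
    induction hb' using Submodule.span_induction with
    | mem x hx => rw [← Finset.mul_prod_erase J s hx, mul_assoc, mul_assoc, mul_comm _ x, ← mul_assoc (s x), hs' x hx,
        zero_mul, mul_zero]
    | zero => rw [mul_zero]
    | add x y _ _ hx hy => rw [mul_add, hx, hy, add_zero]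
    | smul r x _ hx => rw [smul_eq_mul, mul_left_comm, hx, mul_zero]

theorem genData_lim [Module.Finite A T.lim] {i : ι} {S : T.lim} {K : ℕ} (hS : S.1 0 i = algebraMap A _ (g i ^ K))
    (p : PrimeSpectrum A) (hfp : f ∈ p.asIdeal) (hip : g i ∉ p.asIdeal) :
    GenData (R := CommRingCat.of A) (ModuleCat.of A T.lim) p :=
  ⟨S, T.exists_gen_lim hS p hfp hip⟩

/-- A functional on the compatible sections induces dual sections on the hypersurface. -/
theorem exists_dual {K : ι → ℕ} {S : ι → T.lim} (hS : ∀ i, (S i).1 0 i = algebraMap A _ (g i ^ K i))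
    (φ : T.lim →ₗ[A] A) : ∃ c : ∀ i, O1 f g 0 i, IsSec (tr (T.v 0)) c ∧
      ∀ i, c i * algebraMap A _ (g i ^ K i) = algebraMap A _ (φ (S i)) := by
  have hu : ∀ i (m : ℕ), IsUnit (algebraMap A (O1 f g 0 i) (g i ^ m)) := fun i m => by
    rw [map_pow]; exact (isUnit_algebraMap 0 (g i)).pow m
  choose inv hinv using fun i => (hu i (K i)).exists_right_inv
  let c : ∀ i, O1 f g 0 i := fun i => algebraMap A _ (φ (S i)) * inv i
  have hc : ∀ i, c i * algebraMap A _ (g i ^ K i) = algebraMap A _ (φ (S i)) := fun i => by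
    show _ * inv i * _ = _
    rw [mul_assoc, mul_comm (inv i), hinv, mul_one]
  have key : ∀ (z : T.lim) i, algebraMap A (O1 f g 0 i) (φ z) = z.1 0 i * c i := by
    intro z i
    obtain ⟨e, a, w, hew⟩ := T.exists_rel (hS i) z
    have h1 := congrArg (fun s : T.lim => s.1 0 i) hew
    change g i ^ e • z.1 0 i = a • (S i).1 0 i + f • w.1 0 i at h1
    have h2 := congrArg (algebraMap A (O1 f g 0 i)) (congrArg φ hew)
    have hf0 : algebraMap A (O1 f g 0 i) f = 0 := by
      have := pow_eq_zero (f := f) 0 (m := 1) Nat.one_pos (g i)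
      simpa only [map_pow, pow_one] using this
    simp only [Algebra.smul_def, hS i, hf0, zero_mul, add_zero] at h1
    simp only [map_add, map_smul, smul_eq_mul, map_mul, hf0, zero_mul, add_zero] at h2
    refine (hu i e).mul_left_cancel ?_
    linear_combination h2 - c i * h1 - algebraMap A (O1 f g 0 i) a * hc i
  refine ⟨c, fun i j => ?_, hc⟩
  refine ((hu j (K j)).map (res (dvd_mul_left (g j) (g i)))).mul_right_cancel ?_
  have h1 := congrArg (res (dvd_mul_right (g i) (g j))) (key (S j) i)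
  have h2 := congrArg (res (dvd_mul_left (g j) (g i))) (key (S j) j)
  have h3 := (S j).2.1 0 i j
  have h4 := coc_tr_mul (T.isUnit 0) (T.coc 0) i j
  simp only [map_mul, AlgHom.commutes, hS j] at h1 h2 h3 ⊢
  linear_combination tr (T.v 0) i j * (h2 - h1) - (tr (T.v 0) i j * res (dvd_mul_right (g i) (g j)) (c i)) * h3 -
    (algebraMap A (O2 f g 0 i j) (g j ^ K j) * res (dvd_mul_right (g i) (g j)) (c i)) * h4

end Tower

end Groth.Agent.PicLiftLib
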