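import Groth.Agent.PicLiftLib.Cochain
import Groth.Agent.Depth.Basic

/-!
# Čech cohomology of the hypersurface from its depth
-/

set_option autoImplicit false
set_option linter.style.haveILetI false
set_option linter.unusedSectionVars false

universe u

open IsLocalRing RingTheory.Sequence Pointwise

namespace Groth.Agent.PicLiftLib

namespace Cech

variable {R : Type u} [CommRing R] {ι : Type} [Finite ι] {g : ι → R}

theorem isWeaklyRegular_cons_quot {r : R} {rs : List R} (h : IsWeaklyRegular R (r :: rs)) :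
    IsSMulRegular R r ∧ IsWeaklyRegular (R ⧸ Ideal.span {r}) (rs.map (Ideal.Quotient.mk (Ideal.span {r}))) := by
  rw [isWeaklyRegular_cons_iff] at h
  refine ⟨h.1, ?_⟩
  have hI : r • (⊤ : Submodule R R) = Ideal.span {r} := by
    rw [← Submodule.ideal_span_singleton_smul, smul_eq_mul, Ideal.mul_top]
  have h2 : IsWeaklyRegular (R ⧸ Ideal.span {r}) rs :=
    ((Submodule.quotEquivOfEq _ _ hI).isWeaklyRegular_congr rs).1 h.2
  exact (isWeaklyRegular_map_algebraMap_iff (S := R ⧸ Ideal.span {r}) (M := R ⧸ Ideal.span {r}) rs).2 h2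

theorem map_mem_radical {t : R} (r : R) (ht : t ∈ (Ideal.span (Set.range g)).radical) :
    Ideal.Quotient.mk (Ideal.span {r}) t ∈
      (Ideal.span (Set.range fun i => Ideal.Quotient.mk (Ideal.span {r}) (g i))).radical := by
  obtain ⟨k, hk⟩ := ht
  refine ⟨k, ?_⟩
  have h := Ideal.mem_map_of_mem (Ideal.Quotient.mk (Ideal.span {r})) hk
  rw [Ideal.map_span, ← Set.range_comp, map_pow] at h
  exact h

theorem inj_of_seq {rs : List R} (hlen : 1 ≤ rs.length) (hrs : ∀ r ∈ rs, r ∈ (Ideal.span (Set.range g)).radical)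
    (h : IsWeaklyRegular R rs) : Inj g := by
  match rs, hlen with
  | r :: rs, _ => exact inj_of_regular (hrs r List.mem_cons_self) (isWeaklyRegular_cons_quot h).1

theorem h0_of_seq {rs : List R} (hlen : 2 ≤ rs.length) (hrs : ∀ r ∈ rs, r ∈ (Ideal.span (Set.range g)).radical)
    (h : IsWeaklyRegular R rs) : H0 g := by
  match rs, hlen with
  | r :: rs, hlen =>
    obtain ⟨h1, h2⟩ := isWeaklyRegular_cons_quot h
    exact h0_of (hrs r List.mem_cons_self) h1 (inj_of_seq (by simpa using hlen) (by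
      simp only [List.mem_map]
      rintro _ ⟨t, ht, rfl⟩
      exact map_mem_radical r (hrs t (List.mem_cons_of_mem _ ht))) h2)

theorem h1_of_seq {rs : List R} (hlen : 3 ≤ rs.length) (hrs : ∀ r ∈ rs, r ∈ (Ideal.span (Set.range g)).radical)
    (h : IsWeaklyRegular R rs) : H1 g := by
  match rs, hlen with
  | r :: rs, hlen =>
    obtain ⟨h1, h2⟩ := isWeaklyRegular_cons_quot h
    exact h1_of (hrs r List.mem_cons_self) h1 (h0_of_seq (by simpa using hlen) (by
      simp only [List.mem_map]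
      rintro _ ⟨t, ht, rfl⟩
      exact map_mem_radical r (hrs t (List.mem_cons_of_mem _ ht))) h2)

theorem h2_of_seq {rs : List R} (hlen : 4 ≤ rs.length) (hrs : ∀ r ∈ rs, r ∈ (Ideal.span (Set.range g)).radical)
    (h : IsWeaklyRegular R rs) : H2 g := by
  match rs, hlen with
  | r :: rs, hlen =>
    obtain ⟨h1, h2⟩ := isWeaklyRegular_cons_quot h
    exact h2_of (hrs r List.mem_cons_self) h1 (h1_of_seq (by simpa using hlen) (by
      simp only [List.mem_map]
      rintro _ ⟨t, ht, rfl⟩
      exact map_mem_radical r (hrs t (List.mem_cons_of_mem _ ht))) h2)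

end Cech

variable {A : Type u} [CommRing A] {f : A} {ι : Type} {g : ι → A}

/-- The equations on the hypersurface. -/
abbrev gbar (f : A) (g : ι → A) : ι → Th f 0 := fun i => algebraMap A (Th f 0) (g i)

theorem res_cech {x y : A} {z : Th f 0} (h : algebraMap A (Th f 0) x ∣ z) (h' : z ∣ algebraMap A (Th f 0) y) (hxy : x ∣ y)
    (w : L f 0 x) : Cech.res h' (Cech.res h w) = res hxy w := by
  rw [res_eq_cech, Cech.res_res]

theorem h2Vanish_of (h2 : Cech.H2 (gbar f g)) : H2Vanish f g := by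
  intro c hc
  let π := algebraMap A (Th f 0)
  have e3 : ∀ i j k, π (g i * g j * g k) ∣ π (g i) * π (g j) * π (g k) := fun i j k => dvd_of_eq (by rw [map_mul, map_mul])
  have e3' : ∀ i j k, π (g i) * π (g j) * π (g k) ∣ π (g i * g j * g k) := fun i j k => dvd_of_eq (by rw [map_mul, map_mul])
  have e2' : ∀ i j, π (g i) * π (g j) ∣ π (g i * g j) := fun i j => dvd_of_eq (map_mul π _ _).symm
  obtain ⟨b, hb⟩ := h2 (fun i j k => Cech.res (e3 i j k) (c i j k)) (fun i j k l => by
    have h := congrArg (Cech.res (show π (g i * g j * g k * g l) ∣ π (g i) * π (g j) * π (g k) * π (g l) from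
      dvd_of_eq (by rw [map_mul, map_mul, map_mul]))) (hc i j k l)
    simp only [res_eq_cech, map_sub, map_add, Cech.res_res, map_zero] at h
    simp only [Cech.d2, Cech.res_res]
    exact h)
  refine ⟨fun i j => Cech.res (e2' i j) (b i j), fun i j k => ?_⟩
  have h := congrArg (Cech.res (e3' i j k)) (hb i j k)
  simp only [Cech.d1, map_sub, map_add, Cech.res_res, Cech.res_self] at h
  simp only [res_eq_cech, Cech.res_res]
  exact h

theorem range_eq_of (h1 : Cech.H1 (gbar f g)) :
    Z1 (one : ∀ i j, O2 f g 0 i j) ≤ LinearMap.range (dif (one : ∀ i j, O2 f g 0 i j)) := by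
  intro w hw
  let π := algebraMap A (Th f 0)
  have e2 : ∀ i j, π (g i * g j) ∣ π (g i) * π (g j) := fun i j => dvd_of_eq (map_mul π _ _)
  have e2' : ∀ i j, π (g i) * π (g j) ∣ π (g i * g j) := fun i j => dvd_of_eq (map_mul π _ _).symm
  obtain ⟨b, hb⟩ := h1 (fun i j => Cech.res (e2 i j) (w i j)) (fun i j k => by
    have h := congrArg (Cech.res (show π (g i * g j * g k) ∣ π (g i) * π (g j) * π (g k) from
      dvd_of_eq (by rw [map_mul, map_mul]))) (congrFun (congrFun (congrFun (LinearMap.mem_ker.1 hw) i) j) k)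
    simp only [dif1_apply, one, map_one, one_mul, res_eq_cech, map_sub, map_add, Cech.res_res, Pi.zero_apply, map_zero] at h
    simp only [Cech.d1, Cech.res_res]
    exact h)
  refine ⟨b, funext₂ fun i j => ?_⟩
  have h := congrArg (Cech.res (e2' i j)) (hb i j)
  simp only [Cech.d0, map_sub, Cech.res_res, Cech.res_self] at h
  simp only [dif_apply, one, one_mul, res_eq_cech]
  exact h.symm

theorem exists_of_isSec_one (h0 : Cech.H0 (gbar f g)) {s : ∀ i, O1 f g 0 i} (hs : IsSec one s) :
    ∃ a : A, ∀ i, s i = algebraMap A _ a := by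
  let π := algebraMap A (Th f 0)
  obtain ⟨a, ha⟩ := h0 s (fun i j => by
    have h := congrArg (Cech.res (show π (g i * g j) ∣ π (g i) * π (g j) from dvd_of_eq (map_mul π _ _))) (hs i j)
    simp only [one, one_mul, res_eq_cech, Cech.res_res] at h
    simp only [Cech.d0, sub_eq_zero]
    exact h)
  obtain ⟨a, rfl⟩ := Ideal.Quotient.mk_surjective a
  exact ⟨a, fun i => (ha i).trans (IsScalarTower.algebraMap_apply A (Th f 0) (L f 0 (g i)) a).symm⟩

theorem finite_ker_one (h0 : Cech.H0 (gbar f g)) : Module.Finite A (LinearMap.ker (dif (one : ∀ i j, O2 f g 0 i j))) := by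
  let d : A →ₗ[A] LinearMap.ker (dif (one : ∀ i j, O2 f g 0 i j)) :=
    LinearMap.codRestrict _ (LinearMap.pi fun i => Algebra.linearMap A (O1 f g 0 i)) fun a =>
      LinearMap.mem_ker.2 (dif_eq_zero_iff.2 fun i j => by
        simp [one, LinearMap.pi_apply, AlgHom.commutes])
  refine Module.Finite.of_surjective d fun s => ?_
  obtain ⟨a, ha⟩ := exists_of_isSec_one h0 (dif_eq_zero_iff.1 (LinearMap.mem_ker.1 s.2))
  exact ⟨a, Subtype.ext (funext fun i => (ha i).symm)⟩

theorem noetherian_H1_one (h1 : Cech.H1 (gbar f g)) :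
    IsNoetherian A (Z1 (one : ∀ i j, O2 f g 0 i j) ⧸ B1 (one : ∀ i j, O2 f g 0 i j)) := by
  haveI : Subsingleton (Z1 (one : ∀ i j, O2 f g 0 i j) ⧸ B1 (one : ∀ i j, O2 f g 0 i j)) := by
    rw [Submodule.Quotient.subsingleton_iff, eq_top_iff]
    exact fun w _ => range_eq_of h1 w.2
  infer_instance

theorem cech_of_depth [IsNoetherianRing A] [IsLocalRing (Th f 0)] [Finite ι]
    (hd : (4 : ℕ∞) ≤ LocCoh.depth (Th f 0) (Th f 0))
    (hg : ∀ p : PrimeSpectrum (Th f 0), p.asIdeal ≠ maximalIdeal (Th f 0) → ∃ i, gbar f g i ∉ p.asIdeal) :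
    Cech.Inj (gbar f g) ∧ Cech.H0 (gbar f g) ∧ Cech.H1 (gbar f g) ∧ Cech.H2 (gbar f g) := by
  have hne : maximalIdeal (Th f 0) • (⊤ : Submodule (Th f 0) (Th f 0)) ≠ ⊤ := by
    rw [smul_eq_mul, Ideal.mul_top]; exact (maximalIdeal.isMaximal _).ne_top
  obtain ⟨rs, hlen, hmem, hw⟩ := (Depth.le_idealDepth_iff hne 4).1 hd
  have hrad : maximalIdeal (Th f 0) ≤ (Ideal.span (Set.range (gbar f g))).radical := by
    rw [Ideal.radical_eq_sInf]
    refine le_sInf fun p hp => ?_
    by_contra hle
    obtain ⟨i, hi⟩ := hg ⟨p, hp.2⟩ fun e => hle (e ▸ le_rfl)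
    exact hi (hp.1 (Ideal.subset_span ⟨i, rfl⟩))
  have hrs := fun r hr => hrad (hmem r hr)
  exact ⟨Cech.inj_of_seq (by omega) hrs hw, Cech.h0_of_seq (by omega) hrs hw, Cech.h1_of_seq (by omega) hrs hw,
    Cech.h2_of_seq (by omega) hrs hw⟩

end Groth.Agent.PicLiftLib
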