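import Groth.Agent.PicLiftLib.Data
import Groth.Agent.PicLiftLib.LevelZero
import Groth.Agent.ParaFLib.StalkPair
import Groth.Agent.S2865

/-!
# Triviality of invertible modules on the punctured spectrum of a hypersurface
-/

set_option autoImplicit false
set_option linter.style.haveILetI false
set_option linter.unusedSectionVars false

universe u

open IsLocalRing CategoryTheory CategoryTheory.Limits AlgebraicGeometry TopologicalSpace Groth.Agent.ParaFLib Groth.Agent.ParaFLiftLib

namespace Groth.Agent.PicLiftLib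

theorem parafactorial_of_ringEquiv {L L' : Type u} [CommRing L] [CommRing L'] [IsNoetherianRing L] [IsLocalRing L]
    [IsNoetherianRing L'] [IsLocalRing L'] (e : L ≃+* L') (h : ParaF.IsParafactorialLocalRing L') :
    ParaF.IsParafactorialLocalRing L := by
  letI : Algebra L L' := e.toRingHom.toAlgebra
  haveI : IsLocalHom (algebraMap L L') := ⟨fun a ha => (isUnit_map_iff e a).1 ha⟩
  haveI : Module.Flat L L' := RingHom.flat_algebraMap_iff.1 (RingHom.Flat.of_bijective e.bijective)
  refine Groth.Agent.S2865.result L L' ?_ h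
  have hm : (maximalIdeal L).map (algebraMap L L') = maximalIdeal L' := IsLocalRing.map_ringEquiv_maximalIdeal e
  rw [hm]
  exact ringKrullDim_eq_zero_of_isField
    ((Ideal.Quotient.maximal_ideal_iff_isField_quotient _).1 (maximalIdeal.isMaximal _))

variable {A : Type u} [CommRing A] [IsNoetherianRing A] {f : A}

local notation "R₀" => Th f 0

/-- Generators of a module over the hypersurface on a cover give a cocycle and the maps to its sections. -/
theorem exists_cocycle {ι : Type} (g : ι → A) (Q : ModuleCat.{u} (Th f 0)) (q : ι → Q)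
    (hgen : ∀ i (z : Q), ∃ a : A, algebraMap A (Th f 0) (g i) • z = algebraMap A (Th f 0) a • q i)
    (htor : ∀ i (a : Th f 0), a • q i = 0 → algebraMap A (Th f 0) (g i) * a = 0) :
    ∃ (u : ∀ i j, O2 f g 0 i j) (ψ : Q → ∀ i, O1 f g 0 i), (∀ i j, IsUnit (u i j)) ∧ IsCoc u ∧
      (∀ z, IsSec u (ψ z)) ∧ (∀ z z', ψ (z + z') = ψ z + ψ z') ∧
      (∀ (a : A) z, ψ (algebraMap A (Th f 0) a • z) = a • ψ z) ∧ ∀ i, ψ (q i) i = 1 := by
  choose a ha using hgen
  have hu : ∀ i, IsUnit (algebraMap A (O1 f g 0 i) (g i)) := fun i => isUnit_algebraMap 0 (g i)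
  choose inv hinv using fun i => (hu i).exists_right_inv
  let ψ : Q → ∀ i, O1 f g 0 i := fun z i => algebraMap A _ (a i z) * inv i
  have val : ∀ i (z : Q) (h c : A), algebraMap A (Th f 0) h • z = algebraMap A (Th f 0) c • q i →
      ψ z i * algebraMap A _ h = algebraMap A _ c := by
    intro i z h c hc
    have h1 := htor i (algebraMap A (Th f 0) (g i * c - h * a i z)) (by
      rw [map_sub, sub_smul, map_mul, map_mul, mul_smul, mul_smul, ← hc, ← ha, smul_comm, sub_self])
    have h2 := congrArg (algebraMap (Th f 0) (O1 f g 0 i)) h1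
    rw [← map_mul, map_zero, ← IsScalarTower.algebraMap_apply A (Th f 0) (L f 0 (g i))] at h2
    simp only [map_mul, map_sub] at h2
    refine (hu i).mul_left_cancel ((hu i).mul_left_cancel ?_)
    show _ * (_ * (algebraMap A _ (a i z) * inv i * _)) = _
    linear_combination (algebraMap A (O1 f g 0 i) (g i) * algebraMap A (O1 f g 0 i) (a i z) * algebraMap A (O1 f g 0 i) h) * hinv i - h2
  have hadd : ∀ z z', ψ (z + z') = ψ z + ψ z' := fun z z' => funext fun i => by
    refine (hu i).mul_right_cancel ?_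
    rw [val i (z + z') (g i) (a i z + a i z') (by rw [smul_add, ha, ha, map_add, add_smul]), Pi.add_apply, add_mul,
      val i z _ _ (ha i z), val i z' _ _ (ha i z'), map_add]
  have hsmul : ∀ (c : A) z, ψ (algebraMap A (Th f 0) c • z) = c • ψ z := fun c z => funext fun i => by
    refine (hu i).mul_right_cancel ?_
    rw [val i _ (g i) (c * a i z) (by rw [smul_comm, ha, map_mul, mul_smul]), Pi.smul_apply, smul_mul_assoc,
      val i z _ _ (ha i z), Algebra.smul_def, map_mul]
  let w : ∀ i j, O2 f g 0 i j := fun i j => res (dvd_mul_right (g i) (g j)) (ψ (q j) i)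
  have hsec : ∀ z, IsSec w (ψ z) := by
    intro z i j
    have h := val i z (g i * g j) (a i (q j) * a j z) (by
      rw [map_mul, mul_smul, ha j z, smul_comm, ha i (q j), smul_smul, map_mul, mul_comm])
    have h1 := congrArg (res (dvd_mul_right (g i) (g j))) h
    have h2 := congrArg (res (dvd_mul_left (g j) (g i))) (val j z _ _ (ha j z))
    have h3 := congrArg (res (dvd_mul_right (g i) (g j))) (val i (q j) _ _ (ha i (q j)))
    simp only [map_mul, AlgHom.commutes] at h1 h2 h3
    have huu : IsUnit (algebraMap A (O2 f g 0 i j) (g i) * algebraMap A (O2 f g 0 i j) (g j)) := by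
      rw [← map_mul]; exact isUnit_algebraMap 0 _
    refine huu.mul_right_cancel ?_
    show _ = res _ (ψ (q j) i) * _ * _
    linear_combination h1 - (res (dvd_mul_left (g j) (g i)) (ψ z j) * algebraMap A (O2 f g 0 i j) (g j)) * h3 -
      algebraMap A (O2 f g 0 i j) (a i (q j)) * h2
  have hone : ∀ i, ψ (q i) i = 1 := fun i => by
    refine (hu i).mul_right_cancel ?_
    rw [val i (q i) (g i) (g i) rfl, one_mul]
  refine ⟨w, ψ, fun i j => ?_, fun i j k => ?_, hsec, hadd, hsmul, hone⟩
  · have h := hsec (q i) i j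
    rw [hone, map_one] at h
    exact IsUnit.of_mul_eq_one _ h.symm
  · have h := congrArg (res (dvd_mul_right (g i * g j) (g k))) (hsec (q k) i j)
    simp only [w, map_mul, res_res] at h
    simp only [w, res_res]
    exact h.symm

theorem isField_cover {R : Type u} [CommRing R] [IsLocalRing R] (C : Set R)
    (hC : ∀ p : PrimeSpectrum R, p.asIdeal ≠ maximalIdeal R → ∃ c ∈ C, c ∉ p.asIdeal) [IsNoetherianRing R] :
    ∃ (n : ℕ) (c : Fin n → R), (∀ i, c i ∈ C) ∧
      ∀ p : PrimeSpectrum R, p.asIdeal ≠ maximalIdeal R → ∃ i, c i ∉ p.asIdeal := by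
  classical
  obtain ⟨s, hs, hs'⟩ := (Submodule.fg_span_iff_fg_span_finset_subset C).1 (IsNoetherian.noetherian (Submodule.span R C))
  refine ⟨s.card, fun i => (s.equivFin.symm i).1, fun i => hs (s.equivFin.symm i).2, fun p hp => ?_⟩
  by_contra hall
  push Not at hall
  obtain ⟨c, hc, hcp⟩ := hC p hp
  refine hcp ?_
  have h1 : Ideal.span (↑s : Set R) ≤ p.asIdeal := Ideal.span_le.2 fun x hx => by
    have := hall (s.equivFin ⟨x, hx⟩)
    simpa using this
  refine h1 ?_
  show c ∈ Submodule.span R (↑s : Set R)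
  rw [← hs']
  exact Submodule.subset_span hc

theorem eq_maximalIdeal_of_lt [IsLocalRing A] {q q' : Ideal A} [q.IsPrime] [q'.IsPrime] (hlt : q < q') (hf : f ∈ maximalIdeal A)
    (hfq : f ∉ q) (hall : ∀ p : Ideal A, p.IsPrime → q < p → f ∈ p → p = maximalIdeal A) : q' = maximalIdeal A := by
  by_contra hne
  let π := Ideal.Quotient.mk q
  haveI : Nontrivial (A ⧸ q) := Ideal.Quotient.nontrivial_iff.2 (Ideal.IsPrime.ne_top ‹_›)
  haveI : IsLocalRing (A ⧸ q) := IsLocalRing.of_surjective' π Ideal.Quotient.mk_surjective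
  have hcomap : (maximalIdeal (A ⧸ q)).comap π = maximalIdeal A :=
    IsLocalRing.eq_maximalIdeal (Ideal.comap_isMaximal_of_surjective π Ideal.Quotient.mk_surjective)
  have hmin : maximalIdeal (A ⧸ q) ∈ (Ideal.span {π f}).minimalPrimes := by
    refine ⟨⟨(maximalIdeal.isMaximal _).isPrime, (Ideal.span_singleton_le_iff_mem _).2 ?_⟩, fun P hP _ => ?_⟩
    · show f ∈ (maximalIdeal (A ⧸ q)).comap π
      rw [hcomap]; exact hf
    · haveI := hP.1
      have hqP : q ≤ P.comap π := fun x hx => by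
        show π x ∈ P
        rw [Ideal.Quotient.eq_zero_iff_mem.2 hx]; exact P.zero_mem
      have hfP : f ∈ P.comap π := hP.2 (Ideal.mem_span_singleton_self _)
      have h := hall _ inferInstance (lt_of_le_of_ne hqP fun e => hfq (e ▸ hfP)) hfP
      rw [← Ideal.map_comap_of_surjective π Ideal.Quotient.mk_surjective P, h, ← hcomap,
        Ideal.map_comap_of_surjective π Ideal.Quotient.mk_surjective]
  have h1 := Ideal.height_le_one_of_isPrincipal_of_mem_minimalPrimes _ _ hmin
  haveI : (q'.map π).IsPrime := Ideal.map_isPrime_of_surjective Ideal.Quotient.mk_surjective (by rw [Ideal.mk_ker]; exact hlt.le)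
  have hc : (q'.map π).comap π = q' := by
    rw [Ideal.comap_map_of_surjective π Ideal.Quotient.mk_surjective, ← RingHom.ker_eq_comap_bot, Ideal.mk_ker,
      sup_eq_left.2 hlt.le]
  have hlt1 : (⊥ : Ideal (A ⧸ q)) < q'.map π := bot_lt_iff_ne_bot.2 fun e => hlt.ne (by
    rw [← hc, e, ← RingHom.ker_eq_comap_bot, Ideal.mk_ker])
  have hlt2 : q'.map π < maximalIdeal (A ⧸ q) := lt_of_le_of_ne (le_maximalIdeal (Ideal.IsPrime.ne_top inferInstance))
    fun e => hne (by rw [← hc, e, hcomap])
  have h2 := Ideal.height_strict_mono_of_isPrime hlt1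
  have h3 := Ideal.height_strict_mono_of_isPrime hlt2
  have h4 : (q'.map π).height = 0 := ENat.lt_one_iff_eq_zero.1 (lt_of_lt_of_le h3 h1)
  exact not_lt_zero (h4 ▸ h2)

/-- **Invertible modules on the punctured spectrum of the hypersurface are trivial.** -/
theorem picTrivial_thickening [IsLocalRing A] [Fact (IsSMulRegular A f)] [IsAdicComplete (Ideal.span {f}) A]
    [IsLocalRing (Th f 0)] (hf : f ∈ maximalIdeal A) (hd : (4 : ℕ∞) ≤ LocCoh.depth (Th f 0) (Th f 0))
    (hA : ParaF.IsParafactorialLocalRing A)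
    (hpar : ∀ (q : Ideal A) [q.IsPrime], f ∉ q → q ≠ maximalIdeal A →
      (∀ q' : Ideal A, q'.IsPrime → q < q' → q' = maximalIdeal A) → ParaF.IsParafactorialLocalRing (Localization.AtPrime q)) :
    ParaF.PicTrivial (FEt.puncturedSpec (Th f 0) : Scheme.{u}) := by
  classical
  let R : CommRingCat.{u} := CommRingCat.of (Th f 0)
  let π : A →+* Th f 0 := algebraMap A (Th f 0)
  have hπ : Function.Surjective π := Ideal.Quotient.mk_surjective
  have hker : ∀ a, π a = 0 ↔ f ∣ a := fun a => by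
    rw [show π a = Ideal.Quotient.mk _ a from rfl, Ideal.Quotient.eq_zero_iff_mem, Ideal.mem_span_singleton, pow_one]
  haveI : IsNoetherianRing R := inferInstanceAs (IsNoetherianRing (Th f 0))
  refine picTrivial_of_functional (R := R) (FEt.puncturedSpec (Th f 0)) fun Q _ hdata => ?_
  obtain ⟨n, c, hcC, hcov⟩ := isField_cover (R := Th f 0)
    {c | ∃ q : Q, (∀ z : Q, ∃ a : Th f 0, c • z = a • q) ∧ ∀ a : Th f 0, a • q = 0 → c * a = 0} fun p hp => by
      obtain ⟨q, c, hc, h1, h2⟩ := hdata p fun e => hp (congrArg PrimeSpectrum.asIdeal e)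
      exact ⟨c, ⟨q, h1, h2⟩, hc⟩
  choose g hg using fun i => hπ (c i)
  obtain rfl : (fun i => π (g i)) = c := funext hg
  choose q hq1 hq2 using hcC
  obtain ⟨hinj, h0, h1, h2⟩ := cech_of_depth (g := g) hd hcov
  obtain ⟨u, ψ, hu, hc, hsec, hadd, hsmul, hone⟩ := exists_cocycle g Q q (fun i z => by
    obtain ⟨a, ha⟩ := hq1 i z
    obtain ⟨a, rfl⟩ := hπ a
    exact ⟨a, ha⟩) hq2
  obtain ⟨T, rfl⟩ := exists_tower (h2Vanish_of h2) u hu hc
  obtain ⟨N, hN⟩ := T.exists_stable (noetherian_H1 hu hc (finite_ker_one h0) (noetherian_H1_one h1))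
  haveI : Module.Finite A T.lim := T.finite_lim (finite_sec hu hc (finite_ker_one h0))
  choose S K hS using T.exists_gen hN
  let M : ModuleCat.{u} (CommRingCat.of A) := ModuleCat.of A T.lim
  -- primes of the hypersurface
  have hover : ∀ p : PrimeSpectrum A, f ∈ p.asIdeal → p.asIdeal ≠ maximalIdeal A → ∃ i, g i ∉ p.asIdeal := fun p hfp hp => by
    have hk : RingHom.ker π ≤ p.asIdeal := fun x hx => p.asIdeal.mem_of_dvd ((hker x).1 hx) hfp
    haveI : (p.asIdeal.map π).IsPrime := Ideal.map_isPrime_of_surjective hπ hk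
    have hcm : (p.asIdeal.map π).comap π = p.asIdeal := by
      rw [Ideal.comap_map_of_surjective π hπ, ← RingHom.ker_eq_comap_bot, sup_eq_left.2 hk]
    obtain ⟨i, hi⟩ := hcov ⟨p.asIdeal.map π, inferInstance⟩ fun e => hp (by
      rw [← hcm, show p.asIdeal.map π = maximalIdeal (Th f 0) from e]
      exact IsLocalRing.eq_maximalIdeal (Ideal.comap_isMaximal_of_surjective π hπ))
    exact ⟨i, fun h => hi (Ideal.mem_map_of_mem π h)⟩
  have hdataM : ∀ p : PrimeSpectrum A, f ∈ p.asIdeal → p.asIdeal ≠ maximalIdeal A → GenData M p := fun p hfp hp => by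
    obtain ⟨i, hi⟩ := hover p hfp hp
    exact T.genData_lim (hS i) p hfp hi
  -- the open where the lifted module is invertible
  let U' : (Spec (CommRingCat.of A)).Opens :=
    ⟨{p : PrimeSpectrum A | p.asIdeal ≠ maximalIdeal A ∧ GenData M p}, by
      rw [isOpen_iff_forall_mem_open]
      rintro p ⟨hp, s, h, hh, hgen, htor⟩
      refine ⟨({IsLocalRing.closedPoint A} : Set (PrimeSpectrum A))ᶜ ∩ (PrimeSpectrum.basicOpen h : Set (PrimeSpectrum A)), ?_,
        (IsLocalRing.isClosed_singleton_closedPoint A).isOpen_compl.inter (PrimeSpectrum.basicOpen h).isOpen,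
        fun e => hp (congrArg PrimeSpectrum.asIdeal (Set.mem_singleton_iff.1 e)), hh⟩
      rintro x ⟨hx1, hx2⟩
      exact ⟨fun e => hx1 (PrimeSpectrum.ext e), s, h, hx2, hgen, htor⟩⟩
  let Y : Closeds (Spec (CommRingCat.of A)) := U'.compl
  have hstalk : ∀ x : Spec (CommRingCat.of A), x ∈ Y →
      ParaF.IsParafactorialLocalRing ((Spec (CommRingCat.of A)).presheaf.stalk x) := fun x hx => by
    have e : ((Spec (CommRingCat.of A)).presheaf.stalk x) ≃+* Localization.AtPrime x.asIdeal :=
      (StructureSheaf.stalkIso A x).symm.toRingEquiv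
    refine parafactorial_of_ringEquiv e ?_
    by_cases hxm : x.asIdeal = maximalIdeal A
    · haveI : IsLocalization.AtPrime A x.asIdeal :=
        IsLocalization.of_le_isUnit fun z hz => by
          by_contra hzu
          exact hz (hxm ▸ (mem_maximalIdeal z).2 hzu)
      exact parafactorial_of_ringEquiv (IsLocalization.algEquiv x.asIdeal.primeCompl (Localization.AtPrime x.asIdeal) A).toRingEquiv hA
    · have hxU : ¬ GenData M x := fun h => hx ⟨hxm, h⟩
      have hfx : f ∉ x.asIdeal := fun h => hxU (hdataM x h hxm)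
      refine hpar x.asIdeal hfx hxm fun q' hq' hlt => eq_maximalIdeal_of_lt hlt hf hfx fun p hp hlt' hfp => ?_
      by_contra hpm
      obtain ⟨s, h, hh, hgen, htor⟩ := hdataM ⟨p, hp⟩ hfp hpm
      exact hxU ⟨s, h, fun h' => hh (hlt'.le h'), hgen, htor⟩
  haveI : IsNoetherianRing (CommRingCat.of A) := inferInstanceAs (IsNoetherianRing A)
  obtain ⟨hclosed, hext⟩ := (ParaFLib.isParafactorialPair_iff Y).1 (isParafactorialPair_of_stalks hstalk)
  have hUY : Y.compl = U' := Opens.compl_compl U'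
  have hcl : IsClosed' U'.ι (Coh.structureModule (Spec (CommRingCat.of A))) :=
    ParaFLib.isClosed'_of_depth U' (fun x hx => two_le_depth_of_parafactorial _ (hstalk x hx))
      ParaFLib.isInvertible_structureModule
  have hr : U'.ι.opensRange = (𝟙 (Spec (CommRingCat.of A))) ⁻¹ᵁ Y.compl := by
    rw [Scheme.Opens.opensRange_ι, hUY]; rfl
  have hpic : ParaF.PicTrivial (U' : Scheme.{u}) := fun L₀ hL₀ => by
    obtain ⟨L', hL', ⟨φ⟩⟩ := hext (𝟙 _) U'.ι hr L₀ hL₀
    obtain ⟨W, hW, ⟨i⟩⟩ := hL' (IsLocalRing.closedPoint A)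
    obtain rfl := ParaFLib.eq_top_of_closedPoint_mem A hW
    let T' := (Spec (CommRingCat.of A)).topIso
    let j := U'.ι ≫ T'.inv
    exact ⟨φ.symm ≪≫ (restrictCongr (show j ≫ (⊤ : (Spec (CommRingCat.of A)).Opens).ι
        = U'.ι by simp [j, T']) L').symm ≪≫ restrictComp j _ L' ≪≫
      (Scheme.Modules.restrictFunctor j).mapIso i ≪≫ DCohLib.restrictUnit j⟩
  obtain ⟨φ, hφ⟩ := exists_functional M U' hcl hpic fun p hp => hp.2
  obtain ⟨d, hd', hdS⟩ := T.exists_dual hS φ
  -- push the functional down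
  have hx : ∀ z : Q, ∃! x : Th f 0, ∀ i, algebraMap (Th f 0) (O1 f g 0 i) x = ψ z i * d i := fun z => by
    obtain ⟨a, ha⟩ := exists_of_isSec_one h0 (isSec_one_mul hu hc hd' (hsec z))
    have hax : ∀ i, algebraMap (Th f 0) (O1 f g 0 i) (π a) = ψ z i * d i := fun i =>
      (IsScalarTower.algebraMap_apply A (Th f 0) (L f 0 (g i)) a).symm.trans (ha i).symm
    refine ⟨π a, hax, fun x hx => sub_eq_zero.1 (hinj _ fun i => ?_)⟩
    show algebraMap (Th f 0) (O1 f g 0 i) (x - π a) = 0
    rw [map_sub, hx i, hax i, sub_self]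
  choose Φ hΦ hΦu using hx
  let Φl : Q →ₗ[Th f 0] Th f 0 :=
    { toFun := Φ
      map_add' := fun z z' => (hΦu _ _ fun i => by rw [map_add, hΦ, hΦ, hadd, Pi.add_apply, add_mul]).symm
      map_smul' := fun x z => by
        obtain ⟨a, rfl⟩ := hπ x
        refine (hΦu _ _ fun i => ?_).symm
        rw [RingHom.id_apply, smul_eq_mul, map_mul, hΦ, hsmul, Pi.smul_apply, smul_mul_assoc, Algebra.smul_def]
        exact congrArg (· * _) (IsScalarTower.algebraMap_apply A (Th f 0) (L f 0 (g i)) a).symm }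
  refine ⟨Φl, fun P hP => ?_⟩
  have hPm : P.asIdeal ≠ maximalIdeal (Th f 0) := fun e => hP (PrimeSpectrum.ext e)
  obtain ⟨i, hi⟩ := hcov P hPm
  let p : PrimeSpectrum A := ⟨P.asIdeal.comap π, inferInstance⟩
  have hfp : f ∈ p.asIdeal := by
    show π f ∈ P.asIdeal
    rw [(hker f).2 dvd_rfl]; exact P.asIdeal.zero_mem
  have hpm : p.asIdeal ≠ maximalIdeal A := fun e => hPm (by
    rw [← Ideal.map_comap_of_surjective π hπ P.asIdeal]
    show p.asIdeal.map π = _
    rw [e, ← IsLocalRing.eq_maximalIdeal (Ideal.comap_isMaximal_of_surjective π hπ (K := maximalIdeal (Th f 0))),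
      Ideal.map_comap_of_surjective π hπ])
  have hgp : g i ∉ p.asIdeal := hi
  obtain ⟨z, hz⟩ := hφ p ⟨hpm, hdataM p hfp hpm⟩
  obtain ⟨e, a, w, hew⟩ := T.exists_rel (hS i) z
  have hφS : φ (S i) ∉ p.asIdeal := fun hm => by
    have h := congrArg φ hew
    simp only [map_add, map_smul, smul_eq_mul] at h
    exact (p.2.mem_or_mem (h ▸ add_mem (Ideal.mul_mem_left _ _ hm) (Ideal.mul_mem_right _ _ hfp) :
      g i ^ e * φ z ∈ p.asIdeal)).elim (fun h' => hgp (p.2.mem_of_pow_mem _ h')) hz
  refine ⟨q i, fun hmem => hφS ?_⟩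
  obtain ⟨x, hx'⟩ := hπ (Φ (q i))
  have hval : algebraMap A (O1 f g 0 i) (x * g i ^ K i - φ (S i)) = 0 := by
    rw [map_sub, map_mul, ← hdS i, IsScalarTower.algebraMap_apply A (Th f 0) (L f 0 (g i)) x, hx', hΦ, hone, one_mul, sub_self]
  obtain ⟨k, hk⟩ := algebraMap_eq_zero_iff.1 hval
  have hd0 : x * g i ^ K i - φ (S i) ∈ p.asIdeal :=
    (p.2.mem_or_mem (p.asIdeal.mem_of_dvd hk (Ideal.pow_mem_of_mem _ hfp 1 Nat.one_pos))).resolve_left
      fun h => hgp (p.2.mem_of_pow_mem _ h)
  have hxp : x ∈ p.asIdeal := by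
    show π x ∈ P.asIdeal
    rw [hx']; exact hmem
  have h := sub_mem (Ideal.mul_mem_right (g i ^ K i) p.asIdeal hxp) hd0
  rwa [sub_sub_cancel] at h

end Groth.Agent.PicLiftLib
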