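import Groth.Agent.PicLiftLib.SecMod
import Groth.Agent.PicLiftLib.Descent
import Groth.Agent.TildePullback.Basic

/-!
# Invertible modules on the hypersurface extend to an open neighbourhood
-/

set_option autoImplicit false
set_option linter.style.haveILetI false
set_option linter.unusedSectionVars false
set_option backward.isDefEq.respectTransparency false

universe u

open IsLocalRing CategoryTheory CategoryTheory.Limits AlgebraicGeometry TopologicalSpace Groth.Agent.ParaFLib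
  Groth.Agent.ParaFLiftLib

namespace Groth.Agent.PicLiftLib

theorem exists_fin_cover {R : Type u} [CommRing R] [IsNoetherianRing R] (V : Set (PrimeSpectrum R)) (C : Set R)
    (hC : ∀ p ∈ V, ∃ c ∈ C, c ∉ p.asIdeal) :
    ∃ (n : ℕ) (c : Fin n → R), (∀ i, c i ∈ C) ∧ ∀ p ∈ V, ∃ i, c i ∉ p.asIdeal := by
  classical
  obtain ⟨s, hs, hs'⟩ := (Submodule.fg_span_iff_fg_span_finset_subset C).1 (IsNoetherian.noetherian (Submodule.span R C))
  refine ⟨s.card, fun i => (s.equivFin.symm i).1, fun i => hs (s.equivFin.symm i).2, fun p hp => ?_⟩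
  by_contra hall
  push Not at hall
  obtain ⟨c, hc, hcp⟩ := hC p hp
  refine hcp ?_
  have h1 : Ideal.span (↑s : Set R) ≤ p.asIdeal := Ideal.span_le.2 fun x hx => by
    have := hall (s.equivFin ⟨x, hx⟩)
    simpa using this
  refine h1 ?_
  show c ∈ Submodule.span R (↑s : Set R)
  rw [← hs']
  exact Submodule.subset_span hc

/-- A map carrying local generators to local generators is an isomorphism on an open. -/
theorem nonempty_iso_of_gens {R : CommRingCat.{u}} {Q Q' : ModuleCat.{u} R} (V : (Spec R).Opens) (ψ : Q ⟶ Q')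
    (h : ∀ p ∈ V, ∃ (x : Q) (a b : R), a ∉ (p : PrimeSpectrum R).asIdeal ∧ b ∉ (p : PrimeSpectrum R).asIdeal ∧
      (∀ z : Q, ∃ c : R, a • z = c • x) ∧ (∀ c : R, c • x = 0 → a * c = 0) ∧
      (∀ z : Q', ∃ c : R, b • z = c • ψ.hom x) ∧ ∀ c : R, c • ψ.hom x = 0 → b * c = 0) :
    Nonempty ((tilde Q).restrict V.ι ≅ (tilde Q').restrict V.ι) := by
  haveI : IsIso ((Scheme.Modules.restrictFunctor V.ι).map (tilde.map ψ)) := isIso_of_locally_app _ fun y => by
    obtain ⟨x, a, b, ha, hb, h1, h2, h3, h4⟩ := h y.1 y.2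
    refine ⟨V.ι ⁻¹ᵁ (D a ⊓ D b), ⟨ha, hb⟩, fun O hO => ?_⟩
    refine bijective_map_app ψ ((gen_eltSec' Q a x h1 h2).res inf_le_left |> fun h => by rwa [eltSec_res] at h)
      ((gen_eltSec' Q' b (ψ.hom x) h3 h4).res inf_le_right |> fun h => by rwa [eltSec_res] at h) (V.ι ''ᵁ O) ?_
    exact (V.ι.image_mono hO).trans (V.ι.image_preimage_le _)
  exact ⟨asIso ((Scheme.Modules.restrictFunctor V.ι).map (tilde.map ψ))⟩

variable {A : Type u} [CommRing A] [IsNoetherianRing A] {f : A}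

/-- The inclusion of the hypersurface. -/
noncomputable abbrev incl (f : A) : Spec (CommRingCat.of (Th f 0)) ⟶ Spec (CommRingCat.of A) :=
  Spec.map (CommRingCat.ofHom (algebraMap A (Th f 0)))

/-- The finiteness and vanishing needed to lift. -/
def LiftHyp (f : A) (V : Set (PrimeSpectrum A)) : Prop :=
  ∀ (n : ℕ) (g : Fin n → A), (∀ p ∈ V, f ∈ p.asIdeal → ∃ i, g i ∉ p.asIdeal) →
    H2Vanish f g ∧ Module.Finite A (LinearMap.ker (dif (one : ∀ i j, O2 f g 0 i j))) ∧
      IsNoetherian A (Z1 (one : ∀ i j, O2 f g 0 i j) ⧸ B1 (one : ∀ i j, O2 f g 0 i j))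

/-- **Invertible modules on the hypersurface extend to a neighbourhood.** -/
theorem exists_extension [Fact (IsSMulRegular A f)] [IsAdicComplete (Ideal.span {f}) A]
    (U : (Spec (CommRingCat.of A)).Opens) (hH : LiftHyp f {p : PrimeSpectrum A | p ∈ U})
    (L₀ : (↑(incl f ⁻¹ᵁ U) : Scheme.{u}).Modules) (hL₀ : PicF.IsInvertible L₀) :
    ∃ (U' : (Spec (CommRingCat.of A)).Opens) (_ : U' ≤ U) (h : incl f ⁻¹ᵁ U ≤ incl f ⁻¹ᵁ U')
      (L : (↑U' : Scheme.{u}).Modules), PicF.IsInvertible L ∧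
        Nonempty ((Scheme.Modules.pullback ((incl f).resLE U' _ h)).obj L ≅ L₀) ∧
        ∀ p : PrimeSpectrum A, p ∈ U → f ∈ p.asIdeal → p ∈ U' := by
  classical
  let R : CommRingCat.{u} := CommRingCat.of A
  let S : CommRingCat.{u} := CommRingCat.of (Th f 0)
  haveI : IsNoetherianRing S := inferInstanceAs (IsNoetherianRing (Th f 0))
  haveI : IsNoetherianRing R := inferInstanceAs (IsNoetherianRing A)
  let φR : R ⟶ S := CommRingCat.ofHom (algebraMap A (Th f 0))
  let π : A →+* Th f 0 := algebraMap A (Th f 0)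
  have hπ : Function.Surjective π := Ideal.Quotient.mk_surjective
  have hπf : π f = 0 := Ideal.Quotient.eq_zero_iff_mem.2 (Ideal.mem_span_singleton.2 (dvd_of_eq (pow_one f)))
  let U₀ : (Spec S).Opens := incl f ⁻¹ᵁ U
  obtain ⟨Q, hQ, ⟨e⟩⟩ := TildeOpenLib.exists_tilde_finite U₀ (TopologicalSpace.NoetherianSpace.isCompact _) L₀
    (CurveLib.isCoh_of_isInvertible hL₀)
  haveI := hQ
  have hdata : ∀ P ∈ U₀, GenData Q P := fun P hP => genData_of_iso Q U₀ (ParaFLib.isInvertible_of_iso e hL₀) P hP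
  obtain ⟨n, c, hcC, hcov⟩ := exists_fin_cover (R := Th f 0) {p : PrimeSpectrum (Th f 0) | p ∈ U₀}
    {c | ∃ q : Q, (∀ z : Q, ∃ a : Th f 0, c • z = a • q) ∧ ∀ a : Th f 0, a • q = 0 → c * a = 0} fun p hp => by
      obtain ⟨q, c, hc, h1, h2⟩ := hdata p hp
      exact ⟨c, ⟨q, h1, h2⟩, hc⟩
  choose g hg using fun i => hπ (c i)
  obtain rfl : (fun i => π (g i)) = c := funext hg
  choose q hq1 hq2 using hcC
  have hover : ∀ p : PrimeSpectrum A, p ∈ U → f ∈ p.asIdeal → ∃ i, g i ∉ p.asIdeal := fun p hpU hfp => by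
    have hk : RingHom.ker π ≤ p.asIdeal := fun x hx => by
      have h := Ideal.mem_span_singleton.1 (Ideal.Quotient.eq_zero_iff_mem.1 hx)
      exact p.asIdeal.mem_of_dvd h (Ideal.pow_mem_of_mem _ hfp 1 Nat.one_pos)
    haveI : (p.asIdeal.map π).IsPrime := Ideal.map_isPrime_of_surjective hπ hk
    have hcm : (p.asIdeal.map π).comap π = p.asIdeal := by
      rw [Ideal.comap_map_of_surjective π hπ, ← RingHom.ker_eq_comap_bot, sup_eq_left.2 hk]
    obtain ⟨i, hi⟩ := hcov ⟨p.asIdeal.map π, inferInstance⟩ (by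
      show PrimeSpectrum.comap π ⟨p.asIdeal.map π, inferInstance⟩ ∈ U
      rw [show PrimeSpectrum.comap π ⟨p.asIdeal.map π, inferInstance⟩ = p from PrimeSpectrum.ext hcm]
      exact hpU)
    exact ⟨i, fun h => hi (Ideal.mem_map_of_mem π h)⟩
  obtain ⟨h2, hfin, hnoe⟩ := hH n g hover
  obtain ⟨u, ψ, hu, hc, hsec, hadd, hsmul, hone⟩ := exists_cocycle g Q q (fun i z => by
    obtain ⟨a, ha⟩ := hq1 i z
    obtain ⟨a, rfl⟩ := hπ a
    exact ⟨a, ha⟩) hq2
  obtain ⟨T, rfl⟩ := exists_tower h2 u hu hc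
  obtain ⟨N, hN⟩ := T.exists_stable (noetherian_H1 hu hc hfin hnoe)
  haveI : Module.Finite A T.lim := T.finite_lim (finite_sec hu hc hfin)
  haveI : Module.Finite (Th f 0) (secMod (T.v 0)) := finite_secMod (finite_sec hu hc hfin)
  choose Sg K hS using T.exists_gen hN
  let M : ModuleCat.{u} R := ModuleCat.of A T.lim
  have hdataM : ∀ p : PrimeSpectrum A, p ∈ U → f ∈ p.asIdeal → GenData M p := fun p hpU hfp => by
    obtain ⟨i, hi⟩ := hover p hpU hfp
    exact T.genData_lim (hS i) p hfp hi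
  let U' : (Spec R).Opens :=
    ⟨{p : PrimeSpectrum A | p ∈ U ∧ GenData M p}, by
      rw [isOpen_iff_forall_mem_open]
      rintro p ⟨hp, s, h, hh, hgen, htor⟩
      exact ⟨{x : PrimeSpectrum A | x ∈ U} ∩ (PrimeSpectrum.basicOpen h : Set (PrimeSpectrum A)),
        fun x hx => ⟨hx.1, s, h, hx.2, hgen, htor⟩, U.isOpen.inter (PrimeSpectrum.basicOpen h).isOpen, hp, hh⟩⟩
  have hle : incl f ⁻¹ᵁ U ≤ incl f ⁻¹ᵁ U' := fun P hP => ⟨hP, hdataM _ hP (by
    show π f ∈ (P : PrimeSpectrum (Th f 0)).asIdeal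
    rw [hπf]; exact Ideal.zero_mem _)⟩
  refine ⟨U', fun p hp => hp.1, hle, (tilde M).restrict U'.ι, ?_, ?_, fun p hp hfp => ⟨hp, hdataM p hp hfp⟩⟩
  · exact isInvertible_restrict_of_cover (tilde M) U' fun x hx => by
      obtain ⟨s, h, hh, hgen, htor⟩ := hx.2
      exact ⟨D h, hh, nonempty_iso_of_gen (gen_eltSec' M h s hgen htor)⟩
  let k := (incl f).resLE U' (incl f ⁻¹ᵁ U) hle
  let S₀ : ModuleCat.{u} S := ModuleCat.of (Th f 0) (secMod (T.v 0))
  let M₀ : ModuleCat.{u} S := (ModuleCat.extendScalars.{u, u, u} φR.hom).obj M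
  let ev : M ⟶ (ModuleCat.restrictScalars φR.hom).obj S₀ := ModuleCat.ofHom
    (Y := (ModuleCat.restrictScalars φR.hom).obj S₀)
    { toFun := fun z => (show secMod (T.v 0) from ⟨z.1 0, z.2.1 0⟩)
      map_add' := fun z w => rfl
      map_smul' := fun r z => Subtype.ext (algebraMap_pi_smul r (z.1 0)).symm }
  let θ : M₀ ⟶ S₀ := ((ModuleCat.extendRestrictScalarsAdj.{u, u, u} φR.hom).homEquiv M S₀).symm ev
  letI : Algebra R S := φR.hom.toAlgebra
  let one' : M → M₀ := fun z => (show TensorProduct R S M from TensorProduct.tmul R (1 : S) z)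
  have hθ : ∀ z : M, θ.hom (one' z) = ev.hom z := fun z => by
    have h := Adjunction.homEquiv_apply_eq (ModuleCat.extendRestrictScalarsAdj.{u, u, u} φR.hom) θ ev
    have h1 := h.2 rfl
    rw [← h1]
    rfl
  have hgenU : ∀ P ∈ U₀, ∃ i, π (g i) ∉ (P : PrimeSpectrum (Th f 0)).asIdeal := fun P hP => hcov P hP
  obtain ⟨e₁⟩ := nonempty_iso_of_gens U₀ θ fun P hP => by
    obtain ⟨i, hi⟩ := hgenU P hP
    have hfp : f ∈ P.asIdeal.comap π := by
      show π f ∈ P.asIdeal
      rw [hπf]; exact Ideal.zero_mem _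
    obtain ⟨h, hh, hgen, -⟩ := T.exists_gen_lim (hS i) ⟨P.asIdeal.comap π, inferInstance⟩ hfp hi
    have hσ : IsUnit ((θ.hom (one' (Sg i)) : secMod (T.v 0)).1 i) := by
      rw [hθ]
      exact T.isUnit_sec (hS i) 0
    obtain ⟨E, hE1, hE2⟩ := exists_gen_secMod (θ.hom (one' (Sg i)) : secMod (T.v 0)) hσ
    have hgE : π (g i ^ E) ∉ P.asIdeal := fun h' => hi (P.2.mem_of_pow_mem E (by rwa [map_pow] at h'))
    refine ⟨one' (Sg i), π h * π (g i ^ E), π (g i ^ E), fun h' => (P.2.mem_or_mem h').elim hh hgE, hgE, fun z => ?_,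
      fun d hd => ?_, hE1, hE2⟩
    · induction (show TensorProduct R S M from z) using TensorProduct.induction_on with
      | zero => exact ⟨0, by rw [zero_smul]; exact smul_zero _⟩
      | tmul s w =>
        obtain ⟨b, hb⟩ := hgen w
        refine ⟨π (g i ^ E) * s * π b, ?_⟩
        show (show TensorProduct R S M from TensorProduct.tmul R ((π h * π (g i ^ E)) * s) w) =
          (show TensorProduct R S M from TensorProduct.tmul R ((π (g i ^ E) * s * π b) * 1) (Sg i : M))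
        have e1 : (π h * π (g i ^ E)) * s = (h : R) • (π (g i ^ E) * s : S) := by
          rw [Algebra.smul_def]; exact mul_assoc _ _ _
        have e2 : (π (g i ^ E) * s * π b) * (1 : S) = (b : R) • (π (g i ^ E) * s : S) := by
          rw [Algebra.smul_def, mul_one, mul_comm]
        rw [e1, e2, TensorProduct.smul_tmul, TensorProduct.smul_tmul, show (h : R) • w = (b : R) • (Sg i : M) from hb]
      | add x y hx hy =>
        obtain ⟨x', hx'⟩ := hx
        obtain ⟨y', hy'⟩ := hy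
        exact ⟨x' + y', by rw [add_smul, ← hx', ← hy']; exact smul_add _ _ _⟩
    · rw [mul_assoc]
      have h' := congrArg θ.hom hd
      rw [map_smul, map_zero] at h'
      rw [hE2 d h', mul_zero]
  let Ψ : Q ⟶ S₀ := ModuleCat.ofHom (Y := secMod (T.v 0))
    { toFun := fun z => ⟨ψ z, hsec z⟩
      map_add' := fun z w => Subtype.ext (hadd z w)
      map_smul' := fun x z => Subtype.ext (by
        obtain ⟨a, rfl⟩ := hπ x
        show ψ (π a • z) = π a • ψ z
        rw [hsmul, algebraMap_pi_smul]) }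
  obtain ⟨e₂⟩ := nonempty_iso_of_gens U₀ Ψ fun P hP => by
    obtain ⟨i, hi⟩ := hgenU P hP
    obtain ⟨E, hE1, hE2⟩ := exists_gen_secMod (⟨ψ (q i), hsec (q i)⟩ : secMod (T.v 0))
      (by show IsUnit (ψ (q i) i); rw [hone]; exact isUnit_one)
    exact ⟨q i, π (g i), π (g i ^ E), hi, fun h' => hi (P.2.mem_of_pow_mem E (by rwa [map_pow] at h')), hq1 i, hq2 i,
      hE1, hE2⟩
  exact ⟨(Scheme.Modules.pullback k).mapIso ((Scheme.Modules.restrictFunctorIsoPullback U'.ι).app (tilde M)) ≪≫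
    (Scheme.Modules.pullbackComp k U'.ι).app (tilde M) ≪≫
    (Scheme.Modules.pullbackCongr (Scheme.Hom.resLE_comp_ι (incl f) hle)).app (tilde M) ≪≫
    ((Scheme.Modules.pullbackComp U₀.ι (incl f)).app (tilde M)).symm ≪≫
    (Scheme.Modules.pullback U₀.ι).mapIso ((TildePullback.tildePullbackIso φR).app M) ≪≫
    ((Scheme.Modules.restrictFunctorIsoPullback U₀.ι).app (tilde M₀)).symm ≪≫ e₁ ≪≫ e₂.symm ≪≫ e.symm⟩

end Groth.Agent.PicLiftLib
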