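import Groth.Agent.PicLiftLib.SpecQuot
import Groth.Agent.ParaFLib.Stalkwise

/-!
# Extending invertible modules over finitely many points with Picard-trivial punctured local rings
-/

set_option autoImplicit false
set_option linter.style.haveILetI false
set_option linter.unusedSectionVars false
set_option backward.isDefEq.respectTransparency false

universe u

open IsLocalRing CategoryTheory CategoryTheory.Limits AlgebraicGeometry TopologicalSpace Groth.Agent.ParaFLib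
  Groth.Agent.ParaFLiftLib

namespace Groth.Agent.PicLiftLib

/-- Gluing a basis on an open to a module on another, on their union. -/
theorem exists_glue_basis_sup {X : Scheme.{u}} {M : X.Modules} (V D : X.Opens) (hM : LocGen M V)
    (h : ∃ s : Γ(M, V ⊓ D), Gen (V ⊓ D) s) :
    ∃ M' : X.Modules, LocGen M' (V ⊔ D) ∧ Nonempty (M'.restrict V.ι ≅ M.restrict V.ι) := by
  let Y : X.Opens := V ⊔ D
  let i := Y.ι
  have him : ∀ O : X.Opens, O ≤ Y → i ''ᵁ (i ⁻¹ᵁ O) = O := fun O hO => by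
    rw [Scheme.Hom.image_preimage_eq_opensRange_inf, Scheme.Opens.opensRange_ι, inf_eq_right.2 hO]
  have hL : LocGen (M.restrict i) (i ⁻¹ᵁ V) := fun w hw => by
    obtain ⟨O, e, hwO, he⟩ := hM (i w) hw
    exact ⟨i ⁻¹ᵁ O, _, hwO, (gen_restrict_iff i _).2 (he.res (i.image_preimage_le O))⟩
  obtain ⟨s, hs⟩ : ∃ s : Γ(M, i ''ᵁ (i ⁻¹ᵁ V ⊓ i ⁻¹ᵁ D)), Gen (i ''ᵁ (i ⁻¹ᵁ V ⊓ i ⁻¹ᵁ D)) s :=
    exists_gen_of_eq (him (V ⊓ D) (inf_le_left.trans le_sup_left)).symm h
  obtain ⟨L', hL', ⟨φ⟩⟩ := exists_glue_basis (i ⁻¹ᵁ V) (i ⁻¹ᵁ D)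
    (top_le_iff.1 fun w _ => w.2) hL ⟨_, (gen_restrict_iff i s).2 hs⟩
  refine ⟨(Scheme.Modules.pushforward i).obj L', locGen_pushforward Y hL', ?_⟩
  let j := X.homOfLE (le_sup_left : V ≤ Y)
  have hj : j.opensRange = i ⁻¹ᵁ V := Scheme.opensRange_homOfLE le_sup_left
  have hji : j ≫ i = V.ι := Scheme.homOfLE_ι _ _
  let k := IsOpenImmersion.lift (i ⁻¹ᵁ V).ι j (by
    rw [← Scheme.Hom.coe_opensRange, ← Scheme.Hom.coe_opensRange, hj, Scheme.Opens.opensRange_ι])
  have hk : k ≫ (i ⁻¹ᵁ V).ι = j := IsOpenImmersion.lift_fac _ _ _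
  haveI : IsOpenImmersion (k ≫ (i ⁻¹ᵁ V).ι) := hk ▸ inferInstance
  haveI : IsOpenImmersion k := IsOpenImmersion.of_comp k (i ⁻¹ᵁ V).ι
  exact ⟨restrictCongr hji.symm _ ≪≫ restrictComp j i _ ≪≫
    (Scheme.Modules.restrictFunctor j).mapIso (asIso ((Scheme.Modules.restrictAdjunction i).counit.app L')) ≪≫
    restrictCongr hk.symm _ ≪≫ restrictComp k _ _ ≪≫ (Scheme.Modules.restrictFunctor k).mapIso φ ≪≫
    (restrictComp k _ _).symm ≪≫ restrictCongr hk _ ≪≫ (restrictComp j i _).symm ≪≫ restrictCongr hji _⟩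

variable {A : Type u} [CommRing A] [IsNoetherianRing A] [IsLocalRing A] {f : A}

/-- An invertible module on an open neighbourhood of `V(f)` in the punctured spectrum extends to the punctured
spectrum, if the punctured spectra of the remaining local rings have trivial Picard groups. -/
theorem exists_extend_points (hf : f ∈ maximalIdeal A) {U' : (Spec (CommRingCat.of A)).Opens}
    (hle : U' ≤ FEt.puncturedSpec A)
    (hfU : ∀ p : PrimeSpectrum A, p ∈ FEt.puncturedSpec A → f ∈ p.asIdeal → p ∈ U')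
    (hpic : ∀ (q : Ideal A) [q.IsPrime], f ∉ q → (∀ (q' : Ideal A), q'.IsPrime → q ≤ q' → f ∉ q' → q' = q) →
      Formal2.PicTrivial (↑(FEt.puncturedSpec (Localization.AtPrime q)) : Scheme.{u}))
    {L : (U' : Scheme.{u}).Modules} (hL : PicF.IsInvertible L) :
    ∃ M : (FEt.puncturedSpec A : Scheme.{u}).Modules, PicF.IsInvertible M ∧
      Nonempty (M.restrict ((Spec (CommRingCat.of A)).homOfLE hle) ≅ L) := by
  classical
  let R : CommRingCat.{u} := CommRingCat.of A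
  haveI : IsNoetherianRing R := inferInstanceAs (IsNoetherianRing A)
  let U : (Spec R).Opens := FEt.puncturedSpec A
  obtain ⟨I, hI⟩ := (PrimeSpectrum.isClosed_iff_zeroLocus_ideal ((U'.carrier : Set (PrimeSpectrum A))ᶜ)).1 U'.is_open'.isClosed_compl
  -- the points to add
  have hclosed : ∀ p : PrimeSpectrum A, p ∈ U → p ∉ U' → f ∉ p.asIdeal ∧
      ∀ q : Ideal A, q.IsPrime → p.asIdeal < q → q = maximalIdeal A := fun p hpU hpU' => by
    refine ⟨fun hfp => hpU' (hfU p hpU hfp), fun q hq hlt => ?_⟩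
    refine eq_maximalIdeal_of_lt hlt hf (fun hfp => hpU' (hfU p hpU hfp)) fun P hP hlt' hfP => ?_
    by_contra hPm
    exact hpU' (((PrimeSpectrum.le_iff_specializes p ⟨P, hP⟩).1 hlt'.le).mem_open U'.isOpen
      (hfU ⟨P, hP⟩ ((mem_puncturedSpec_iff _).2 hPm) hfP))
  have hfin : {p : PrimeSpectrum A | p ∈ U ∧ p ∉ U'}.Finite := by
    refine Set.Finite.of_finite_image (f := PrimeSpectrum.asIdeal)
      ((Ideal.finite_minimalPrimes_of_isNoetherianRing A I).subset ?_) (fun p _ q _ h => PrimeSpectrum.ext h)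
    rintro _ ⟨p, ⟨hpU, hpU'⟩, rfl⟩
    have hIp : I ≤ p.asIdeal := fun r hr => (hI.le hpU' : p ∈ PrimeSpectrum.zeroLocus (I : Set A)) hr
    obtain ⟨P, hP, hPp⟩ := Ideal.exists_minimalPrimes_le hIp
    suffices P = p.asIdeal by rw [← this]; exact hP
    by_contra hne
    have hlt : P < p.asIdeal := lt_of_le_of_ne hPp hne
    haveI := hP.1.1
    have hPm : P ≠ maximalIdeal A := fun e => hne (le_antisymm hPp (e ▸ le_maximalIdeal p.isPrime.ne_top))
    have hPU' : (⟨P, inferInstance⟩ : PrimeSpectrum A) ∉ U' := fun h =>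
      (hI.ge (fun r hr => hP.1.2 hr) : _ ∈ (U'.carrier : Set (PrimeSpectrum A))ᶜ) h
    exact (mem_puncturedSpec_iff p).1 hpU ((hclosed ⟨P, inferInstance⟩ ((mem_puncturedSpec_iff _).2 hPm) hPU').2
      p.asIdeal inferInstance hlt)
  let F := hfin.toFinset
  have hF : ∀ p : PrimeSpectrum A, p ∈ F ↔ p ∈ U ∧ p ∉ U' := fun p => hfin.mem_toFinset
  suffices hstep : ∀ s : Finset (PrimeSpectrum A), s ⊆ F → ∃ (W : (Spec R).Opens) (hW : U' ≤ W),
      W ≤ U ∧ (∀ p ∈ s, p ∈ W) ∧ ∃ M : (Spec R).Modules, LocGen M W ∧ Nonempty (M.restrict U'.ι ≅ L) by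
    obtain ⟨W, hW, hWU, hs, M, hM, ⟨φ⟩⟩ := hstep F (subset_refl _)
    have hUW : U ≤ W := fun p hp => by
      by_cases hp' : p ∈ U'
      · exact hW hp'
      · exact hs p ((hF p).2 ⟨hp, hp'⟩)
    refine ⟨M.restrict U.ι, isInvertible_restrict_of_cover M U fun x hx => ?_, ⟨(restrictComp _ U.ι M).symm ≪≫
      restrictCongr (Scheme.homOfLE_ι _ hle) M ≪≫ φ⟩⟩
    obtain ⟨V, e, hxV, he⟩ := hM x (hUW hx)
    exact ⟨V, hxV, nonempty_iso_of_gen he⟩
  intro s
  induction s using Finset.induction with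
  | empty => exact fun _ => ⟨U', le_rfl, hle, by simp, _, locGen_pushforward U' hL,
      ⟨asIso ((Scheme.Modules.restrictAdjunction U'.ι).counit.app L)⟩⟩
  | @insert y s hy ih =>
    intro hs
    obtain ⟨W, hW, hWU, hsW, M, hM, ⟨φ⟩⟩ := ih ((Finset.subset_insert y s).trans hs)
    by_cases hyW : y ∈ W
    · exact ⟨W, hW, hWU, by simp only [Finset.mem_insert, forall_eq_or_imp]; exact ⟨hyW, hsW⟩, M, hM, ⟨φ⟩⟩
    obtain ⟨hyU, hyU'⟩ := (hF y).1 (hs (Finset.mem_insert_self y s))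
    obtain ⟨hfy, hymax⟩ := hclosed y hyU hyU'
    have hym : y.asIdeal ≠ maximalIdeal A := (mem_puncturedSpec_iff y).1 hyU
    obtain ⟨h₀, ⟨hh₀m, hh₀F⟩, hh₀y⟩ : ∃ h₀ : A, (h₀ ∈ maximalIdeal A ∧ ∀ q ∈ F, q ≠ y → h₀ ∈ q.asIdeal) ∧
        h₀ ∉ y.asIdeal := by
      by_contra hall
      push Not at hall
      have hle' : maximalIdeal A ⊓ (F.erase y).inf PrimeSpectrum.asIdeal ≤ y.asIdeal := fun r hr =>
        hall r ⟨hr.1, fun q hq hqy => Finset.inf_le (f := PrimeSpectrum.asIdeal) (Finset.mem_erase.2 ⟨hqy, hq⟩) hr.2⟩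
      rcases y.isPrime.inf_le.1 hle' with h | h
      · exact hym (le_antisymm (le_maximalIdeal y.isPrime.ne_top) h)
      · obtain ⟨q, hq, hqy⟩ := y.isPrime.inf_le'.1 h
        obtain ⟨hqne, hqF⟩ := Finset.mem_erase.1 hq
        have hlt : q.asIdeal < y.asIdeal := lt_of_le_of_ne hqy fun e => hqne (PrimeSpectrum.ext e)
        exact hym ((hclosed q ((hF q).1 hqF).1 ((hF q).1 hqF).2).2 y.asIdeal inferInstance hlt)
    have hsub : ∀ z : PrimeSpectrum R, z ∈ (D h₀ ⊓ nonV y.asIdeal : (Spec R).Opens) → z ∈ W := fun z hz => by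
      by_contra hzW
      have hzU : z ∈ U := (mem_puncturedSpec_iff (A := A) z).2 fun e => hz.1 (e ▸ hh₀m : h₀ ∈ z.asIdeal)
      have hzy : z ≠ y := fun e => hz.2 (show y.asIdeal ≤ z.asIdeal from e ▸ le_rfl)
      exact hz.1 (hh₀F z ((hF z).2 ⟨hzU, fun hzU' => hzW (hW hzU')⟩) hzy)
    have hpy : ParaF.PicTrivial (FEt.puncturedSpec (locR (R := R) y) : Scheme.{u}) :=
      hpic y.asIdeal hfy fun q' hq' hle' hfq' => by
        by_contra hne
        have hlt : y.asIdeal < q' := lt_of_le_of_ne hle' (Ne.symm hne)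
        exact hfq' (hymax q' hq' hlt ▸ hf)
    obtain ⟨h, hhy, hdvd, hgen⟩ := exists_gen_near (R := R) y hpy hh₀y fun z hz => hM z (hsub z hz)
    have hDh : (D h : (Spec R).Opens) ≤ D h₀ := D_le_of_dvd hdvd
    have heq : W ⊓ D h = D h ⊓ nonV y.asIdeal := by
      refine le_antisymm (fun z hz => ⟨hz.2, fun hle' => hyW ?_⟩) fun z hz => ⟨hsub z ⟨hDh hz.1, hz.2⟩, hz.1⟩
      exact ((PrimeSpectrum.le_iff_specializes y z).1 hle').mem_open W.isOpen hz.1
    obtain ⟨M', hM', ⟨ψ⟩⟩ := exists_glue_basis_sup W (D h) hM (exists_gen_of_eq heq.symm hgen)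
    have hDU : (D h : (Spec R).Opens) ≤ U := fun z hz =>
      (mem_puncturedSpec_iff (A := A) z).2 fun e => hDh hz (e ▸ hh₀m : h₀ ∈ (z : PrimeSpectrum A).asIdeal)
    refine ⟨W ⊔ D h, hW.trans le_sup_left, sup_le hWU hDU, ?_, M', hM', ⟨?_⟩⟩
    · simp only [Finset.mem_insert, forall_eq_or_imp]
      exact ⟨Or.inr hhy, fun p hp => Or.inl (hsW p hp)⟩
    · let j := (Spec R).homOfLE hW
      exact restrictCongr (Scheme.homOfLE_ι _ hW).symm M' ≪≫ restrictComp j W.ι M' ≪≫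
        (Scheme.Modules.restrictFunctor j).mapIso ψ ≪≫ (restrictComp j W.ι M).symm ≪≫
        restrictCongr (Scheme.homOfLE_ι _ hW) M ≪≫ φ

/-- Surjectivity on Picard groups when the punctured spectra of the closed points of `D(f)` have no Picard group. -/
theorem picPullbackSurjective_of_picTrivial [Fact (IsSMulRegular A f)] [IsAdicComplete (Ideal.span {f}) A]
    (hf : f ∈ maximalIdeal A) (hH : LiftHyp f {p : PrimeSpectrum A | p ∈ FEt.puncturedSpec A})
    (hpic : ∀ (q : Ideal A) [q.IsPrime], f ∉ q → (∀ (q' : Ideal A), q'.IsPrime → q ≤ q' → f ∉ q' → q' = q) →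
      Formal2.PicTrivial (↑(FEt.puncturedSpec (Localization.AtPrime q)) : Scheme.{u})) :
    Formal2.PicPullbackSurjective (Formal2.specQuotMap A f ∣_ FEt.puncturedSpec A) := by
  intro L₀ hL₀
  obtain ⟨U', hle, h, L', hL', ⟨φ₀⟩, hfU⟩ := exists_extension_specQuot hH L₀ hL₀
  obtain ⟨M, hM, ⟨ψ⟩⟩ := exists_extend_points hf hle hfU hpic hL'
  refine ⟨M, hM, ?_⟩
  let U := FEt.puncturedSpec A
  let q := Formal2.specQuotMap A f
  let j := (Spec (CommRingCat.of A)).homOfLE hle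
  let k := q.resLE U' (q ⁻¹ᵁ U) h
  have hk : k ≫ j = q ∣_ U := by
    rw [← cancel_mono U.ι, Category.assoc, Scheme.homOfLE_ι, Scheme.Hom.resLE_comp_ι, morphismRestrict_ι]
  exact ⟨(Scheme.Modules.pullbackCongr hk.symm).app M ≪≫ ((Scheme.Modules.pullbackComp k j).app M).symm ≪≫
    (Scheme.Modules.pullback k).mapIso (((Scheme.Modules.restrictFunctorIsoPullback j).app M).symm ≪≫ ψ) ≪≫ φ₀⟩

end Groth.Agent.PicLiftLib
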