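import Mathlib

/-!
# Localisations of the thickenings of a hypersurface
-/

set_option autoImplicit false
set_option linter.style.haveILetI false
set_option linter.unusedSectionVars false

universe u

open IsLocalization

namespace Groth.Agent.PicLiftLib

variable {A : Type u} [CommRing A] (f : A)

/-- The `n`-th thickening. -/
abbrev Th (n : ℕ) : Type u := A ⧸ Ideal.span {f ^ (n + 1)}

/-- Functions on the basic open `x` of the `n`-th thickening. -/
abbrev L (n : ℕ) (x : A) : Type u := Localization.Away (algebraMap A (Th f n) x)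

variable {f}

theorem isUnit_algebraMap (n : ℕ) (x : A) : IsUnit (algebraMap A (L f n x) x) := by
  rw [IsScalarTower.algebraMap_apply A (Th f n) (L f n x)]
  exact IsLocalization.Away.algebraMap_isUnit _

theorem isUnit_of_dvd (n : ℕ) {x y : A} (h : x ∣ y) : IsUnit (algebraMap A (L f n y) x) :=
  isUnit_of_dvd_unit (map_dvd _ h) (isUnit_algebraMap n y)

theorem pow_eq_zero (n : ℕ) {m : ℕ} (h : n < m) (x : A) : algebraMap A (L f n x) (f ^ m) = 0 := by
  rw [IsScalarTower.algebraMap_apply A (Th f n) (L f n x),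
    show algebraMap A (Th f n) (f ^ m) = 0 from
      Ideal.Quotient.eq_zero_iff_mem.2 (Ideal.mem_span_singleton.2 (pow_dvd_pow f h)), map_zero]

theorem hom_ext {n : ℕ} {x : A} {C : Type*} [CommRing C] [Algebra A C] (φ ψ : L f n x →ₐ[A] C) : φ = ψ := by
  apply AlgHom.coe_ringHom_injective
  refine IsLocalization.ringHom_ext (Submonoid.powers (algebraMap A (Th f n) x)) ?_
  refine Ideal.Quotient.ringHom_ext (RingHom.ext fun a => ?_)
  show φ (algebraMap (Th f n) _ (algebraMap A (Th f n) a)) = ψ (algebraMap (Th f n) _ (algebraMap A (Th f n) a))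
  rw [← IsScalarTower.algebraMap_apply, φ.commutes, ψ.commutes]

theorem exists_mk (n : ℕ) (x : A) (z : L f n x) :
    ∃ (a : A) (k : ℕ), z * algebraMap A (L f n x) (x ^ k) = algebraMap A (L f n x) a := by
  obtain ⟨⟨r, ⟨_, k, rfl⟩⟩, h⟩ := IsLocalization.surj (Submonoid.powers (algebraMap A (Th f n) x)) z
  obtain ⟨a, rfl⟩ := Ideal.Quotient.mk_surjective r
  refine ⟨a, k, ?_⟩
  rw [IsScalarTower.algebraMap_apply A (Th f n) (L f n x), IsScalarTower.algebraMap_apply A (Th f n) (L f n x), map_pow]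
  exact h

theorem algebraMap_eq_zero_iff {n : ℕ} {x a : A} :
    algebraMap A (L f n x) a = 0 ↔ ∃ k : ℕ, f ^ (n + 1) ∣ x ^ k * a := by
  rw [IsScalarTower.algebraMap_apply A (Th f n) (L f n x),
    IsLocalization.map_eq_zero_iff (Submonoid.powers (algebraMap A (Th f n) x))]
  constructor
  · rintro ⟨⟨_, k, rfl⟩, h⟩
    exact ⟨k, Ideal.mem_span_singleton.1 (Ideal.Quotient.eq_zero_iff_mem.1 (by simpa using h))⟩
  · rintro ⟨k, h⟩
    exact ⟨⟨_, k, rfl⟩, by simpa using Ideal.Quotient.eq_zero_iff_mem.2 (Ideal.mem_span_singleton.2 h)⟩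

/-- Restriction along thinner thickenings and smaller opens. -/
noncomputable def mp {n m : ℕ} (h : m ≤ n) {x y : A} (hxy : x ∣ y) : L f n x →ₐ[A] L f m y :=
  IsLocalization.liftAlgHom (M := Submonoid.powers (algebraMap A (Th f n) x))
    (f := Ideal.Quotient.liftₐ _ (Algebra.ofId A (L f m y)) fun a ha => by
      obtain ⟨c, rfl⟩ := Ideal.mem_span_singleton.1 ha
      show algebraMap A (L f m y) _ = 0
      rw [map_mul, pow_eq_zero m (by omega) y, zero_mul])
    (by
      rintro ⟨_, k, rfl⟩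
      simp only [map_pow]
      refine IsUnit.pow _ ?_
      exact isUnit_of_dvd m hxy)

@[simp] theorem mp_mp {n m l : ℕ} (h : m ≤ n) (h' : l ≤ m) {x y z : A} (hxy : x ∣ y) (hyz : y ∣ z) (w : L f n x) :
    mp h' hyz (mp h hxy w) = mp (h'.trans h) (hxy.trans hyz) w :=
  DFunLike.congr_fun (hom_ext ((mp h' hyz).comp (mp h hxy)) (mp (h'.trans h) (hxy.trans hyz))) w

theorem mp_self {n : ℕ} {x : A} (w : L f n x) : mp (le_refl n) (dvd_refl x) w = w :=
  DFunLike.congr_fun (hom_ext (mp (le_refl n) (dvd_refl x)) (AlgHom.id A _)) w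

theorem mp_congr {n m : ℕ} (h h' : m ≤ n) {x y : A} (hxy hxy' : x ∣ y) (w : L f n x) :
    (mp h hxy : L f n x →ₐ[A] L f m y) w = mp h' hxy' w := rfl

theorem mp_surjective {n m : ℕ} (h : m ≤ n) (x : A) :
    Function.Surjective (mp (f := f) h (dvd_refl x)) := by
  intro z
  obtain ⟨a, k, hk⟩ := exists_mk m x z
  obtain ⟨b, hb⟩ := ((isUnit_algebraMap (f := f) n x).pow k).exists_right_inv
  refine ⟨algebraMap A _ a * b, ?_⟩
  rw [map_mul, AlgHom.commutes, ← hk, map_pow, mul_assoc, ← AlgHom.commutes (mp h (dvd_refl x)) x, ← map_pow,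
    ← map_mul, hb, map_one, mul_one]

theorem mem_ker_mp {n m : ℕ} (h : m ≤ n) {x : A} {z : L f n x} (hz : mp h (dvd_refl x) z = 0) :
    ∃ w, z = f ^ (m + 1) • w := by
  obtain ⟨a, k, hk⟩ := exists_mk n x z
  have h0 : algebraMap A (L f m x) a = 0 := by
    rw [← AlgHom.commutes (mp h (dvd_refl x)), ← hk, map_mul, hz, zero_mul]
  obtain ⟨l, c, hc⟩ := algebraMap_eq_zero_iff.1 h0
  obtain ⟨b, hb⟩ := ((isUnit_algebraMap (f := f) n x).pow (l + k)).exists_right_inv
  refine ⟨algebraMap A _ c * b, ?_⟩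
  rw [Algebra.smul_def, ← mul_assoc, ← map_mul, ← hc, map_mul, ← hk, map_pow, map_pow]
  calc z = z * (algebraMap A (L f n x) x ^ (l + k) * b) := by rw [hb, mul_one]
    _ = _ := by ring

section Mul

variable [Fact (IsSMulRegular A f)]

theorem le_of_add {n m k : ℕ} (h : n + k = m) : n ≤ m := h ▸ Nat.le_add_right n k

theorem smul_eq_zero_iff {n m k : ℕ} (hm : n + k = m) {x : A} {z : L f m x} :
    f ^ k • z = 0 ↔ mp (le_of_add hm) (dvd_refl x) z = 0 := by
  subst hm
  constructor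
  · intro h
    obtain ⟨a, l, hl⟩ := exists_mk (n + k) x z
    have h1 : algebraMap A (L f (n + k) x) (f ^ k * a) = 0 := by
      rw [map_mul, ← hl, ← mul_assoc, ← Algebra.smul_def, h, zero_mul]
    obtain ⟨j, c, hc⟩ := algebraMap_eq_zero_iff.1 h1
    have hreg : IsSMulRegular A (f ^ k) := (Fact.out : IsSMulRegular A f).pow k
    have h2 : x ^ j * a = f ^ (n + 1) * c := hreg (by
      show f ^ k * (x ^ j * a) = f ^ k * (f ^ (n + 1) * c)
      rw [← mul_assoc (f ^ k), ← mul_assoc (f ^ k), ← pow_add, mul_comm (f ^ k), mul_assoc, show k + (n + 1) = n + k + 1 by omega]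
      exact hc)
    have h3 : algebraMap A (L f n x) a = 0 := algebraMap_eq_zero_iff.2 ⟨j, c, h2⟩
    have h4 := congrArg (mp (Nat.le_add_right n k) (dvd_refl x)) hl
    rw [map_mul, AlgHom.commutes, AlgHom.commutes, h3] at h4
    exact (IsUnit.mul_left_eq_zero (by rw [map_pow]; exact (isUnit_algebraMap n x).pow l)).1 h4
  · intro h
    obtain ⟨w, rfl⟩ := mem_ker_mp _ h
    rw [smul_smul, ← pow_add, Algebra.smul_def, pow_eq_zero (n + k) (by omega) x, zero_mul]

/-- Multiplication by `f ^ k` from a thickening to a thicker one. -/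
noncomputable def mu {n m : ℕ} (k : ℕ) (hm : n + k = m) (x : A) : L f n x →ₗ[A] L f m x :=
  let p : L f m x →ₗ[A] L f n x := (mp (le_of_add hm) (dvd_refl x)).toLinearMap
  ((LinearMap.ker p).liftQ (LinearMap.lsmul A (L f m x) (f ^ k)) fun z hz => (smul_eq_zero_iff hm).2 hz) ∘ₗ
    (p.quotKerEquivOfSurjective (mp_surjective (le_of_add hm) x)).symm.toLinearMap

theorem mu_mp {n m : ℕ} (k : ℕ) (hm : n + k = m) (x : A) (z : L f m x) :
    mu k hm x (mp (le_of_add hm) (dvd_refl x) z) = f ^ k • z := by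
  let p : L f m x →ₗ[A] L f n x := (mp (le_of_add hm) (dvd_refl x)).toLinearMap
  have : (p.quotKerEquivOfSurjective (mp_surjective (le_of_add hm) x)).symm (p z) = Submodule.Quotient.mk z := by
    rw [LinearEquiv.symm_apply_eq]; rfl
  show (LinearMap.ker p).liftQ (LinearMap.lsmul A (L f m x) (f ^ k)) (fun w hw => (smul_eq_zero_iff hm).2 hw)
    ((p.quotKerEquivOfSurjective (mp_surjective (le_of_add hm) x)).symm (p z)) = _
  rw [this]
  rfl

theorem mu_injective {n m : ℕ} (k : ℕ) (hm : n + k = m) (x : A) : Function.Injective (mu (f := f) k hm x) := by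
  rw [injective_iff_map_eq_zero]
  intro z hz
  obtain ⟨z, rfl⟩ := mp_surjective (le_of_add hm) x z
  rw [mu_mp] at hz
  exact (smul_eq_zero_iff hm).1 hz

theorem exists_mu {n m j : ℕ} (k : ℕ) (hm : n + k = m) (hj : j + 1 = k) (h : j ≤ m) {x : A} {z : L f m x}
    (hz : mp h (dvd_refl x) z = 0) : ∃ w : L f n x, mu k hm x w = z := by
  obtain ⟨w, rfl⟩ := mem_ker_mp h hz
  exact ⟨mp (le_of_add hm) (dvd_refl x) w, by rw [mu_mp, hj]⟩

theorem mp_mu_eq_zero {n m k l : ℕ} (hm : n + k = m) (h : l ≤ m) (hl : l < k) {x y : A} (hxy : x ∣ y) (z : L f n x) :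
    mp h hxy (mu k hm x z) = 0 := by
  obtain ⟨z, rfl⟩ := mp_surjective (le_of_add hm) x z
  rw [mu_mp, map_smul, Algebra.smul_def, pow_eq_zero l hl y, zero_mul]

theorem mp_mu {n m n' m' k : ℕ} (hm : n + k = m) (hm' : n' + k = m') (h : m' ≤ m) (h' : n' ≤ n) {x y : A}
    (hxy : x ∣ y) (z : L f n x) : mp h hxy (mu k hm x z) = mu k hm' y (mp h' hxy z) := by
  obtain ⟨z, rfl⟩ := mp_surjective (le_of_add hm) x z
  rw [mu_mp, map_smul, ← mu_mp k hm' y (mp h hxy z), mp_mp, mp_mp]

theorem mu_mul {n m : ℕ} (k : ℕ) (hm : n + k = m) (x : A) (a : L f m x) (z : L f n x) :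
    mu k hm x (mp (le_of_add hm) (dvd_refl x) a * z) = a * mu k hm x z := by
  obtain ⟨z, rfl⟩ := mp_surjective (le_of_add hm) x z
  rw [← map_mul, mu_mp, mu_mp, mul_smul_comm]

theorem mu_mu {n m l : ℕ} (k k' : ℕ) (hm : n + k = m) (hl : m + k' = l) (x : A) (z : L f n x) :
    mu k' hl x (mu k hm x z) = mu (k + k') (by omega) x z := by
  obtain ⟨z', rfl⟩ := mp_surjective (le_of_add hm) x z
  obtain ⟨z'', rfl⟩ := mp_surjective (le_of_add hl) x z'
  rw [mu_mp, map_smul, mu_mp, mp_mp, mu_mp, smul_smul, ← pow_add]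

end Mul

end Groth.Agent.PicLiftLib
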