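import Groth.Agent.PicLiftLib.CechLoc
import Groth.Agent.PicLiftLib.LevelZero
import Groth.Agent.PicLiftLib.Extend
import Groth.Agent.LocCohLib.Flasque
import Groth.Agent.LocCohLib.Vanishing

/-!
# The lifting hypotheses from local cohomology of the hypersurface
-/

set_option autoImplicit false
set_option linter.style.haveILetI false
set_option linter.unusedSectionVars false

universe u

open CategoryTheory IsLocalRing Groth.Agent.LocCohLib

namespace Groth.Agent.PicLiftLib

theorem subsingleton_H_top {R : Type u} [CommRing R] (i : ℕ) (M : ModuleCat.{u} R) :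
    Subsingleton ((localCohomology (⊤ : Ideal R) i).obj M : Type u) := by
  obtain ⟨J⟩ := HasInjectiveResolution.out (Z := M)
  refine (presents_injectiveResolution ⊤ J i).subsingleton fun x hx => ?_
  obtain ⟨n, hn⟩ := hx.1
  rw [show x = 0 by simpa using hn 1 (by rw [Ideal.top_pow]; exact Submodule.mem_top)]
  exact zero_mem _

section

variable {A : Type u} [CommRing A] {f : A} {ι : Type} {g : ι → A}

theorem finite_ker_one_of (h : Module.Finite (Th f 0) (LinearMap.ker (Cech.d0L (gbar f g)))) :
    Module.Finite A (LinearMap.ker (dif (one : ∀ i j, O2 f g 0 i j))) := by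
  let π := algebraMap A (Th f 0)
  haveI := h
  haveI : Module.Finite A (LinearMap.ker (Cech.d0L (gbar f g))) := Module.Finite.trans (Th f 0) _
  let e : LinearMap.ker (Cech.d0L (gbar f g)) →ₗ[A] LinearMap.ker (dif (one : ∀ i j, O2 f g 0 i j)) :=
    { toFun := fun s => ⟨s.1, LinearMap.mem_ker.2 (funext₂ fun i j => by
        have h := congrArg (Cech.res (show π (g i) * π (g j) ∣ π (g i * g j) from dvd_of_eq (map_mul π _ _).symm))
          (congrFun (congrFun (LinearMap.mem_ker.1 s.2) i) j)
        simp only [Cech.d0L_apply, Cech.d0, map_sub, Cech.res_res, Pi.zero_apply, map_zero] at h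
        simp only [dif_apply, one, one_mul, res_eq_cech, Pi.zero_apply]
        exact h)⟩
      map_add' := fun _ _ => rfl
      map_smul' := fun _ _ => rfl }
  refine Module.Finite.of_surjective e fun s => ⟨⟨s.1, LinearMap.mem_ker.2 (funext₂ fun i j => ?_)⟩, rfl⟩
  have h := congrArg (Cech.res (show π (g i * g j) ∣ π (g i) * π (g j) from dvd_of_eq (map_mul π _ _)))
    (congrFun (congrFun (LinearMap.mem_ker.1 s.2) i) j)
  simp only [dif_apply, one, one_mul, res_eq_cech, map_sub, Cech.res_res, Pi.zero_apply, map_zero] at h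
  simp only [Cech.d0L_apply, Cech.d0, Pi.zero_apply]
  exact h

theorem noetherian_H1_one_of [IsNoetherianRing A]
    (h : Module.Finite (Th f 0) (LinearMap.ker (Cech.d1L (gbar f g)) ⧸ Cech.B (gbar f g))) :
    IsNoetherian A (Z1 (one : ∀ i j, O2 f g 0 i j) ⧸ B1 (one : ∀ i j, O2 f g 0 i j)) := by
  let π := algebraMap A (Th f 0)
  have e2 : ∀ i j, π (g i * g j) ∣ π (g i) * π (g j) := fun i j => dvd_of_eq (map_mul π _ _)
  have e2' : ∀ i j, π (g i) * π (g j) ∣ π (g i * g j) := fun i j => dvd_of_eq (map_mul π _ _).symm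
  haveI := h
  haveI : Module.Finite A (LinearMap.ker (Cech.d1L (gbar f g)) ⧸ Cech.B (gbar f g)) := Module.Finite.trans (Th f 0) _
  let e : LinearMap.ker (Cech.d1L (gbar f g)) →ₗ[A] Z1 (one : ∀ i j, O2 f g 0 i j) :=
    { toFun := fun w => ⟨fun i j => Cech.resL (e2' i j) (w.1 i j), LinearMap.mem_ker.2 (funext fun i => funext₂ fun j k => by
        have h := congrArg (Cech.res (show π (g i) * π (g j) * π (g k) ∣ π (g i * g j * g k) from
          dvd_of_eq (by rw [map_mul, map_mul]))) (congrFun (congrFun (congrFun (LinearMap.mem_ker.1 w.2) i) j) k)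
        simp only [Cech.d1L_apply, Cech.d1, map_sub, map_add, Cech.res_res, Pi.zero_apply, map_zero] at h
        simp only [dif1_apply, one, map_one, one_mul, res_eq_cech, Cech.resL_apply, Cech.res_res, Pi.zero_apply]
        exact h)⟩
      map_add' := fun w w' => Subtype.ext (funext₂ fun i j => map_add (Cech.resL (e2' i j)) _ _)
      map_smul' := fun a w => Subtype.ext (funext₂ fun i j =>
        ((Cech.resL (e2' i j)).restrictScalars A).map_smul a (w.1 i j)) }
  let q := (B1 (one : ∀ i j, O2 f g 0 i j)).mkQ ∘ₗ e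
  have hq : (Cech.B (gbar f g)).restrictScalars A ≤ LinearMap.ker q := by
    rintro ⟨w, hw⟩ ⟨b, rfl⟩
    refine (Submodule.Quotient.mk_eq_zero _).2 ⟨b, funext₂ fun i j => ?_⟩
    show dif one b i j = Cech.resL (e2' i j) (Cech.d0L (gbar f g) b i j)
    simp only [dif_apply, one, one_mul, res_eq_cech, Cech.d0L_apply, Cech.d0, Cech.resL_apply, map_sub, Cech.res_res]
  have hfin : Module.Finite A (Z1 (one : ∀ i j, O2 f g 0 i j) ⧸ B1 (one : ∀ i j, O2 f g 0 i j)) := by
    haveI : Module.Finite A (LinearMap.ker (Cech.d1L (gbar f g)) ⧸ (Cech.B (gbar f g)).restrictScalars A) :=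
      Module.Finite.equiv ((Submodule.Quotient.restrictScalarsEquiv A (Cech.B (gbar f g))).symm.restrictScalars A)
    refine Module.Finite.of_surjective (Submodule.liftQ _ q hq) fun c => ?_
    obtain ⟨w, rfl⟩ := Submodule.mkQ_surjective _ c
    refine ⟨Submodule.Quotient.mk (⟨fun i j => Cech.resL (e2 i j) (w.1 i j), LinearMap.mem_ker.2 (funext fun i =>
      funext₂ fun j k => ?_)⟩ : LinearMap.ker (Cech.d1L (gbar f g))), ?_⟩
    · have h := congrArg (Cech.res (show π (g i * g j * g k) ∣ π (g i) * π (g j) * π (g k) from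
        dvd_of_eq (by rw [map_mul, map_mul]))) (congrFun (congrFun (congrFun (LinearMap.mem_ker.1 w.2) i) j) k)
      simp only [dif1_apply, one, map_one, one_mul, res_eq_cech, map_sub, map_add, Cech.res_res, Pi.zero_apply, map_zero] at h
      simp only [Cech.d1L_apply, Cech.d1, Cech.resL_apply, Cech.res_res, Pi.zero_apply]
      exact h
    · show (B1 (one : ∀ i j, O2 f g 0 i j)).mkQ (e _) = _
      refine congrArg _ (Subtype.ext (funext₂ fun i j => ?_))
      show Cech.resL (e2' i j) (Cech.resL (e2 i j) (w.1 i j)) = w.1 i j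
      simp only [Cech.resL_apply, Cech.res_res, Cech.res_self]
  exact isNoetherian_of_isNoetherianRing_of_finite A _

end

/-- **The lifting hypotheses from local cohomology.** -/
theorem liftHyp_of_locCoh {A : Type u} [CommRing A] [IsNoetherianRing A] [IsLocalRing A] {f : A}
    (h₁ : Module.Finite A (LocCoh.H (maximalIdeal A) 1 (A ⧸ Ideal.span {f})))
    (h₂ : Module.Finite A (LocCoh.H (maximalIdeal A) 2 (A ⧸ Ideal.span {f})))
    (h₃ : Subsingleton (LocCoh.H (maximalIdeal A) 3 (A ⧸ Ideal.span {f}))) :
    LiftHyp f {p : PrimeSpectrum A | p.asIdeal ≠ maximalIdeal A} := by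
  intro n g hg
  let π := algebraMap A (Th f 0)
  have hπ : Function.Surjective π := Ideal.Quotient.mk_surjective
  have hπf : π f = 0 := Ideal.Quotient.eq_zero_iff_mem.2 (Ideal.mem_span_singleton.2 (dvd_of_eq (pow_one f)))
  let a : Ideal (Th f 0) := Ideal.span (Set.range (gbar f g))
  haveI : IsNoetherianRing (Th f 0) := inferInstance
  have key : ∀ i, (Module.Finite A (LocCoh.H (maximalIdeal A) i (A ⧸ Ideal.span {f})) →
      Module.Finite (Th f 0) (LocCoh.H a i (Th f 0))) ∧
      (Subsingleton (LocCoh.H (maximalIdeal A) i (A ⧸ Ideal.span {f})) → Subsingleton (LocCoh.H a i (Th f 0))) := by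
    intro i
    by_cases ha : a = ⊤
    · rw [ha]
      haveI : Subsingleton (LocCoh.H (⊤ : Ideal (Th f 0)) i (Th f 0)) := subsingleton_H_top i _
      exact ⟨fun _ => inferInstance, fun _ => inferInstance⟩
    have hrad : a.radical = ((maximalIdeal A).map π).radical := by
      apply le_antisymm
      · refine Ideal.radical_mono (Ideal.span_le.2 ?_)
        rintro _ ⟨j, rfl⟩
        refine Ideal.mem_map_of_mem π ((mem_maximalIdeal _).2 fun hu => ha ?_)
        exact Ideal.eq_top_of_isUnit_mem _ (Ideal.subset_span ⟨j, rfl⟩) (hu.map π)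
      · refine Ideal.radical_le_radical_iff.2 ?_
        rw [Ideal.radical_eq_sInf]
        refine le_sInf fun P hP => ?_
        haveI := hP.2
        rw [Ideal.map_le_iff_le_comap]
        by_contra hle
        obtain ⟨j, hj⟩ := hg ⟨P.comap π, inferInstance⟩ (fun e => hle e.ge)
          (by show π f ∈ P; rw [hπf]; exact P.zero_mem)
        exact hj (hP.1 (Ideal.subset_span ⟨j, rfl⟩))
    obtain ⟨φ, hφ⟩ := exists_indep (R := A) (R' := Th f 0) (maximalIdeal A) (Th f 0) i
    let er : LocCoh.H a i (Th f 0) ≃ₗ[Th f 0] LocCoh.H ((maximalIdeal A).map π) i (Th f 0) :=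
      radicalEquiv hrad i (ModuleCat.of (Th f 0) (Th f 0))
    let ef : LocCoh.H (maximalIdeal A) i (Th f 0) ≃ₗ[A] LocCoh.H (maximalIdeal A) i (A ⧸ Ideal.span {f}) :=
      ((localCohomology (maximalIdeal A) i).mapIso
        (Submodule.quotEquivOfEq _ _ (show Ideal.span {f ^ (0 + 1)} = Ideal.span {f} by rw [pow_one])).toModuleIso).toLinearEquiv
    constructor
    · intro hfin
      haveI := hfin
      haveI : Module.Finite A (LocCoh.H (maximalIdeal A) i (Th f 0)) := Module.Finite.equiv ef.symm
      obtain ⟨s, hs⟩ := (Module.finite_def.1 (inferInstance : Module.Finite A (LocCoh.H (maximalIdeal A) i (Th f 0))) :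
        (⊤ : Submodule A (LocCoh.H (maximalIdeal A) i (Th f 0))).FG)
      classical
      haveI : Module.Finite (Th f 0) (LocCoh.H ((maximalIdeal A).map π) i (Th f 0)) := by
        refine ⟨⟨s.image φ.symm, eq_top_iff.2 fun x _ => ?_⟩⟩
        have hx : φ x ∈ Submodule.span A (s : Set (LocCoh.H (maximalIdeal A) i (Th f 0))) := hs ▸ Submodule.mem_top
        rw [← φ.symm_apply_apply x]
        generalize φ x = y₀ at hx
        induction hx using Submodule.span_induction with
        | mem y hy => exact Submodule.subset_span (Finset.mem_image_of_mem φ.symm hy)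
        | zero => rw [map_zero]; exact zero_mem _
        | add y z _ _ hy hz => rw [map_add]; exact add_mem hy hz
        | smul r y _ hy =>
          have h1 : φ.symm (r • y) = π r • φ.symm y := φ.injective (by
            rw [φ.apply_symm_apply]
            exact ((hφ r (φ.symm y)).trans (by rw [φ.apply_symm_apply])).symm)
          rw [h1]; exact Submodule.smul_mem _ _ hy
      exact Module.Finite.equiv er.symm
    · intro hs
      haveI := hs
      haveI : Subsingleton (LocCoh.H (maximalIdeal A) i (Th f 0)) := ef.toEquiv.subsingleton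
      haveI : Subsingleton (LocCoh.H ((maximalIdeal A).map π) i (Th f 0)) := φ.toEquiv.subsingleton
      exact er.toEquiv.subsingleton
  exact ⟨h2Vanish_of (Cech.h2_of_subsingleton ((key 3).2 h₃)),
    finite_ker_one_of (Cech.finite_ker_d0L ((key 1).1 h₁)), noetherian_H1_one_of (Cech.finite_H1 ((key 2).1 h₂))⟩

end Groth.Agent.PicLiftLib
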