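import Groth.Agent.PicLiftLib.Data

/-!
# The module of sections of a cocycle on the hypersurface
-/

set_option autoImplicit false
set_option linter.style.haveILetI false
set_option linter.unusedSectionVars false

universe u

open Groth.Agent.ParaFLiftLib

namespace Groth.Agent.PicLiftLib

variable {A : Type u} [CommRing A] {f : A} {ι : Type} {g : ι → A}

theorem algebraMap_pi_smul (a : A) (s : ∀ i, O1 f g 0 i) : algebraMap A (Th f 0) a • s = a • s :=
  funext fun i => algebraMap_smul (Th f 0) a (s i)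

/-- The sections of a cocycle on the hypersurface as a module over its ring. -/
noncomputable def secMod (u : ∀ i j, O2 f g 0 i j) : Submodule (Th f 0) (∀ i, O1 f g 0 i) where
  carrier := {s | IsSec u s}
  add_mem' {a b} ha hb := dif_eq_zero_iff.1 (by rw [map_add, dif_eq_zero_iff.2 ha, dif_eq_zero_iff.2 hb, add_zero])
  zero_mem' := dif_eq_zero_iff.1 (map_zero _)
  smul_mem' c a ha := by
    obtain ⟨c, rfl⟩ := Ideal.Quotient.mk_surjective c
    refine dif_eq_zero_iff.1 ?_
    rw [show Ideal.Quotient.mk _ c • a = c • a from algebraMap_pi_smul c a, map_smul, dif_eq_zero_iff.2 ha, smul_zero]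

theorem finite_secMod {u : ∀ i j, O2 f g 0 i j} (h : Module.Finite A (LinearMap.ker (dif u))) :
    Module.Finite (Th f 0) (secMod u) := by
  haveI := h
  let e : LinearMap.ker (dif u) →ₗ[A] secMod u :=
    { toFun := fun s => ⟨s.1, dif_eq_zero_iff.1 (LinearMap.mem_ker.1 s.2)⟩
      map_add' := fun _ _ => rfl
      map_smul' := fun _ _ => rfl }
  haveI : Module.Finite A (secMod u) := Module.Finite.of_surjective e fun s =>
    ⟨⟨s.1, LinearMap.mem_ker.2 (dif_eq_zero_iff.2 s.2)⟩, rfl⟩
  exact Module.Finite.of_restrictScalars_finite A (Th f 0) _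

variable [Finite ι] [IsNoetherianRing A]

/-- A section which is a unit on one open generates there. -/
theorem exists_gen_secMod {u : ∀ i j, O2 f g 0 i j} [Module.Finite (Th f 0) (secMod u)] {i : ι} (σ : secMod u)
    (hσ : IsUnit (σ.1 i)) : ∃ e : ℕ,
      (∀ z : secMod u, ∃ a : Th f 0, algebraMap A (Th f 0) (g i ^ e) • z = a • σ) ∧
      ∀ a : Th f 0, a • σ = 0 → algebraMap A (Th f 0) (g i ^ e) * a = 0 := by
  classical
  obtain ⟨inv, hinv⟩ := hσ.exists_left_inv
  have hrel : ∀ z : secMod u, ∃ (e : ℕ) (a : A),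
      algebraMap A (Th f 0) (g i ^ e) • z = algebraMap A (Th f 0) a • σ := fun z => by
    obtain ⟨c, m, hm⟩ := exists_mk 0 (g i) (z.1 i * inv)
    let d : ∀ j, O1 f g 0 j := g i ^ m • z.1 - c • σ.1
    have hd : IsSec u d := dif_eq_zero_iff.1 (by
      rw [map_sub, map_smul, map_smul, dif_eq_zero_iff.2 z.2, dif_eq_zero_iff.2 σ.2, smul_zero, smul_zero, sub_self])
    have hdi : d i = 0 := by
      show g i ^ m • z.1 i - c • σ.1 i = 0
      rw [Algebra.smul_def, Algebra.smul_def, ← hm]
      linear_combination -(algebraMap A (O1 f g 0 i) (g i ^ m) * z.1 i) * hinv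
    obtain ⟨e, he⟩ := Cech.exists_bound (P := fun j e => algebraMap A _ (g i ^ e) * d j = 0) fun j =>
      exists_kill (dvd_mul_right (g j) (g i)) (dvd_of_eq (mul_comm _ _)) (by rw [hd j i, hdi, map_zero, mul_zero])
    refine ⟨e + m, g i ^ e * c, Subtype.ext (funext fun j => sub_eq_zero.1 ?_)⟩
    show (algebraMap A (Th f 0) (g i ^ (e + m)) • z.1) j - (algebraMap A (Th f 0) (g i ^ e * c) • σ.1) j = 0
    rw [algebraMap_pi_smul, algebraMap_pi_smul, Pi.smul_apply, Pi.smul_apply, pow_add (g i), mul_smul, mul_smul, ← smul_sub,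
      Algebra.smul_def]
    exact he e le_rfl j
  choose e a ha using hrel
  have hann : ∀ a : Th f 0, a • σ = 0 → ∃ k : ℕ, algebraMap A (Th f 0) (g i ^ k) * a = 0 := fun a ha => by
    obtain ⟨a, rfl⟩ := Ideal.Quotient.mk_surjective a
    have h : Ideal.Quotient.mk _ a • σ.1 = 0 := congrArg Subtype.val ha
    have h1 := congrFun ((algebraMap_pi_smul a σ.1).symm.trans h) i
    rw [Pi.smul_apply, Pi.zero_apply, Algebra.smul_def] at h1
    obtain ⟨k, hk⟩ := algebraMap_eq_zero_iff.1 (hσ.mul_left_eq_zero.1 h1)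
    exact ⟨k, Ideal.Quotient.eq_zero_iff_mem.2 (Ideal.mem_span_singleton.2 hk)⟩
  choose K hK using hann
  obtain ⟨G, hG⟩ := (Module.finite_def.1 (inferInstance : Module.Finite (Th f 0) (secMod u)) :
    (⊤ : Submodule (Th f 0) (secMod u)).FG)
  obtain ⟨J, hJ⟩ := (IsNoetherian.noetherian (LinearMap.ker (LinearMap.toSpanSingleton (Th f 0) (secMod u) σ)) :
    Submodule.FG _)
  have hJm : ∀ x ∈ J, x • σ = 0 := fun x hx =>
    (hJ ▸ Submodule.subset_span hx : x ∈ LinearMap.ker (LinearMap.toSpanSingleton (Th f 0) (secMod u) σ))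
  let E := G.sup e + J.attach.sup fun x => K x.1 (hJm x.1 x.2)
  refine ⟨E, fun z => ?_, fun b hb => ?_⟩
  · induction (hG.ge (Submodule.mem_top : z ∈ ⊤)) using Submodule.span_induction with
    | mem x hx =>
      obtain ⟨d, hd⟩ := Nat.exists_eq_add_of_le (le_trans (Finset.le_sup (f := e) hx) (Nat.le_add_right _ _) : e x ≤ E)
      exact ⟨algebraMap A (Th f 0) (g i ^ d * a x), by
        rw [hd, add_comm (e x) d, pow_add (g i), map_mul, map_mul, mul_smul, mul_smul, ha]⟩
    | zero => exact ⟨0, by rw [smul_zero, zero_smul]⟩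
    | add x y _ _ hx hy =>
      obtain ⟨x', hx'⟩ := hx
      obtain ⟨y', hy'⟩ := hy
      exact ⟨x' + y', by rw [smul_add, hx', hy', add_smul]⟩
    | smul r x _ hx =>
      obtain ⟨x', hx'⟩ := hx
      exact ⟨r * x', by rw [smul_comm, hx', mul_smul]⟩
  · have hb' : b ∈ Submodule.span (Th f 0) (J : Set (Th f 0)) := hJ.ge (LinearMap.mem_ker.2 hb)
    clear hb
    induction hb' using Submodule.span_induction with
    | mem x hx =>
      obtain ⟨d, hd⟩ := Nat.exists_eq_add_of_le (le_trans
        (Finset.le_sup (f := fun t => K t.1 (hJm t.1 t.2)) (Finset.mem_attach _ ⟨x, hx⟩)) (Nat.le_add_left _ _) :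
        K x (hJm x hx) ≤ E)
      rw [hd, add_comm (K x _) d, pow_add (g i), map_mul, mul_assoc, hK, mul_zero]
    | zero => rw [mul_zero]
    | add x y _ _ hx hy => rw [mul_add, hx, hy, add_zero]
    | smul r x _ hx => rw [smul_eq_mul, mul_left_comm, hx, mul_zero]

end Groth.Agent.PicLiftLib
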