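import Groth.Agent.PicLiftLib.Cochain
import Groth.Agent.AdicLemmas.Basic

/-!
# Compatible sections along a tower of thickenings
-/

set_option autoImplicit false
set_option linter.style.haveILetI false
set_option linter.unusedSectionVars false

universe u

namespace Groth.Agent.PicLiftLib

variable {A : Type u} [CommRing A] {f : A} {ι : Type} {g : ι → A}

/-- Restriction of `0`-cochains to a thinner thickening. -/
noncomputable def down0 {n m : ℕ} (h : m ≤ n) : (∀ i, O1 f g n i) →ₗ[A] (∀ i, O1 f g m i) :=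
  LinearMap.pi fun i => (down h).toLinearMap ∘ₗ LinearMap.proj i

theorem down0_apply {n m : ℕ} (h : m ≤ n) (t : ∀ i, O1 f g n i) (i : ι) : down0 h t i = down h (t i) := rfl

section

variable [Fact (IsSMulRegular A f)]

theorem mu_congr {n m k k' : ℕ} (hk : k = k') (hm : n + k = m) (hm' : n + k' = m) {x : A} (z : L f n x) :
    mu k hm x z = mu k' hm' x z := by subst hk; rfl

/-- The top layer in degree one. -/
noncomputable def top2 (n : ℕ) : (∀ i j, O2 f g 0 i j) →ₗ[A] (∀ i j, O2 f g (n + 1) i j) :=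
  LinearMap.pi fun i => LinearMap.pi fun j => top n (g i * g j) ∘ₗ LinearMap.proj j ∘ₗ LinearMap.proj i

theorem top2_apply (n : ℕ) (z : ∀ i j, O2 f g 0 i j) (i j : ι) : top2 n z i j = top n _ (z i j) := rfl

namespace Tower

variable (T : Tower f g)

theorem dif_mu {n m k : ℕ} (hm : n + k = m) (t : ∀ i, O1 f g n i) (i j : ι) :
    dif (T.v m) (fun i => mu k hm (g i) (t i)) i j = mu k hm (g i * g j) (dif (T.v n) t i j) := by
  rw [dif_apply, dif_apply, map_sub, ← T.down_eq (le_of_add hm) i j, down, mu_mul]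
  simp only [res]
  rw [mp_mu hm hm (le_refl m) (le_refl n), mp_mu hm hm (le_refl m) (le_refl n)]

theorem down_dif {n m : ℕ} (h : m ≤ n) (t : ∀ i, O1 f g n i) (i j : ι) :
    down h (dif (T.v n) t i j) = dif (T.v m) (down0 h t) i j := by
  simp only [dif_apply, map_sub, map_mul, down_res, T.down_eq h, down0_apply]

/-- Obstructions to lifting from the `n`-th thickening. -/
noncomputable def Obs (n : ℕ) : Submodule A (∀ i j, O2 f g 0 i j) :=
  (LinearMap.range (dif (T.v (n + 1)))).comap (top2 n)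

theorem range_le_obs (n : ℕ) : LinearMap.range (dif (T.v 0)) ≤ T.Obs n := by
  rintro _ ⟨t, rfl⟩
  exact ⟨fun i => top n (g i) (t i), funext₂ fun i j => T.dif_mu _ t i j⟩

theorem obs_le_Z1 (n : ℕ) : T.Obs n ≤ Z1 (T.v 0) := by
  rintro z ⟨t, ht⟩
  refine LinearMap.mem_ker.2 (funext fun i => funext₂ fun j k => ?_)
  refine top_injective n _ ?_
  have h := congrFun (congrFun (congrFun (dif1_dif (T.coc (n + 1)) t) i) j) k
  rw [ht, dif1_apply] at h
  simp only [top2_apply, res_top, mul_top, down_res, Pi.zero_apply, T.down_eq (Nat.zero_le (n + 1))] at h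
  rw [dif1_apply, map_sub, map_add, Pi.zero_apply, Pi.zero_apply, Pi.zero_apply, map_zero]
  exact h

theorem obs_succ (n : ℕ) : T.Obs n ≤ T.Obs (n + 1) := by
  rintro z ⟨t, ht⟩
  refine ⟨fun i => mu 1 rfl (g i) (t i), funext₂ fun i j => ?_⟩
  rw [T.dif_mu, ht, top2_apply, top2_apply]
  exact (mu_mu (n + 1) 1 _ _ _ _).trans rfl

theorem obs_mono : Monotone T.Obs := monotone_nat_of_le_succ T.obs_succ

theorem exists_stable (hZ : IsNoetherian A (Z1 (T.v 0) ⧸ B1 (T.v 0))) : ∃ N, ∀ n, N ≤ n → T.Obs n ≤ T.Obs N := by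
  let c : ℕ →o Submodule A (Z1 (T.v 0) ⧸ B1 (T.v 0)) :=
    ⟨fun n => ((T.Obs n).comap (Z1 (T.v 0)).subtype).map (B1 (T.v 0)).mkQ,
      fun a b hab => Submodule.map_mono (Submodule.comap_mono (T.obs_mono hab))⟩
  obtain ⟨N, hN⟩ := monotone_stabilizes_iff_noetherian.2 hZ c
  refine ⟨N, fun n hn z hz => ?_⟩
  have h1 : (⟨z, T.obs_le_Z1 n hz⟩ : Z1 (T.v 0)) ∈ (c n).comap (B1 (T.v 0)).mkQ := ⟨_, hz, rfl⟩
  rw [← hN n hn] at h1
  change _ ∈ Submodule.comap _ (Submodule.map _ _) at h1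
  rw [Submodule.comap_map_mkQ, sup_eq_right.2 (fun w hw => T.range_le_obs N hw)] at h1
  exact h1

theorem exists_lift {N : ℕ} (hN : ∀ n, N ≤ n → T.Obs n ≤ T.Obs N) {n : ℕ} (hn : N ≤ n) {s : ∀ i, O1 f g n i}
    (hs : IsSec (T.v n) s) : ∃ s' : ∀ i, O1 f g (n + 1) i, IsSec (T.v (n + 1)) s' ∧
      ∀ m (hm : m ≤ n), m + N < n → ∀ i, down (hm.trans (Nat.le_succ n)) (s' i) = down hm (s i) := by
  choose t ht using fun i => mp_surjective (Nat.le_succ n) (g i) (s i)
  have ht' : down0 (Nat.le_succ n) t = s := funext ht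
  choose z hz using fun i j => exists_top (n := n) (z := dif (T.v (n + 1)) t i j) (by
    rw [T.down_dif, ht', dif_eq_zero_iff.2 hs]; rfl)
  obtain ⟨t', ht''⟩ : z ∈ T.Obs N := hN n hn ⟨t, funext₂ fun i j => (hz i j).symm⟩
  have hk : N + 1 + (n - N) = n + 1 := by omega
  refine ⟨fun i => t i - mu (n - N) hk (g i) (t' i), dif_eq_zero_iff.1 ?_, fun m hm hlt i => ?_⟩
  · rw [show (fun i => t i - mu (n - N) hk (g i) (t' i)) = t - fun i => mu (n - N) hk (g i) (t' i) from rfl, map_sub,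
      sub_eq_zero]
    funext i j
    rw [T.dif_mu, ht'', top2_apply, ← hz i j]
    refine Eq.symm ((mu_mu (N + 1) (n - N) _ _ _ _).trans ?_)
    exact mu_congr (by omega) _ _ _
  · rw [map_sub, show down (hm.trans (Nat.le_succ n)) (mu (n - N) hk (g i) (t' i)) = 0 from
      mp_mu_eq_zero _ _ (by omega) _ _, sub_zero, ← down_down (Nat.le_succ n) hm]
    exact congrArg _ (ht i)

/-- Compatible sections on all thickenings. -/
noncomputable def lim : Submodule A (∀ n i, O1 f g n i) where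
  carrier := {s | (∀ n, IsSec (T.v n) (s n)) ∧ ∀ n i, down (Nat.le_succ n) (s (n + 1) i) = s n i}
  add_mem' {a b} ha hb := ⟨fun n => dif_eq_zero_iff.1 (by
      rw [Pi.add_apply, map_add, dif_eq_zero_iff.2 (ha.1 n), dif_eq_zero_iff.2 (hb.1 n), add_zero]),
    fun n i => by simp only [Pi.add_apply, map_add, ha.2, hb.2]⟩
  zero_mem' := ⟨fun n => dif_eq_zero_iff.1 (map_zero _), fun n i => map_zero _⟩
  smul_mem' c a ha := ⟨fun n => dif_eq_zero_iff.1 (by
      rw [Pi.smul_apply, map_smul, dif_eq_zero_iff.2 (ha.1 n), smul_zero]),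
    fun n i => by simp only [Pi.smul_apply, map_smul, ha.2]⟩

theorem lim_down_eq {s : ∀ n i, O1 f g n i} (hs : s ∈ T.lim) {m n : ℕ} (h : m ≤ n) (i : ι) :
    down h (s n i) = s m i := by
  induction n, h using Nat.le_induction with
  | base => exact mp_self _
  | succ n hmn ih => rw [← down_down (Nat.le_succ n) hmn, hs.2, ih]

theorem exists_extend {N : ℕ} (hN : ∀ n, N ≤ n → T.Obs n ≤ T.Obs N) {s : ∀ i, O1 f g (N + 1) i}
    (hs : IsSec (T.v (N + 1)) s) : ∃ S ∈ T.lim, ∀ i, S 0 i = down (Nat.zero_le _) (s i) := by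
  classical
  choose nxt hnxt hag using fun p (s : {s : ∀ i, O1 f g (N + 1 + p) i // IsSec (T.v (N + 1 + p)) s}) =>
    T.exists_lift hN (le_add_right (Nat.le_succ N)) s.2
  let seq : ∀ p, {s : ∀ i, O1 f g (N + 1 + p) i // IsSec (T.v (N + 1 + p)) s} := fun p =>
    Nat.rec ⟨s, hs⟩ (fun p s => ⟨nxt p s, hnxt p s⟩) p
  refine ⟨fun m => down0 (Nat.le_add_left m (N + 1)) (seq m).1, ⟨fun m => dif_eq_zero_iff.1 ?_, fun m i => ?_⟩,
    fun i => rfl⟩
  · funext i j
    rw [← T.down_dif, dif_eq_zero_iff.2 (seq m).2]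
    exact map_zero _
  · simp only [down0_apply, down_down]
    exact hag m (seq m) m (Nat.le_add_left m (N + 1)) (by omega) i

theorem exists_eq_smul {s : ∀ n i, O1 f g n i} (hs : s ∈ T.lim) (h0 : ∀ i, s 0 i = 0) :
    ∃ w ∈ T.lim, s = f • w := by
  choose w hw using fun n i => exists_mu (n := n) (m := n + 1) (j := 0) 1 rfl rfl (Nat.zero_le _)
    (z := s (n + 1) i) (show down _ _ = 0 by rw [T.lim_down_eq hs, h0])
  refine ⟨w, ⟨fun n => dif_eq_zero_iff.1 (funext₂ fun i j => ?_), fun n i => ?_⟩, funext₂ fun n i => ?_⟩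
  · refine mu_injective 1 (rfl : n + 1 = n + 1) _ ?_
    rw [← T.dif_mu, Pi.zero_apply, Pi.zero_apply, map_zero, funext (hw n), dif_eq_zero_iff.2 (hs.1 (n + 1))]
    rfl
  · refine mu_injective 1 (rfl : n + 1 = n + 1) _ ?_
    rw [hw, ← hs.2 (n + 1) i, ← hw (n + 1) i]
    exact (mp_mu _ _ _ _ _ _).symm
  · obtain ⟨z, hz⟩ := mp_surjective (le_of_add (rfl : n + 1 = n + 1)) (g i) (w n i)
    have h := hw n i
    rw [← hz, mu_mp, pow_one] at h
    rw [← hs.2 n i, ← h, map_smul]
    exact congrArg (f • ·) hz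

theorem isHausdorff_lim : IsHausdorff (Ideal.span {f}) T.lim := by
  refine ⟨fun s hs => Subtype.ext (funext₂ fun n i => ?_)⟩
  have h := SModEq.zero.1 (hs (n + 1))
  rw [Ideal.span_singleton_pow, Submodule.ideal_span_singleton_smul] at h
  obtain ⟨w, -, rfl⟩ := Submodule.mem_smul_pointwise_iff_exists _ _ _ |>.1 h
  show f ^ (n + 1) • w.1 n i = 0
  rw [Algebra.smul_def, pow_eq_zero n (Nat.lt_succ_self n), zero_mul]

/-- Evaluation on the hypersurface. -/
noncomputable def eval0 : T.lim →ₗ[A] LinearMap.ker (dif (T.v 0)) where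
  toFun s := ⟨s.1 0, LinearMap.mem_ker.2 (dif_eq_zero_iff.2 (s.2.1 0))⟩
  map_add' s t := rfl
  map_smul' c s := rfl

theorem finite_lim [IsNoetherianRing A] [IsAdicComplete (Ideal.span {f}) A]
    (h0 : Module.Finite A (LinearMap.ker (dif (T.v 0)))) : Module.Finite A T.lim := by
  haveI := T.isHausdorff_lim
  refine AdicLemmas.module_finite_of_quotient_finite (Ideal.span {f}) _ ?_
  have e : LinearMap.ker T.eval0 = Ideal.span {f} • (⊤ : Submodule A T.lim) := by
    apply le_antisymm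
    · intro s hs
      obtain ⟨w, hw, hsw⟩ := T.exists_eq_smul s.2 fun i => congrFun (congrArg Subtype.val (LinearMap.mem_ker.1 hs)) i
      rw [show s = f • (⟨w, hw⟩ : T.lim) from Subtype.ext hsw]
      exact Submodule.smul_mem_smul (Ideal.mem_span_singleton_self f) Submodule.mem_top
    · rw [Submodule.ideal_span_singleton_smul]
      intro s hs
      obtain ⟨w, -, rfl⟩ := (Submodule.mem_smul_pointwise_iff_exists _ _ _).1 hs
      refine LinearMap.mem_ker.2 (Subtype.ext (funext fun i => ?_))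
      show f • w.1 0 i = 0
      have h1 := pow_eq_zero (f := f) 0 (m := 1) Nat.one_pos (g i)
      simp only [map_pow, pow_one] at h1
      rw [Algebra.smul_def, h1, zero_mul]
  rw [← e]
  haveI : IsNoetherian A (LinearMap.ker (dif (T.v 0))) := isNoetherian_of_isNoetherianRing_of_finite A _
  exact Module.Finite.equiv T.eval0.quotKerEquivRange.symm

variable [Finite ι]

/-- A compatible section which is a power of the equation on one open. -/
theorem exists_gen {N : ℕ} (hN : ∀ n, N ≤ n → T.Obs n ≤ T.Obs N) (i : ι) :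
    ∃ (S : T.lim) (K : ℕ), S.1 0 i = algebraMap A _ (g i ^ K) := by
  obtain ⟨s, K, hs, hi⟩ := exists_sec (T.isUnit (N + 1)) (T.coc (N + 1)) i
  obtain ⟨S, hS, h⟩ := T.exists_extend hN hs
  exact ⟨⟨S, hS⟩, K, by show S 0 i = _; rw [h, hi, AlgHom.commutes]⟩

/-- Up to powers of the equation and the hypersurface, one section generates. -/
theorem exists_rel {i : ι} {S : T.lim} {K : ℕ} (hS : S.1 0 i = algebraMap A _ (g i ^ K)) (z : T.lim) :
    ∃ (e : ℕ) (a : A) (w : T.lim), g i ^ e • z = a • S + f • w := by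
  obtain ⟨c, m, hm⟩ := exists_mk 0 (g i) (z.1 0 i)
  let d : T.lim := g i ^ (K + m) • z - c • S
  have hdi : d.1 0 i = 0 := by
    show g i ^ (K + m) • z.1 0 i - c • S.1 0 i = 0
    rw [Algebra.smul_def, Algebra.smul_def, hS, pow_add (g i), map_mul, ← hm]
    ring
  obtain ⟨e, he⟩ := Cech.exists_bound (P := fun j e => algebraMap A _ (g i ^ e) * d.1 0 j = 0) fun j =>
    exists_kill (dvd_mul_right (g j) (g i)) (dvd_of_eq (mul_comm _ _)) (by
      rw [d.2.1 0 j i, hdi, map_zero, mul_zero])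
  obtain ⟨w, hw, hdw⟩ := T.exists_eq_smul (g i ^ e • d).2 fun j => (Algebra.smul_def _ _).trans (he e le_rfl j)
  refine ⟨e + (K + m), g i ^ e * c, ⟨w, hw⟩, Subtype.ext ?_⟩
  have h : g i ^ e • (g i ^ (K + m) • z.1 - c • S.1) = f • w := hdw
  show g i ^ (e + (K + m)) • z.1 = (g i ^ e * c) • S.1 + f • w
  rw [← h, smul_sub, pow_add, mul_smul, mul_smul, add_sub_cancel]

theorem isUnit_sec {i : ι} {S : T.lim} {K : ℕ} (hS : S.1 0 i = algebraMap A _ (g i ^ K)) (n : ℕ) :
    IsUnit (S.1 n i) := by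
  induction n with
  | zero => rw [hS, map_pow]; exact (isUnit_algebraMap 0 (g i)).pow K
  | succ n ih => exact isUnit_of_down (by rw [S.2.2 n i]; exact ih)

end Tower

end

end Groth.Agent.PicLiftLib
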