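import Groth.Agent.PicLiftLib.Extend
import Groth.Agent.PicLiftLib.Main
import Groth.Agent.AmpleLib.Pullback

/-!
# Surjectivity of restriction of Picard groups to a hypersurface of the punctured spectrum
-/

set_option autoImplicit false
set_option linter.style.haveILetI false
set_option linter.unusedSectionVars false
set_option backward.isDefEq.respectTransparency false

universe u

open IsLocalRing CategoryTheory CategoryTheory.Limits AlgebraicGeometry TopologicalSpace Groth.Agent.ParaFLib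
  Groth.Agent.ParaFLiftLib

namespace Groth.Agent.PicLiftLib

theorem surjective_of_iso_comp {X Y Z : Scheme.{u}} (a : X ⟶ Y) [IsIso a] (b : Y ⟶ Z)
    (h : Formal2.PicPullbackSurjective (a ≫ b)) : Formal2.PicPullbackSurjective b := by
  intro L hL
  obtain ⟨M, hM, ⟨φ⟩⟩ := h _ (AmpleLib.isInvertible_pullback a hL)
  exact ⟨M, hM, ⟨(Scheme.Modules.pullbackCongr (IsIso.inv_hom_id_assoc a b).symm).app M ≪≫
    ((Scheme.Modules.pullbackComp (inv a) (a ≫ b)).app M).symm ≪≫ (Scheme.Modules.pullback (inv a)).mapIso φ ≪≫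
    (Scheme.Modules.pullbackComp (inv a) a).app L ≪≫
    (Scheme.Modules.pullbackCongr (IsIso.inv_hom_id a)).app L ≪≫ (Scheme.Modules.pullbackId Y).app L⟩⟩

variable {A : Type u} [CommRing A] [IsNoetherianRing A] [IsLocalRing A] {f : A}

/-- Depth four of the hypersurface gives the lifting hypotheses on its punctured spectrum. -/
theorem liftHyp_of_depth [IsLocalRing (Th f 0)] (hd : (4 : ℕ∞) ≤ LocCoh.depth (Th f 0) (Th f 0)) :
    LiftHyp f {p : PrimeSpectrum A | p ∈ FEt.puncturedSpec A} := by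
  intro n g hg
  let π : A →+* Th f 0 := algebraMap A (Th f 0)
  have hπ : Function.Surjective π := Ideal.Quotient.mk_surjective
  obtain ⟨-, h0, h1, h2⟩ := cech_of_depth (g := g) hd fun P hP => by
    have hf : π f ∈ P.asIdeal := by
      rw [show π f = 0 from Ideal.Quotient.eq_zero_iff_mem.2 (Ideal.mem_span_singleton.2 (dvd_of_eq (pow_one f)))]
      exact P.asIdeal.zero_mem
    obtain ⟨i, hi⟩ := hg ⟨P.asIdeal.comap π, inferInstance⟩ (fun e => hP (by
      have e' : P.asIdeal.comap π = maximalIdeal A := congrArg PrimeSpectrum.asIdeal e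
      rw [← Ideal.map_comap_of_surjective π hπ P.asIdeal, e',
        ← IsLocalRing.eq_maximalIdeal (Ideal.comap_isMaximal_of_surjective π hπ (K := maximalIdeal (Th f 0))),
        Ideal.map_comap_of_surjective π hπ])) hf
    exact ⟨i, hi⟩
  exact ⟨h2Vanish_of h2, finite_ker_one h0, noetherian_H1_one h1⟩

/-- The primes between `q` and the maximal ideal, when only the maximal ideal lies above `q`. -/
theorem ringKrullDim_quotient_eq_one {q : Ideal A} [q.IsPrime] (hq : q ≠ maximalIdeal A)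
    (h : ∀ q' : Ideal A, q'.IsPrime → q < q' → q' = maximalIdeal A) : ringKrullDim (A ⧸ q) = 1 := by
  let π := Ideal.Quotient.mk q
  haveI : Nontrivial (A ⧸ q) := Ideal.Quotient.nontrivial_iff.2 (Ideal.IsPrime.ne_top ‹_›)
  have hcomap : ∀ x : PrimeSpectrum (A ⧸ q), q ≤ x.asIdeal.comap π := fun x r hr => by
    show π r ∈ x.asIdeal
    rw [Ideal.Quotient.eq_zero_iff_mem.2 hr]; exact x.asIdeal.zero_mem
  refine le_antisymm (Order.krullDim_le_one_iff.2 fun x => ?_) ?_
  · by_contra hx
    push Not at hx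
    obtain ⟨y, hy⟩ := not_isMin_iff.1 hx.1
    obtain ⟨z, hz⟩ := not_isMax_iff.1 hx.2
    have hqx : q < x.asIdeal.comap π := lt_of_le_of_lt (hcomap y) (comap_lt π Ideal.Quotient.mk_surjective hy)
    have hlt := comap_lt π Ideal.Quotient.mk_surjective (show x.asIdeal < z.asIdeal from hz)
    rw [h _ inferInstance hqx] at hlt
    exact hlt.not_ge (le_maximalIdeal (Ideal.IsPrime.ne_top inferInstance))
  · refine Order.one_le_krullDim_iff.2 ?_
    haveI : (maximalIdeal A).IsPrime := inferInstance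
    have hle : q ≤ maximalIdeal A := le_maximalIdeal (Ideal.IsPrime.ne_top ‹_›)
    haveI : ((maximalIdeal A).map π).IsPrime := Ideal.map_isPrime_of_surjective Ideal.Quotient.mk_surjective (by
      rw [Ideal.mk_ker]; exact hle)
    haveI : IsDomain (A ⧸ q) := Ideal.Quotient.isDomain q
    refine ⟨⟨⊥, Ideal.isPrime_bot⟩, ⟨(maximalIdeal A).map π, inferInstance⟩, ?_⟩
    show (⊥ : Ideal (A ⧸ q)) < _
    exact bot_lt_iff_ne_bot.2 fun e => hq (le_antisymm hle fun r hr => Ideal.Quotient.eq_zero_iff_mem.1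
      ((Submodule.mem_bot _).1 ((show (maximalIdeal A).map π = ⊥ from e) ▸ Ideal.mem_map_of_mem π hr)))

/-- **Surjectivity on Picard groups.** -/
theorem picPullbackSurjective_incl [Fact (IsSMulRegular A f)] [IsAdicComplete (Ideal.span {f}) A] (hf : f ∈ maximalIdeal A)
    (hH : LiftHyp f {p : PrimeSpectrum A | p ∈ FEt.puncturedSpec A})
    (hpar : ∀ (q : Ideal A) [q.IsPrime], f ∉ q → q ≠ maximalIdeal A →
      (∀ q' : Ideal A, q'.IsPrime → q < q' → q' = maximalIdeal A) → ParaF.IsParafactorialLocalRing (Localization.AtPrime q)) :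
    Formal2.PicPullbackSurjective (incl f ∣_ FEt.puncturedSpec A) := by
  intro L₀ hL₀
  let U := FEt.puncturedSpec A
  obtain ⟨U', hle, h, L', hL', ⟨φ₀⟩, hfU⟩ := exists_extension U hH L₀ hL₀
  let Y : Closeds (U : Scheme.{u}) := (U.ι ⁻¹ᵁ U').compl
  haveI : IsNoetherianRing (CommRingCat.of A) := inferInstanceAs (IsNoetherianRing A)
  haveI : IsLocallyNoetherian (U : Scheme.{u}) := isLocallyNoetherian_of_isOpenImmersion U.ι
  have hstalk : ∀ x : (U : Scheme.{u}), x ∈ Y → ParaF.IsParafactorialLocalRing ((U : Scheme.{u}).presheaf.stalk x) :=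
    fun x hx => by
    let p : PrimeSpectrum A := x.1
    have e : ((U : Scheme.{u}).presheaf.stalk x) ≃+* Localization.AtPrime p.asIdeal :=
      (U.stalkIso x).commRingCatIsoToRingEquiv.trans (StructureSheaf.stalkIso A p).symm.toRingEquiv
    refine parafactorial_of_ringEquiv e ?_
    have hpm : p.asIdeal ≠ maximalIdeal A := fun e => x.2 (PrimeSpectrum.ext e)
    have hpU : p ∉ U' := hx
    have hfp : f ∉ p.asIdeal := fun hf' => hpU (hfU p x.2 hf')
    refine hpar p.asIdeal hfp hpm fun q' hq' hlt => eq_maximalIdeal_of_lt hlt hf hfp fun P hP hlt' hfP => ?_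
    by_contra hPm
    exact hpU (((PrimeSpectrum.le_iff_specializes p ⟨P, hP⟩).1 hlt'.le).mem_open U'.isOpen
      (hfU ⟨P, hP⟩ (fun e => hPm (congrArg PrimeSpectrum.asIdeal e)) hfP))
  obtain ⟨-, hext⟩ := (ParaFLib.isParafactorialPair_iff Y).1 (isParafactorialPair_of_stalks hstalk)
  let j := (Spec (CommRingCat.of A)).homOfLE hle
  have hr : j.opensRange = (𝟙 (U : Scheme.{u})) ⁻¹ᵁ Y.compl := by
    rw [show Y.compl = U.ι ⁻¹ᵁ U' from Opens.compl_compl _, Scheme.opensRange_homOfLE]; rfl
  obtain ⟨L, hL, ⟨φ⟩⟩ := hext (𝟙 _) j hr L' hL'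
  refine ⟨L, hL, ?_⟩
  let k := (incl f).resLE U' (incl f ⁻¹ᵁ U) h
  have hk : k ≫ j = incl f ∣_ U := by
    rw [← cancel_mono U.ι, Category.assoc, Scheme.homOfLE_ι, Scheme.Hom.resLE_comp_ι, morphismRestrict_ι]
  exact ⟨(Scheme.Modules.pullbackCongr hk.symm).app L ≪≫ ((Scheme.Modules.pullbackComp k j).app L).symm ≪≫
    (Scheme.Modules.pullback k).mapIso (((Scheme.Modules.restrictFunctorIsoPullback j).app L).symm ≪≫ φ) ≪≫ φ₀⟩

theorem picPullbackSurjective_specQuot (h : Formal2.PicPullbackSurjective (incl f ∣_ FEt.puncturedSpec A)) :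
    Formal2.PicPullbackSurjective (Formal2.specQuotMap A f ∣_ FEt.puncturedSpec A) := by
  let e : A ⧸ Ideal.span {f} ≃+* Th f 0 := Ideal.quotEquivOfEq (by rw [pow_one])
  let j : Spec (CommRingCat.of (Th f 0)) ⟶ Spec (CommRingCat.of (A ⧸ Ideal.span {f})) :=
    Spec.map e.toCommRingCatIso.hom
  haveI : IsIso e.toCommRingCatIso.hom := inferInstance
  haveI : IsIso j := inferInstanceAs (IsIso (Spec.map e.toCommRingCatIso.hom))
  have hj : incl f = j ≫ Formal2.specQuotMap A f := by
    rw [incl, ← Spec.map_comp]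
    rfl
  rw [hj, morphismRestrict_comp] at h
  exact surjective_of_iso_comp _ _ h

end Groth.Agent.PicLiftLib
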