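import Groth.Agent.PicLiftLib.LocHyp
import Groth.Agent.PicLiftLib.Surj

/-!
# Extension over a neighbourhood, from local cohomology
-/

set_option autoImplicit false
set_option backward.isDefEq.respectTransparency false

universe u

open IsLocalRing CategoryTheory CategoryTheory.Limits AlgebraicGeometry TopologicalSpace Groth.Agent.ParaFLib
  Groth.Agent.ParaFLiftLib

namespace Groth.Agent.PicLiftLib

theorem nonempty_iso_of_pullback_iso {X Y : Scheme.{u}} (a : X ⟶ Y) [IsIso a] {M N : Y.Modules}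
    (φ : (Scheme.Modules.pullback a).obj M ≅ (Scheme.Modules.pullback a).obj N) : Nonempty (M ≅ N) :=
  ⟨((Scheme.Modules.pullbackId Y).app M).symm ≪≫ (Scheme.Modules.pullbackCongr (IsIso.inv_hom_id a).symm).app M ≪≫
    ((Scheme.Modules.pullbackComp (inv a) a).app M).symm ≪≫ (Scheme.Modules.pullback (inv a)).mapIso φ ≪≫
    (Scheme.Modules.pullbackComp (inv a) a).app N ≪≫ (Scheme.Modules.pullbackCongr (IsIso.inv_hom_id a)).app N ≪≫
    (Scheme.Modules.pullbackId Y).app N⟩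

theorem exists_extension_specQuot {A : Type u} [CommRing A] [IsNoetherianRing A] [IsLocalRing A] {f : A}
    [Fact (IsSMulRegular A f)] [IsAdicComplete (Ideal.span {f}) A]
    (hH : LiftHyp f {p : PrimeSpectrum A | p ∈ FEt.puncturedSpec A})
    (L₀ : (↑(Formal2.specQuotMap A f ⁻¹ᵁ FEt.puncturedSpec A) : Scheme.{u}).Modules)
    (hL₀ : PicF.IsInvertible L₀) :
    ∃ (U' : (Spec (CommRingCat.of A)).Opens) (_ : U' ≤ FEt.puncturedSpec A)
      (h : Formal2.specQuotMap A f ⁻¹ᵁ FEt.puncturedSpec A ≤ Formal2.specQuotMap A f ⁻¹ᵁ U')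
      (L : (↑U' : Scheme.{u}).Modules), PicF.IsInvertible L ∧
        Nonempty ((Scheme.Modules.pullback ((Formal2.specQuotMap A f).resLE U' _ h)).obj L ≅ L₀) ∧
        ∀ p : PrimeSpectrum A, p ∈ FEt.puncturedSpec A → f ∈ p.asIdeal → p ∈ U' := by
  let e : A ⧸ Ideal.span {f} ≃+* Th f 0 := Ideal.quotEquivOfEq (by rw [pow_one])
  let j : Spec (CommRingCat.of (Th f 0)) ⟶ Spec (CommRingCat.of (A ⧸ Ideal.span {f})) :=
    Spec.map e.toCommRingCatIso.hom
  let q := Formal2.specQuotMap A f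
  let U := FEt.puncturedSpec A
  haveI : IsIso e.toCommRingCatIso.hom := inferInstance
  haveI : IsIso j := inferInstanceAs (IsIso (Spec.map e.toCommRingCatIso.hom))
  have hj : incl f = j ≫ q := by
    rw [incl, ← Spec.map_comp]
    rfl
  have hpre : incl f ⁻¹ᵁ U = j ⁻¹ᵁ (q ⁻¹ᵁ U) := by rw [hj]; rfl
  let jU := j.resLE (q ⁻¹ᵁ U) (incl f ⁻¹ᵁ U) hpre.le
  haveI : IsIso jU := by
    have : jU = (Spec _).homOfLE hpre.le ≫ (j ∣_ (q ⁻¹ᵁ U)) := by
      rw [← cancel_mono (q ⁻¹ᵁ U).ι, Category.assoc, Scheme.Hom.resLE_comp_ι, morphismRestrict_ι, Scheme.homOfLE_ι_assoc]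
    rw [this]
    haveI : IsIso ((Spec (CommRingCat.of (Th f 0))).homOfLE hpre.le) :=
      ⟨(Spec _).homOfLE hpre.ge, by simp, by simp⟩
    infer_instance
  obtain ⟨U', hle, h, L, hL, ⟨φ⟩, hfU⟩ := exists_extension U hH _ (AmpleLib.isInvertible_pullback jU hL₀)
  have hq : q ⁻¹ᵁ U ≤ q ⁻¹ᵁ U' := fun x hx => by
    have hx' : (inv j) x ∈ incl f ⁻¹ᵁ U := by
      show incl f ((inv j) x) ∈ U
      rw [hj, ← Scheme.Hom.comp_apply, IsIso.inv_hom_id_assoc]
      exact hx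
    have := h hx'
    change incl f ((inv j) x) ∈ U' at this
    rw [hj, ← Scheme.Hom.comp_apply, IsIso.inv_hom_id_assoc] at this
    exact this
  refine ⟨U', hle, hq, L, hL, ?_, hfU⟩
  have hk : jU ≫ q.resLE U' (q ⁻¹ᵁ U) hq = (incl f).resLE U' (incl f ⁻¹ᵁ U) h := by
    rw [← cancel_mono U'.ι, Category.assoc, Scheme.Hom.resLE_comp_ι, Scheme.Hom.resLE_comp_ι_assoc,
      Scheme.Hom.resLE_comp_ι, hj]
  exact nonempty_iso_of_pullback_iso jU ((Scheme.Modules.pullbackComp jU _).app L ≪≫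
    (Scheme.Modules.pullbackCongr hk).app L ≪≫ φ)

theorem mem_puncturedSpec_iff {A : Type u} [CommRing A] [IsLocalRing A] (p : PrimeSpectrum A) :
    p ∈ FEt.puncturedSpec A ↔ p.asIdeal ≠ maximalIdeal A :=
  ⟨fun h e => h (PrimeSpectrum.ext e), fun h e => h (congrArg PrimeSpectrum.asIdeal e)⟩

theorem liftHyp_punctured {A : Type u} [CommRing A] [IsNoetherianRing A] [IsLocalRing A] {f : A}
    (h₁ : Module.Finite A (LocCoh.H (maximalIdeal A) 1 (A ⧸ Ideal.span {f})))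
    (h₂ : Module.Finite A (LocCoh.H (maximalIdeal A) 2 (A ⧸ Ideal.span {f})))
    (h₃ : Subsingleton (LocCoh.H (maximalIdeal A) 3 (A ⧸ Ideal.span {f}))) :
    LiftHyp f {p : PrimeSpectrum A | p ∈ FEt.puncturedSpec A} :=
  fun n g hg => liftHyp_of_locCoh h₁ h₂ h₃ n g fun p hp hfp => hg p ((mem_puncturedSpec_iff p).2 hp) hfp

end Groth.Agent.PicLiftLib
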