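import Groth.Agent.PicLiftLib.Loc

/-!
# Lifting a unit cocycle through the thickenings of a hypersurface
-/

set_option autoImplicit false
set_option linter.style.haveILetI false
set_option linter.unusedSectionVars false

universe u

namespace Groth.Agent.PicLiftLib

variable {A : Type u} [CommRing A] (f : A) {ι : Type} (g : ι → A)

/-- Functions on the opens of the cover. -/
abbrev O1 (n : ℕ) (i : ι) : Type u := L f n (g i)
/-- Functions on double intersections. -/
abbrev O2 (n : ℕ) (i j : ι) : Type u := L f n (g i * g j)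
/-- Functions on triple intersections. -/
abbrev O3 (n : ℕ) (i j k : ι) : Type u := L f n (g i * g j * g k)

variable {f g}

theorem dvd_snd (i j k : ι) : g j * g k ∣ g i * g j * g k := ⟨g i, by ring⟩
theorem dvd_mid (i j k : ι) : g i * g k ∣ g i * g j * g k := ⟨g j, by ring⟩

/-- Restriction to a smaller open. -/
noncomputable def res {n : ℕ} {x y : A} (h : x ∣ y) : L f n x →ₐ[A] L f n y := mp (le_refl n) h

/-- Restriction to a thinner thickening. -/
noncomputable def down {n m : ℕ} (h : m ≤ n) {x : A} : L f n x →ₐ[A] L f m x := mp h (dvd_refl x)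

theorem down_res {n m : ℕ} (h : m ≤ n) {x y : A} (hxy : x ∣ y) (z : L f n x) :
    down h (res hxy z) = res hxy (down h z) := by
  rw [down, res, down, res, mp_mp, mp_mp]

theorem down_down {n m l : ℕ} (h : m ≤ n) (h' : l ≤ m) {x : A} (z : L f n x) :
    down h' (down h z) = down (h'.trans h) z := mp_mp h h' _ _ z

theorem res_res {n : ℕ} {x y z : A} (h : x ∣ y) (h' : y ∣ z) (w : L f n x) :
    res h' (res h w) = res (h.trans h') w := mp_mp _ _ h h' w

/-- Sections with transition functions `v`. -/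
def IsSec {n : ℕ} (v : ∀ i j, O2 f g n i j) (s : ∀ i, O1 f g n i) : Prop :=
  ∀ i j, res (dvd_mul_right (g i) (g j)) (s i) = v i j * res (dvd_mul_left (g j) (g i)) (s j)

/-- The cocycle identity. -/
def IsCoc {n : ℕ} (v : ∀ i j, O2 f g n i j) : Prop :=
  ∀ i j k, res (dvd_mul_right (g i * g j) (g k)) (v i j) * res (dvd_snd i j k) (v j k) = res (dvd_mid i j k) (v i k)

/-- Vanishing of the second Čech cohomology of the hypersurface. -/
def H2Vanish (f : A) (g : ι → A) : Prop :=
  ∀ c : ∀ i j k, O3 f g 0 i j k,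
    (∀ i j k l, res (⟨g i, by ring⟩ : g j * g k * g l ∣ g i * g j * g k * g l) (c j k l)
        - res (⟨g j, by ring⟩ : g i * g k * g l ∣ g i * g j * g k * g l) (c i k l)
        + res (⟨g k, by ring⟩ : g i * g j * g l ∣ g i * g j * g k * g l) (c i j l)
        - res (dvd_mul_right (g i * g j * g k) (g l)) (c i j k) = 0) →
    ∃ b : ∀ i j, O2 f g 0 i j, ∀ i j k,
      c i j k = res (dvd_mul_right (g i * g j) (g k)) (b i j) + res (dvd_snd i j k) (b j k) - res (dvd_mid i j k) (b i k)

theorem isUnit_of_down {n : ℕ} {x : A} {z : L f (n + 1) x} (hz : IsUnit (down (Nat.le_succ n) z)) : IsUnit z := by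
  obtain ⟨y, hy⟩ := hz.exists_right_inv
  obtain ⟨y, rfl⟩ := mp_surjective (Nat.le_succ n) x y
  have h0 : mp (Nat.le_succ n) (dvd_refl x) (z * y - 1) = 0 := by
    rw [map_sub, map_mul, map_one, sub_eq_zero]; exact hy
  obtain ⟨w, hw⟩ := mem_ker_mp _ h0
  refine IsUnit.of_mul_eq_one (y * (1 - f ^ (n + 1) • w)) ?_
  rw [← mul_assoc, show z * y = 1 + f ^ (n + 1) • w by rw [← hw]; ring]
  have h2 : (f ^ (n + 1) • w : L f (n + 1) x) * (f ^ (n + 1) • w) = 0 := by
    rw [smul_mul_smul_comm, ← pow_add, Algebra.smul_def, pow_eq_zero (n + 1) (by omega) x, zero_mul]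
  linear_combination -h2

section

variable [Fact (IsSMulRegular A f)]

/-- Inclusion of the hypersurface layer. -/
noncomputable def top (n : ℕ) (x : A) : L f 0 x →ₗ[A] L f (n + 1) x := mu (n + 1) (Nat.zero_add _) x

theorem top_injective (n : ℕ) (x : A) : Function.Injective (top (f := f) n x) := mu_injective _ _ _

theorem down_top (n : ℕ) {x : A} (z : L f 0 x) : down (Nat.le_succ n) (top n x z) = 0 :=
  mp_mu_eq_zero _ _ (Nat.lt_succ_self n) _ z

theorem exists_top {n : ℕ} {x : A} {z : L f (n + 1) x} (hz : down (Nat.le_succ n) z = 0) :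
    ∃ w, top n x w = z := exists_mu (n + 1) _ rfl _ hz

theorem res_top (n : ℕ) {x y : A} (h : x ∣ y) (z : L f 0 x) : res h (top n x z) = top n y (res h z) :=
  mp_mu _ _ _ _ h z

theorem mul_top (n : ℕ) {x : A} (a : L f (n + 1) x) (z : L f 0 x) :
    a * top n x z = top n x (down (Nat.zero_le _) a * z) := (mu_mul _ _ _ _ _).symm

theorem top_mul_top (n : ℕ) {x : A} (a b : L f 0 x) : top n x a * top n x b = 0 := by
  rw [mul_top, down, top, mp_mu_eq_zero _ _ (Nat.succ_pos n), zero_mul, map_zero]

theorem res_isUnit {n : ℕ} {x y : A} (h : x ∣ y) {z : L f n x} (hz : IsUnit z) : IsUnit (res h z) := hz.map _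

theorem cocycle_of_key {n : ℕ} (v : ∀ i j, O2 f g (n + 1) i j) (hvu : ∀ i j, IsUnit (v i j))
    (c : ∀ i j k, O3 f g 0 i j k)
    (hkey : ∀ i j k, res (dvd_mul_right (g i * g j) (g k)) (v i j) * res (dvd_snd i j k) (v j k) =
      res (dvd_mid i j k) (v i k) * (1 + top n _ (c i j k))) (i j k l : ι) :
    res (⟨g i, by ring⟩ : g j * g k * g l ∣ g i * g j * g k * g l) (c j k l)
        - res (⟨g j, by ring⟩ : g i * g k * g l ∣ g i * g j * g k * g l) (c i k l)
        + res (⟨g k, by ring⟩ : g i * g j * g l ∣ g i * g j * g k * g l) (c i j l)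
        - res (dvd_mul_right (g i * g j * g k) (g l)) (c i j k) = 0 := by
  let Q := g i * g j * g k * g l
  have d12 : g i * g j ∣ Q := (dvd_mul_right _ (g k)).trans (dvd_mul_right _ _)
  have d23 : g j * g k ∣ Q := (dvd_snd i j k).trans (dvd_mul_right _ _)
  have d34 : g k * g l ∣ Q := ⟨g i * g j, by simp only [Q]; ring⟩
  have d13 : g i * g k ∣ Q := (dvd_mid i j k).trans (dvd_mul_right _ _)
  have d14 : g i * g l ∣ Q := ⟨g j * g k, by simp only [Q]; ring⟩
  have d24 : g j * g l ∣ Q := ⟨g i * g k, by simp only [Q]; ring⟩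
  have k1 := congrArg (res (dvd_mul_right (g i * g j * g k) (g l))) (hkey i j k)
  have k2 := congrArg (res (⟨g j, by ring⟩ : g i * g k * g l ∣ Q)) (hkey i k l)
  have k3 := congrArg (res (⟨g k, by ring⟩ : g i * g j * g l ∣ Q)) (hkey i j l)
  have k4 := congrArg (res (⟨g i, by ring⟩ : g j * g k * g l ∣ Q)) (hkey j k l)
  simp only [map_mul, map_add, map_one, res_res, res_top] at k1 k2 k3 k4
  set t1 := top n Q (res (dvd_mul_right (g i * g j * g k) (g l)) (c i j k))
  set t2 := top n Q (res (⟨g j, by ring⟩ : g i * g k * g l ∣ Q) (c i k l))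
  set t3 := top n Q (res (⟨g k, by ring⟩ : g i * g j * g l ∣ Q) (c i j l))
  set t4 := top n Q (res (⟨g i, by ring⟩ : g j * g k * g l ∣ Q) (c j k l))
  have main : res d14 (v i l) * ((1 + t2) * (1 + t1)) = res d14 (v i l) * ((1 + t3) * (1 + t4)) := by
    linear_combination -(1 + t1) * k2 - res d34 (v k l) * k1 + res d12 (v i j) * k4 + (1 + t4) * k3
  have hcancel := (res_isUnit d14 (hvu i l)).mul_left_cancel main
  rw [mul_add, add_mul, add_mul, mul_add, add_mul, add_mul, top_mul_top, top_mul_top] at hcancel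
  refine top_injective n Q ?_
  rw [map_zero, map_sub, map_add, map_sub]
  linear_combination -hcancel

/-- **A unit cocycle lifts to the next thickening.** -/
theorem exists_succ (h2 : H2Vanish f g) {n : ℕ} (u : ∀ i j, O2 f g n i j) (hu : ∀ i j, IsUnit (u i j))
    (hc : IsCoc u) : ∃ v : ∀ i j, O2 f g (n + 1) i j,
      (∀ i j, IsUnit (v i j)) ∧ IsCoc v ∧ ∀ i j, down (Nat.le_succ n) (v i j) = u i j := by
  classical
  choose v hv using fun i j => mp_surjective (Nat.le_succ n) (g i * g j) (u i j)
  have hvu : ∀ i j, IsUnit (v i j) := fun i j => isUnit_of_down (by rw [down, hv]; exact hu i j)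
  let e : ∀ i j k, O3 f g (n + 1) i j k := fun i j k =>
    res (dvd_mul_right (g i * g j) (g k)) (v i j) * res (dvd_snd i j k) (v j k) *
      ↑(res_isUnit (dvd_mid i j k) (hvu i k)).unit⁻¹ - 1
  have he : ∀ i j k, down (Nat.le_succ n) (e i j k) = 0 := by
    intro i j k
    have hv' : ∀ a b, down (Nat.le_succ n) (v a b) = u a b := hv
    simp only [e, map_sub, map_mul, map_one, down_res]
    rw [hv', hv']
    rw [hc i j k, sub_eq_zero]
    have h := congrArg (mp (Nat.le_succ n) (dvd_refl _)) (res_isUnit (dvd_mid i j k) (hvu i k)).mul_val_inv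
    rwa [map_mul, map_one, ← down, down_res, down, hv] at h
  choose c hce using fun i j k => exists_top (he i j k)
  have hkey : ∀ i j k, res (dvd_mul_right (g i * g j) (g k)) (v i j) * res (dvd_snd i j k) (v j k) =
      res (dvd_mid i j k) (v i k) * (1 + top n _ (c i j k)) := by
    intro i j k
    rw [hce]
    simp only [e]
    have h := (res_isUnit (dvd_mid i j k) (hvu i k)).mul_val_inv
    linear_combination (-(res (dvd_mul_right (g i * g j) (g k)) (v i j) * res (dvd_snd i j k) (v j k))) * h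
  obtain ⟨b, hb⟩ := h2 c (cocycle_of_key v hvu c hkey)
  refine ⟨fun i j => v i j * (1 - top n _ (b i j)), fun i j => (hvu i j).mul ?_, fun i j k => ?_, fun i j => ?_⟩
  · refine IsUnit.of_mul_eq_one (1 + top n _ (b i j)) ?_
    linear_combination -(top_mul_top n (b i j) (b i j))
  · simp only [map_mul, map_sub, map_one, res_top]
    set x := top n (g i * g j * g k) (res (dvd_mul_right (g i * g j) (g k)) (b i j))
    set y := top n (g i * g j * g k) (res (dvd_snd i j k) (b j k))
    set w := top n (g i * g j * g k) (res (dvd_mid i j k) (b i k))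
    have hc' : top n (g i * g j * g k) (c i j k) = x + y - w := by rw [hb i j k, map_sub, map_add]
    have hxy : x * y = 0 := top_mul_top _ _ _
    have hcx : top n (g i * g j * g k) (c i j k) * x = 0 := top_mul_top _ _ _
    have hcy : top n (g i * g j * g k) (c i j k) * y = 0 := top_mul_top _ _ _
    linear_combination ((1 - x) * (1 - y)) * hkey i j k + res (dvd_mid i j k) (v i k) *
      (hc' + (1 + top n (g i * g j * g k) (c i j k)) * hxy - hcx - hcy)
  · rw [map_mul, map_sub, map_one, down_top, sub_zero, mul_one, down, hv]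

/-- A compatible system of unit cocycles. -/
structure Tower (f : A) (g : ι → A) where
  v : ∀ n i j, O2 f g n i j
  isUnit : ∀ n i j, IsUnit (v n i j)
  coc : ∀ n, IsCoc (v n)
  down_succ : ∀ n i j, down (Nat.le_succ n) (v (n + 1) i j) = v n i j

theorem exists_tower (h2 : H2Vanish f g) (u : ∀ i j, O2 f g 0 i j) (hu : ∀ i j, IsUnit (u i j)) (hc : IsCoc u) :
    ∃ T : Tower f g, T.v 0 = u := by
  classical
  choose nxt h1 h2' h3 using fun (n : ℕ) (v : {v : ∀ i j, O2 f g n i j // (∀ i j, IsUnit (v i j)) ∧ IsCoc v}) =>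
    exists_succ h2 v.1 v.2.1 v.2.2
  let seq : ∀ n, {v : ∀ i j, O2 f g n i j // (∀ i j, IsUnit (v i j)) ∧ IsCoc v} := fun n =>
    Nat.rec ⟨u, hu, hc⟩ (fun n v => ⟨nxt n v, h1 n v, h2' n v⟩) n
  exact ⟨⟨fun n => (seq n).1, fun n => (seq n).2.1, fun n => (seq n).2.2, fun n => h3 n (seq n)⟩, rfl⟩

theorem Tower.down_eq (T : Tower f g) {m n : ℕ} (h : m ≤ n) (i j : ι) : down h (T.v n i j) = T.v m i j := by
  induction n, h using Nat.le_induction with
  | base => exact mp_self _
  | succ n hmn ih => rw [← down_down (Nat.le_succ n) hmn, T.down_succ, ih]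

end

end Groth.Agent.PicLiftLib
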